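import Groth.Agent.DimFormulaLib.Equidim
import Groth.Prelude.Def_Curv2
import Groth.Agent.GeomIrred.CurvPoint

/-!
Dimension theory of schemes locally of finite type over a field.
-/

set_option autoImplicit false

universe u

open CategoryTheory AlgebraicGeometry Topology TopologicalSpace

namespace Groth.Agent.DimFormulaLib

theorem trdeg_of_surjective {k K L : Type u} [Field k] [Field K] [Field L] [Algebra k K] [Algebra K L] [Algebra k L]
    [IsScalarTower k K L] (h : Function.Surjective (algebraMap k K)) : Algebra.trdeg K L = Algebra.trdeg k L := by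
  haveI : Algebra.IsAlgebraic k K := ⟨fun x => by obtain ⟨a, rfl⟩ := h x; exact isAlgebraic_algebraMap a⟩
  rw [← trdeg_add_eq k K (A := L), trdeg_eq_zero (R := k) (A := K), zero_add]

variable (k : Type u) [Field k]

instance : Subsingleton ↥(Spec (CommRingCat.of k)) := inferInstanceAs (Subsingleton (PrimeSpectrum k))

theorem evaluation_surjective (y : Spec (CommRingCat.of k)) :
    Function.Surjective fun r : k =>
      (Spec (CommRingCat.of k)).Γevaluation y ((Scheme.ΓSpecIso (CommRingCat.of k)).inv r) := by
  intro z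
  haveI : y.asIdeal.IsMaximal :=
    (Ideal.eq_bot_or_top y.asIdeal).resolve_right y.isPrime.ne_top ▸ Ideal.bot_isMaximal
  obtain ⟨r, hr⟩ := Ideal.algebraMap_residueField_surjective y.asIdeal
    ((Scheme.Spec.residueFieldIso (CommRingCat.of k) y).hom z)
  refine ⟨r, ?_⟩
  refine (congrArg (fun g => g r) (Scheme.Spec.algebraMap_residueFieldIso_inv (CommRingCat.of k) y)).symm.trans ?_
  change (Scheme.Spec.residueFieldIso (CommRingCat.of k) y).inv (algebraMap k _ r) = z
  rw [hr]
  exact Iso.hom_inv_id_apply _ z

theorem resTrdegAt_over (X : Scheme.{u}) [X.Over (Spec (CommRingCat.of k))] (x : X) :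
    resTrdegAt (X ↘ Spec (CommRingCat.of k)) x =
      letI := Curv2.resAlgebra k X x
      Algebra.trdeg k (X.residueField x) := by
  set f := X ↘ Spec (CommRingCat.of k) with hf
  letI := Curv2.resAlgebra k X x
  letI := (f.residueFieldMap x).hom.toAlgebra
  let ψ : k →+* (Spec (CommRingCat.of k)).residueField (f x) :=
    ((Spec (CommRingCat.of k)).Γevaluation (f x)).hom.comp (Scheme.ΓSpecIso (CommRingCat.of k)).inv.hom
  letI := ψ.toAlgebra
  haveI : IsScalarTower k ((Spec (CommRingCat.of k)).residueField (f x)) (X.residueField x) :=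
    .of_algebraMap_eq fun r => (Scheme.Γevaluation_naturality_apply f x _).symm
  exact trdeg_of_surjective (evaluation_surjective k (f x))

theorem isField_stalk (y : Spec (CommRingCat.of k)) :
    IsField ((Spec (CommRingCat.of k)).presheaf.stalk y) ∧
      CAlg.IsUniversallyCatenary ((Spec (CommRingCat.of k)).presheaf.stalk y) := by
  let e : (Spec (CommRingCat.of k)).presheaf.stalk y ≃+* Localization.AtPrime y.asIdeal :=
    (AlgebraicGeometry.Spec.stalkIso (CommRingCat.of k) y).commRingCatIsoToRingEquiv
  have hs : Function.Surjective (algebraMap k (Localization.AtPrime y.asIdeal)) :=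
    (Field.localization_map_bijective (M := y.asIdeal.primeCompl) fun h => h y.asIdeal.zero_mem).2
  let g : k →+* (Spec (CommRingCat.of k)).presheaf.stalk y := e.symm.toRingHom.comp (algebraMap k _)
  have hg : Function.Surjective g := e.symm.surjective.comp hs
  exact ⟨(RingEquiv.ofBijective g ⟨g.injective, hg⟩).toMulEquiv.symm.isField (Field.toIsField k),
    RatliffLib.isUniversallyCatenary_of_surjective g hg (isUniversallyCatenary_field k)⟩

variable {k}
variable {X : Scheme.{u}} (f : X ⟶ Spec (CommRingCat.of k)) [LocallyOfFiniteType f]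

/-- The fibre of a scheme over a field is the scheme itself, topologically. -/
theorem isHomeomorph_fiberι (y : Spec (CommRingCat.of k)) : IsHomeomorph (f.fiberι y) := by
  refine isHomeomorph_iff_isEmbedding_surjective.2 ⟨(f.fiberι y).isEmbedding, fun x => ?_⟩
  rw [← Set.mem_range, f.range_fiberι y]
  exact Subsingleton.elim (f x) y

/-- Dimensions at a point of a scheme over a field. -/
theorem field_dims (x : X) :
    ∃ a t : ℕ, ringKrullDim (X.presheaf.stalk x) = (a : WithBot ℕ∞) ∧ resTrdegAt f x = t ∧
      FlatMor.localDim ↥X x = ((a + t : ℕ) : WithBot ℕ∞) ∧ Order.height x = t := by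
  haveI : IsLocallyNoetherian (Spec (CommRingCat.of k)) := inferInstance
  obtain ⟨c⟩ := exists_chart f x
  obtain ⟨a, b, d, t, ha, hb, hd, ht, hloc, -, -, hle, -⟩ := c.dims
  let e : ↥(f.fiber (f x)) ≃o ↥X :=
    { toEquiv := (isHomeomorph_fiberι f (f x)).homeomorph.toEquiv
      map_rel_iff' := fun {u v} => (f.fiberι (f x)).isEmbedding.isInducing.specializes_iff }
  have he : e (f.asFiber x) = x := f.fiberι_asFiber x
  have hda : d = a := by
    have h := Order.coheight_orderIso e (f.asFiber x)
    rw [he] at h
    rw [ringKrullDim_stalk_eq_coheight] at ha hd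
    rw [← h] at hd
    exact_mod_cast hd.symm.trans ha
  have htr : resTrdegAt f x = t := c.resTrdegAt_self.trans ht
  refine ⟨a, t, ha, htr, ?_, ?_⟩
  · rw [localDim_eq_fibreDimAt_of_subsingleton f x, hloc, hda]
  · have h := height_in_fibre f (f x) (f.asFiber x) t (by
      rw [show (f.fiberHomeo (f x) (f.asFiber x)).1 = x from f.fiberι_asFiber x]; exact htr)
    rw [← he, Order.height_orderIso, h]

include f in
theorem localDim_eq_of_isClosed (x : X) (hx : IsClosed ({x} : Set X)) :
    FlatMor.localDim ↥X x = ringKrullDim (X.presheaf.stalk x) := by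
  obtain ⟨a, t, ha, -, hloc, hh⟩ := field_dims f x
  have h0 : Order.height x = 0 := Order.height_eq_zero.2 fun w hw => by
    have : w = x := by
      have h1 := (Scheme.le_iff_specializes.1 hw).mem_closed hx rfl
      exact h1
    rw [this]
  rw [hh] at h0
  have : t = 0 := by exact_mod_cast h0
  rw [hloc, ha, this, add_zero]

include f in
theorem topologicalKrullDim_eq_trdeg [IrreducibleSpace X] (n : ℕ) (hn : resTrdegAt f (genericPoint X) = n) :
    topologicalKrullDim ↥X = (n : WithBot ℕ∞) := by
  obtain ⟨a, t, -, ht, -, hh⟩ := field_dims f (genericPoint X)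
  have htn : t = n := by exact_mod_cast ht.symm.trans hn
  have h := topologicalKrullDim_closure_singleton (genericPoint X)
  rw [hh, (genericPoint_spec X).def] at h
  rw [← IsHomeomorph.topologicalKrullDim_eq _ (Homeomorph.Set.univ ↥X).isHomeomorph, h, htn]
  rfl

include f in
theorem topologicalKrullDim_opens [IrreducibleSpace X] (U : X.Opens) (hU : (U : Set X).Nonempty) :
    topologicalKrullDim ↥U = topologicalKrullDim ↥X := by
  obtain ⟨-, n, -, hn, -, -⟩ := field_dims f (genericPoint X)
  haveI : IrreducibleSpace ↥U.toScheme := by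
    haveI : Nonempty ↥U.toScheme := ⟨⟨_, hU.choose_spec⟩⟩
    haveI : PreirreducibleSpace ↥U := Subtype.preirreducibleSpace ((PreirreducibleSpace.isPreirreducible_univ (X := ↥X)).open_subset U.isOpen (Set.subset_univ _))
    exact { toPreirreducibleSpace := ‹PreirreducibleSpace ↥U›, toNonempty := ‹Nonempty ↥U.toScheme› }
  have hg : U.ι (genericPoint U.toScheme) = genericPoint X := genericPoint_eq_of_isOpenImmersion U.ι
  have h : resTrdegAt (U.ι ≫ f) (genericPoint U.toScheme) = n := by
    rw [resTrdegAt_ι f]
    rw [hg]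
    exact hn
  rw [topologicalKrullDim_eq_trdeg f n hn]
  exact topologicalKrullDim_eq_trdeg (U.ι ≫ f) n h

include f in
theorem trdeg_immediate (x x' : X) (hne : x ≠ x') (hsp : x ⤳ x')
    (himm : ∀ y : X, x ⤳ y → y ⤳ x' → y = x ∨ y = x') (n : ℕ) (hn : resTrdegAt f x' = n) :
    resTrdegAt f x = ((n + 1 : ℕ) : Cardinal.{u}) := by
  obtain ⟨c⟩ := exists_chart f x'
  haveI := c.isNoetherianRing
  haveI : IsNoetherianRing c.B := Algebra.FiniteType.isNoetherianRing c.A c.B
  obtain ⟨P, hP, rfl⟩ := c.exists_le hsp
  obtain ⟨T, hT⟩ := exists_nat_trdeg_quotient_pair (A := c.A) P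
  obtain ⟨t', ht'⟩ := exists_nat_trdeg_quotient_pair (A := c.A) c.q
  obtain ⟨r, b, hr, hb, -, heq⟩ := formula_component hP T t' hT ht'
  have e := heq (c.catAbove (isField_stalk k _).2)
  have hπ : PrimeSpectrum.comap (algebraMap c.A c.B) P = c.p :=
    c.i.isOpenEmbedding.injective (Subsingleton.elim _ _)
  have hr1 : r = 1 := by
    have hlt : P < c.q := lt_of_le_of_ne hP fun h => hne (by rw [h, c.hq])
    have h1 := relHeight_covBy (P := P) (Q := c.q) ⟨hlt, fun P' h1 h2 => by
      rcases himm (c.j P') (((PrimeSpectrum.le_iff_specializes _ _).1 h1.le).map c.j.continuous) (c.specializes h2.le)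
        with h | h
      · exact h1.ne' (c.j.isOpenEmbedding.injective h)
      · exact h2.ne (c.j.isOpenEmbedding.injective (h.trans c.hq.symm))⟩
    exact_mod_cast hr.symm.trans h1
  have hb0 : b = 0 := by
    have h0 : relHeight c.p c.p = (b : ℕ∞) := by rw [← hb, hπ]; rfl
    rw [relHeight_self] at h0
    exact_mod_cast h0.symm
  have hnt : t' = n := by exact_mod_cast ((c.resTrdegAt_self.trans ht').symm.trans hn)
  rw [c.resTrdegAt_eq, hT]
  exact_mod_cast (by omega : T = n + 1)

end Groth.Agent.DimFormulaLib
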