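import Groth.Agent.DimFormulaLib.Closed

/-!
Dimension of the source over a universally catenary base.
-/

set_option autoImplicit false

universe u

open CategoryTheory AlgebraicGeometry Topology TopologicalSpace

namespace Groth.Agent.DimFormulaLib

variable {X Y : Scheme.{u}} (f : X ⟶ Y) [LocallyOfFiniteType f]

/-- In a nonempty fibre some point has algebraic residue extension. -/
theorem exists_resTrdegAt_zero (x : X) : ∃ x' : X, f x' = f x ∧ resTrdegAt f x' = 0 := by
  obtain ⟨c⟩ := exists_chart f x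
  haveI : c.q.asIdeal.LiesOver c.p.asIdeal := ⟨rfl⟩
  obtain ⟨M, hM, hQM⟩ := Ideal.exists_le_maximal c.Q.asIdeal c.Q.isPrime.ne_top
  haveI := hM.isPrime'
  let e := PrimeSpectrum.preimageEquivFiber c.A c.B c.p
  let P := (e.symm ⟨M, inferInstance⟩).1
  have hP : PrimeSpectrum.comap (algebraMap c.A c.B) P = c.p := (e.symm ⟨M, inferInstance⟩).2
  refine ⟨c.j P, by rw [c.apply_j, hP]; exact c.hp, ?_⟩
  rw [c.resTrdegAt_eq, exists_fibre_component.trdeg_quotient_congr hP]
  haveI : P.asIdeal.LiesOver c.p.asIdeal := ⟨(congrArg PrimeSpectrum.asIdeal hP).symm⟩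
  rw [← trdeg_fibre c.p.asIdeal P.asIdeal M rfl]
  haveI : Module.Finite c.p.asIdeal.ResidueField (c.p.asIdeal.Fiber c.B ⧸ M) :=
    haveI : IsField (c.p.asIdeal.Fiber c.B ⧸ M) := (Ideal.Quotient.maximal_ideal_iff_isField_quotient M).1 hM
    letI := this.toField
    finite_of_finite_type_of_isJacobsonRing c.p.asIdeal.ResidueField (c.p.asIdeal.Fiber c.B ⧸ M)
  exact trdeg_eq_zero

variable [IrreducibleSpace X] [IrreducibleSpace Y] [IsLocallyNoetherian Y]

theorem topologicalKrullDim_eq_iSup_range_add (hf : DenseRange f)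
    (hY : ∀ y : Y, CAlg.IsUniversallyCatenary (Y.presheaf.stalk y)) (n : ℕ)
    (hn : topologicalKrullDim ↥(f.fiber (genericPoint Y)) = n) :
    topologicalKrullDim ↥X = (⨆ y ∈ Set.range f, ringKrullDim (Y.presheaf.stalk y)) + n := by
  refine le_antisymm ?_ ?_
  · rw [topologicalKrullDim_eq_iSup_stalk]
    refine iSup_le fun x => ?_
    obtain ⟨a, b, d, t', m, ha, hb, -, -, -, hgen, -, -, -, hle, -⟩ := irreducible_dims f hf x
    rw [hn] at hgen
    have hm : n = m := by exact_mod_cast hgen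
    rw [ha]
    refine le_trans (show (a : WithBot ℕ∞) ≤ (b : WithBot ℕ∞) + n by exact_mod_cast (by omega : a ≤ b + n)) ?_
    exact add_le_add (hb ▸ le_iSup₂ (f := fun y (_ : y ∈ Set.range f) => ringKrullDim (Y.presheaf.stalk y))
      (f x) ⟨x, rfl⟩) le_rfl
  · haveI : Nonempty ↥X := ⟨genericPoint X⟩
    haveI : Nonempty (Set.range f) := ⟨⟨_, genericPoint X, rfl⟩⟩
    obtain ⟨bot, hbot⟩ : ∃ D : ℕ∞, (⨆ y ∈ Set.range f, ringKrullDim (Y.presheaf.stalk y)) = (D : WithBot ℕ∞) := by
      refine ⟨_, (WithBot.coe_unbot _ ?_).symm⟩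
      intro h
      have := (le_iSup₂ (f := fun y (_ : y ∈ Set.range f) => ringKrullDim (Y.presheaf.stalk y))
        (f (genericPoint X)) ⟨_, rfl⟩).trans_eq h
      obtain ⟨a, b, d, t', m, -, hb, -⟩ := irreducible_dims f hf (genericPoint X)
      rw [hb, le_bot_iff] at this
      exact WithBot.coe_ne_bot this
    have key : ∀ y ∈ Set.range f, ringKrullDim (Y.presheaf.stalk y) + n ≤ topologicalKrullDim ↥X := by
      rintro _ ⟨x₀, rfl⟩
      obtain ⟨x, hx, ht0⟩ := exists_resTrdegAt_zero f x₀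
      obtain ⟨a, b, d, t', m, ha, hb, -, ht', -, hgen, -, -, -, -, heq⟩ := irreducible_dims f hf x
      rw [hn] at hgen
      have hm : n = m := by exact_mod_cast hgen
      have h0 : t' = 0 := by exact_mod_cast ht'.symm.trans ht0
      have := heq (hY _)
      rw [← hx, hb, topologicalKrullDim_eq_iSup_stalk]
      refine le_trans ?_ (le_iSup (fun z : ↥X => ringKrullDim (X.presheaf.stalk z)) x)
      rw [ha]
      exact_mod_cast (by omega : b + n ≤ a)
    obtain ⟨X', hX'⟩ : ∃ D : ℕ∞, topologicalKrullDim ↥X = (D : WithBot ℕ∞) := by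
      refine ⟨_, (WithBot.coe_unbot _ ?_).symm⟩
      intro h
      have := key _ ⟨genericPoint X, rfl⟩
      obtain ⟨a, b, d, t', m, -, hb, -⟩ := irreducible_dims f hf (genericPoint X)
      rw [h, hb, le_bot_iff] at this
      exact WithBot.coe_ne_bot (show ((b + n : ℕ) : WithBot ℕ∞) = ⊥ by exact_mod_cast this)
    rw [hbot, hX', show ((n : ℕ) : WithBot ℕ∞) = ((n : ℕ∞) : WithBot ℕ∞) from rfl, ← WithBot.coe_add,
      WithBot.coe_le_coe]
    have hb : (⨆ y : Set.range f, (ringKrullDim (Y.presheaf.stalk y.1)).unbotD 0) = bot := by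
      refine le_antisymm (iSup_le fun y => ?_) ?_
      · have h := (le_iSup₂ (f := fun y (_ : y ∈ Set.range f) => ringKrullDim (Y.presheaf.stalk y)) y.1 y.2).trans_eq hbot
        rcases hd : ringKrullDim (Y.presheaf.stalk y.1) with _ | D
        · exact bot_le
        · rw [hd] at h
          exact WithBot.coe_le_coe.1 h
      · refine WithBot.coe_le_coe.1 (hbot ▸ iSup₂_le fun y hy => ?_)
        refine le_trans (WithBot.le_coe_unbotD _ (0 : ℕ∞)) (WithBot.coe_le_coe.2 ?_)
        exact le_iSup (fun y : Set.range f => (ringKrullDim (Y.presheaf.stalk y.1)).unbotD 0) ⟨y, hy⟩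
    rw [← hb, ENat.iSup_add]
    refine iSup_le fun y => ?_
    have h := key y.1 y.2
    rcases hd : ringKrullDim (Y.presheaf.stalk y.1) with _ | D
    · obtain ⟨x₀, hx₀⟩ := y.2
      obtain ⟨a, b, d, t', m, -, hb', -⟩ := irreducible_dims f hf x₀
      rw [hx₀, hd] at hb'
      exact absurd hb'.symm WithBot.coe_ne_bot
    · rw [hd, hX'] at h
      exact WithBot.coe_le_coe.1 h

end Groth.Agent.DimFormulaLib
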