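import Groth.Agent.DimFormulaLib.Field

/-!
Dimensions along specializations, and of dense opens.
-/

set_option autoImplicit false

universe u

open CategoryTheory AlgebraicGeometry Topology TopologicalSpace

namespace Groth.Agent.DimFormulaLib

theorem localDim_le_of_specializes {X : Type u} [TopologicalSpace X] {x x' : X} (h : x ⤳ x') :
    FlatMor.localDim X x ≤ FlatMor.localDim X x' :=
  le_iInf fun U => iInf_le_of_le ⟨U.1, h.mem_open U.1.isOpen U.2⟩ le_rfl

/-- Strict monotonicity of the stalk dimension in a scheme over a field. -/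
theorem stalk_dim_lt {k : Type u} [Field k] {X : Scheme.{u}} (f : X ⟶ Spec (CommRingCat.of k))
    [LocallyOfFiniteType f] {x x' : X} (h : x ⤳ x') (hne : x ≠ x') :
    ringKrullDim (X.presheaf.stalk x) < ringKrullDim (X.presheaf.stalk x') := by
  obtain ⟨a, t, ha, -, -, -⟩ := field_dims f x
  rw [ringKrullDim_stalk_eq_coheight] at ha ⊢
  rw [ringKrullDim_stalk_eq_coheight]
  have hfin : Order.coheight x ≠ ⊤ := fun he => by rw [he] at ha; cases ha
  have hlt : x' < x := lt_of_le_not_ge (Scheme.le_iff_specializes.2 h)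
    fun h' => hne (h.antisymm (Scheme.le_iff_specializes.1 h')).eq
  exact WithBot.coe_lt_coe.2 (Order.coheight_strictAnti hlt hfin.lt_top)

/-- Within one fibre the transcendence degree strictly decreases, over any base ring. -/
theorem trdeg_lt_of_lt_in_fibre' {A B : Type u} [CommRing A] [CommRing B] [Algebra A B] [Algebra.FiniteType A B]
    {P P' : PrimeSpectrum B} (h : P < P')
    (hp : PrimeSpectrum.comap (algebraMap A B) P = PrimeSpectrum.comap (algebraMap A B) P') (t t' : ℕ)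
    (ht₀ : Algebra.trdeg (A ⧸ (PrimeSpectrum.comap (algebraMap A B) P).asIdeal) (B ⧸ P.asIdeal) = t)
    (ht' : Algebra.trdeg (A ⧸ (PrimeSpectrum.comap (algebraMap A B) P').asIdeal) (B ⧸ P'.asIdeal) = t') : t' < t := by
  let p := PrimeSpectrum.comap (algebraMap A B) P'
  have hP : PrimeSpectrum.comap (algebraMap A B) P = p := hp
  have hP' : PrimeSpectrum.comap (algebraMap A B) P' = p := rfl
  have ht := (exists_fibre_component.trdeg_quotient_congr hP).symm.trans ht₀
  haveI : P.asIdeal.LiesOver p.asIdeal := ⟨(congrArg PrimeSpectrum.asIdeal hP).symm⟩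
  haveI : P'.asIdeal.LiesOver p.asIdeal := ⟨(congrArg PrimeSpectrum.asIdeal hP').symm⟩
  let e := PrimeSpectrum.preimageOrderIsoFiber A B p
  let Q := e ⟨P, hP⟩
  let Q' := e ⟨P', hP'⟩
  have hlt : Q < Q' := e.lt_iff_lt.2 h
  have hc : ∀ x, (e x).asIdeal.comap
      (Algebra.TensorProduct.includeRight : B →ₐ[A] p.asIdeal.Fiber B).toRingHom = x.1.asIdeal := fun x =>
    congrArg (fun y => y.1.asIdeal) (e.symm_apply_apply x)
  obtain ⟨a, ha, hat⟩ := trdeg_eq_relHeight_add p.asIdeal.ResidueField (p.asIdeal.Fiber B) hlt.le t t'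
    (by rw [trdeg_fibre p.asIdeal P.asIdeal Q.asIdeal (hc _), ht])
    (by rw [trdeg_fibre p.asIdeal P'.asIdeal Q'.asIdeal (hc _), ht'])
  haveI : IsNoetherianRing (p.asIdeal.Fiber B) := Algebra.FiniteType.isNoetherianRing p.asIdeal.ResidueField _
  have h1 := one_add_relHeight_le hlt le_rfl
  rw [relHeight_self, zero_add, ha] at h1
  have e1 : 1 ≤ a := by exact_mod_cast h1
  omega

theorem trdeg_lt_of_specializes {X S : Scheme.{u}} (f : X ⟶ S) [LocallyOfFiniteType f] (x x' : X)
    (hsp : x ⤳ x') (hne : x ≠ x') (hfx : f x = f x') : resTrdegAt f x' < resTrdegAt f x := by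
  obtain ⟨c⟩ := exists_chart f x'
  obtain ⟨P, hP, rfl⟩ := c.exists_le hsp
  have hp : PrimeSpectrum.comap (algebraMap c.A c.B) P = PrimeSpectrum.comap (algebraMap c.A c.B) c.q := by
    refine c.i.isOpenEmbedding.injective ?_
    rw [← c.apply_j, ← c.apply_j, hfx, c.hq]
  obtain ⟨t, ht⟩ := exists_nat_trdeg_quotient_pair (A := c.A) P
  obtain ⟨t', ht'⟩ := exists_nat_trdeg_quotient_pair (A := c.A) c.q
  have hlt := trdeg_lt_of_lt_in_fibre' (lt_of_le_of_ne hP fun e => hne (by rw [e, c.hq])) hp t t' ht ht'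
  rw [c.resTrdegAt_eq, c.resTrdegAt_self, ht]
  exact ht'.trans_lt (by exact_mod_cast hlt)

theorem mem_of_dense {X : Scheme.{u}} [IsLocallyNoetherian X] {U : Set X} (hU : IsOpen U) (hd : Dense U)
    {η : X} (hη : ∀ w : X, w ⤳ η → w = η) : η ∈ U := by
  obtain ⟨c⟩ := exists_chart (𝟙 X) η
  haveI := c.isNoetherianRing
  haveI : IsNoetherianRing c.B := Algebra.FiniteType.isNoetherianRing c.A c.B
  obtain ⟨g, hg, hgmin⟩ := exists_open_dim_le c.B c.q
  obtain ⟨w, ⟨P, hP, rfl⟩, hwU⟩ := hd.inter_open_nonempty (c.j ''ᵁ PrimeSpectrum.basicOpen g : X.Opens)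
    (c.j ''ᵁ PrimeSpectrum.basicOpen g : X.Opens).isOpen ⟨η, c.q, hg, c.hq⟩
  obtain ⟨P₀, hP₀, hP₀P⟩ := Ideal.exists_minimalPrimes_le (I := (⊥ : Ideal c.B)) (J := (P : PrimeSpectrum c.B).asIdeal) bot_le
  let P₁ : PrimeSpectrum c.B := ⟨P₀, hP₀.1.1⟩
  have h1 : P₁ ≤ c.q := hgmin P₀ hP₀ fun h => hP (hP₀P h)
  have h2 : c.j P₁ = η := hη _ (c.specializes h1)
  have h3 : c.j P₁ ⤳ c.j P :=
    ((PrimeSpectrum.le_iff_specializes P₁ P).1 hP₀P).map c.j.continuous
  rw [h2] at h3
  exact h3.mem_open hU hwU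

theorem exists_maximal_point {X : Scheme.{u}} (z : X) : ∃ η : X, η ⤳ z ∧ ∀ w : X, w ⤳ η → w = η := by
  obtain ⟨Z, hZ, hle⟩ := exists_mem_irreducibleComponents_subset_of_isIrreducible (closure ({z} : Set X))
    isIrreducible_singleton.closure
  obtain ⟨η, rfl, hη⟩ := exists_generic_of_mem_irreducibleComponents hZ
  exact ⟨η, specializes_iff_mem_closure.2 (hle (subset_closure rfl)), hη⟩

theorem topologicalKrullDim_le_of_components {X : Scheme.{u}} (D : WithBot ℕ∞)
    (h : ∀ η : X, (∀ w : X, w ⤳ η → w = η) → topologicalKrullDim ↥(closure ({η} : Set X)) ≤ D) :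
    topologicalKrullDim ↥X ≤ D := by
  rw [topologicalKrullDim, Order.krullDim_eq_of_orderIso (irreducibleSetEquivPoints (α := ↥X)),
    Order.krullDim_eq_iSup_height]
  refine iSup_le fun z => ?_
  obtain ⟨η, hηz, hη⟩ := exists_maximal_point z
  refine le_trans ?_ (h η hη)
  rw [topologicalKrullDim_closure_singleton]
  exact WithBot.coe_le_coe.2 (Order.height_mono hηz)

theorem topologicalKrullDim_dense_open (X : Scheme.{u}) [IsLocallyNoetherian X] [JacobsonSpace X]
    (h3 : ∀ X' ∈ irreducibleComponents (X : Type u), ∀ x ∈ X', IsClosed ({x} : Set X) →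
      topologicalKrullDim (↥X' : Type u) = topologicalKrullDim ↥{t : X | t ∈ X' ∧ t ⤳ x})
    (U : Set X) (hU : IsOpen U) (hd : Dense U) : topologicalKrullDim ↥U = topologicalKrullDim ↥X := by
  refine le_antisymm (topologicalKrullDim_subspace_le _ U) (topologicalKrullDim_le_of_components _ fun η hη => ?_)
  obtain ⟨x, ⟨hxη, hxU⟩, hx⟩ := nonempty_inter_closedPoints (Z := closure {η} ∩ U)
    ⟨η, subset_closure rfl, mem_of_dense hU hd hη⟩ (isClosed_closure.isLocallyClosed.inter hU.isLocallyClosed)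
  rw [h3 _ (closure_mem_irreducibleComponents hη) x hxη hx]
  have hsub : {t : X | t ∈ closure {η} ∧ t ⤳ x} ⊆ U := fun t ht => ht.2.mem_open hU hxU
  exact (IsEmbedding.inclusion hsub).isInducing.topologicalKrullDim_le

end Groth.Agent.DimFormulaLib
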