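import Groth.Agent.DimFormulaLib.FibrePoints
import Groth.Prelude.Def_EGA43

/-!
Equidimensional morphisms and the dimension formula (EGA IV 13.3).
-/

set_option autoImplicit false

universe u

open CategoryTheory AlgebraicGeometry Topology TopologicalSpace

namespace Groth.Agent.DimFormulaLib

variable {X Y : Scheme.{u}}

namespace Chart

variable {f : X ⟶ Y} {x : X}

/-- A point of a chart which is minimal in its fibre. -/
def MinInFibre (c : Chart f x) (P : PrimeSpectrum c.B) : Prop :=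
  ∀ P', P' ≤ P → PrimeSpectrum.comap (algebraMap c.A c.B) P' = PrimeSpectrum.comap (algebraMap c.A c.B) P → P' = P

theorem minInFibre_of_isMin (c : Chart f x) {P : PrimeSpectrum c.B} (h : IsMin P) : c.MinInFibre P :=
  fun _ hle _ => le_antisymm hle (h hle)

/-- At a minimal point of a fibre the fibre has dimension the transcendence degree. -/
theorem fibreDimAt_of_minInFibre (c : Chart f x) [IsLocallyNoetherian Y] {P : PrimeSpectrum c.B}
    (h : c.MinInFibre P) (t : ℕ)
    (ht : Algebra.trdeg (c.A ⧸ (PrimeSpectrum.comap (algebraMap c.A c.B) P).asIdeal) (c.B ⧸ P.asIdeal) = t) :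
    FlatMor.fibreDimAt f (c.j P) = (t : WithBot ℕ∞) ∧
      ringKrullDim ((f.fiber (f (c.j P))).presheaf.stalk (f.asFiber (c.j P))) = (0 : WithBot ℕ∞) := by
  obtain ⟨n, hn⟩ := (c.move P).exists_nat_fibreDimAt
  obtain ⟨P', hP', hP'p, -, hP'n⟩ := exists_fibre_component (A := (c.move P).A) (B := (c.move P).B) (c.move P).q (c.move P).Q (c.move P).comap_Q n hn
  have hPP' : P' = P := h P' hP' hP'p
  rw [hPP'] at hP'n
  have hnt : n = t := by exact_mod_cast hP'n.symm.trans ht
  obtain ⟨a, b, d, t', -, -, hd, ht', hloc, -, -, -, -⟩ := (c.move P).dims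
  have htt : t' = t := by exact_mod_cast ht'.symm.trans ht
  rw [(c.move P).fibreDimAt_eq, hn] at hloc
  have hd0 : d = 0 := by
    have : n = d + t' := by exact_mod_cast hloc
    omega
  exact ⟨by rw [(c.move P).fibreDimAt_eq, hn, hnt], by rw [hd, hd0]; rfl⟩

theorem exists_component (c : Chart f x) [IsLocallyNoetherian Y] :
    ∃ (P : PrimeSpectrum c.B) (n : ℕ), P ≤ c.q ∧ PrimeSpectrum.comap (algebraMap c.A c.B) P = c.p ∧ c.MinInFibre P ∧
      Algebra.trdeg (c.A ⧸ (PrimeSpectrum.comap (algebraMap c.A c.B) P).asIdeal) (c.B ⧸ P.asIdeal) = n ∧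
      FlatMor.fibreDimAt f x = (n : WithBot ℕ∞) := by
  obtain ⟨n, hn⟩ := c.exists_nat_fibreDimAt
  obtain ⟨P, hP, hPp, hmin, hPn⟩ := exists_fibre_component c.q c.Q c.comap_Q n hn
  exact ⟨P, n, hP, hPp, fun P' h h' => hmin P' h (h'.trans hPp), hPn, c.fibreDimAt_eq.trans hn⟩

/-- If a generization minimal in the fibre has the full fibre dimension and full height, the formula holds. -/
theorem formula_of_generization (c : Chart f x) [IsLocallyNoetherian Y]
    (hc : CatAbove c.A c.p.asIdeal) {P : PrimeSpectrum c.B} (hP : P ≤ c.q)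
    (hPp : PrimeSpectrum.comap (algebraMap c.A c.B) P = c.p) (hmin : c.MinInFibre P) (n : ℕ)
    (hPn : Algebra.trdeg (c.A ⧸ (PrimeSpectrum.comap (algebraMap c.A c.B) P).asIdeal) (c.B ⧸ P.asIdeal) = n)
    (hn : FlatMor.fibreDimAt f x = (n : WithBot ℕ∞))
    (hdim : ringKrullDim (X.presheaf.stalk (c.j P)) = ringKrullDim (Y.presheaf.stalk (f (c.j P)))) :
    ringKrullDim (X.presheaf.stalk x) =
      ringKrullDim (Y.presheaf.stalk (f x)) + ringKrullDim ((f.fiber (f x)).presheaf.stalk (f.asFiber x)) := by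
  haveI := c.isNoetherianRing
  haveI : IsNoetherianRing c.B := Algebra.FiniteType.isNoetherianRing c.A c.B
  obtain ⟨a, b, d, t', ha, hb, hd, ht', hloc, hqa, hpb, hle, -⟩ := c.dims
  obtain ⟨az, bz, dz, tz, haz, hbz, -, -, -, hzqa, hzpb, -, -⟩ := (c.move P).dims
  have hnd : n = d + t' := by exact_mod_cast hn.symm.trans hloc
  have habz : az = bz := by exact_mod_cast haz.symm.trans (hdim.trans hbz)
  have hbb : bz = b := by
    change (PrimeSpectrum.comap (algebraMap c.A c.B) P).asIdeal.height = bz at hzpb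
    rw [hPp, hpb] at hzpb
    exact_mod_cast hzpb.symm
  obtain ⟨P₀, -, hP₀, hP₀e⟩ := exists_isMin_relHeight_eq_height P
  obtain ⟨T, hT⟩ := exists_nat_trdeg_quotient_pair (A := c.A) P₀
  obtain ⟨a₁, b₁, h11, h12, -, heq1⟩ := formula_component hP₀ T n hT hPn
  obtain ⟨a₂, b₂, h21, h22, -, heq2⟩ := formula_component (hP₀.trans hP) T t' hT ht'
  have e1 := heq1 (hPp ▸ hc)
  have e2 := heq2 hc
  have h1 : a₁ = az := by
    have := h11.symm.trans (hP₀e.trans hzqa)
    exact_mod_cast this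
  have h2 : a₂ ≤ a := by
    have h := relHeight_le_height (hP₀.trans hP)
    rw [hqa, h21] at h
    exact_mod_cast h
  have h3 : b₁ = b₂ := by
    rw [hPp] at h12
    exact_mod_cast h12.symm.trans h22
  rw [ha, hb, hd]
  exact_mod_cast (by omega : a = b + d)

end Chart

variable (f : X ⟶ Y) [LocallyOfFiniteType f] [IsLocallyNoetherian Y]

/-- Condition (b) of EGA IV 13.2.11 gives (a). -/
theorem formula_of_generic_points (x : X) (hcat : CAlg.IsUniversallyCatenary (Y.presheaf.stalk (f x)))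
    (h : ∀ z : X, f z = f x → ringKrullDim ((f.fiber (f z)).presheaf.stalk (f.asFiber z)) = 0 →
      ringKrullDim (X.presheaf.stalk z) = ringKrullDim (Y.presheaf.stalk (f z))) :
    ringKrullDim (X.presheaf.stalk x) =
      ringKrullDim (Y.presheaf.stalk (f x)) + ringKrullDim ((f.fiber (f x)).presheaf.stalk (f.asFiber x)) := by
  obtain ⟨c⟩ := exists_chart f x
  obtain ⟨P, n, hP, hPp, hmin, hPn, hn⟩ := c.exists_component
  refine c.formula_of_generization (c.catAbove hcat) hP hPp hmin n hPn hn (h _ ?_ ?_)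
  · rw [c.apply_j, hPp]
    exact c.hp
  · exact (c.fibreDimAt_of_minInFibre hmin n hPn).2

/-- EGA IV 13.2.12 style criterion. -/
theorem formula_iff_exists_generization (x : X) (hcat : CAlg.IsUniversallyCatenary (Y.presheaf.stalk (f x))) :
    ringKrullDim (X.presheaf.stalk x) =
        ringKrullDim (Y.presheaf.stalk (f x)) + ringKrullDim ((f.fiber (f x)).presheaf.stalk (f.asFiber x)) ↔
      ∃ z : X, f z = f x ∧ z ⤳ x ∧ (∀ z' : X, f z' = f x → z' ⤳ z → z' = z) ∧
        FlatMor.fibreDimAt f z = FlatMor.fibreDimAt f x ∧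
        ringKrullDim (X.presheaf.stalk z) = ringKrullDim (Y.presheaf.stalk (f z)) := by
  obtain ⟨c⟩ := exists_chart f x
  haveI := c.isNoetherianRing
  haveI : IsNoetherianRing c.B := Algebra.FiniteType.isNoetherianRing c.A c.B
  constructor
  · intro h
    obtain ⟨a, b, d, t', ha, hb, hd, ht', hloc, hqa, hpb, hle, hT⟩ := c.dims
    rw [ha, hb, hd] at h
    have hab : a = b + d := by exact_mod_cast h
    obtain ⟨P₀, -, hP₀, hP₀e⟩ := exists_isMin_relHeight_eq_height c.q
    obtain ⟨T, hT₀⟩ := exists_nat_trdeg_quotient_pair (A := c.A) P₀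
    obtain ⟨a₂, b₂, h21, h22, hle2, -⟩ := formula_component hP₀ T t' hT₀ ht'
    have h1 : a₂ = a := by exact_mod_cast h21.symm.trans (hP₀e.trans hqa)
    have h2 : b₂ ≤ b := by
      have h := relHeight_le_height (P := PrimeSpectrum.comap (algebraMap c.A c.B) P₀) (p := c.p) (Ideal.comap_mono hP₀)
      rw [hpb] at h
      exact_mod_cast h22.symm.trans_le h
    have hTle := hT P₀ hP₀ T hT₀
    obtain ⟨P, hP₀P, hPq, hPp, hPT⟩ := exists_over_trdeg_ge hP₀ T hT₀
    obtain ⟨n, hPn⟩ := exists_nat_trdeg_quotient_pair (A := c.A) P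
    have hnle := hT P hPq n hPn
    have hTn : T ≤ n := by exact_mod_cast hPn ▸ hPT
    have hmin : c.MinInFibre P := fun P' hP' hP'p => by
      by_contra hne
      obtain ⟨n', hn'⟩ := exists_nat_trdeg_quotient_pair (A := c.A) P'
      have := trdeg_lt_of_lt_in_fibre (lt_of_le_of_ne hP' hne) hP'p n' n hn' hPn
      have := hT P' (hP'.trans hPq) n' hn'
      omega
    obtain ⟨hdimP, hd0⟩ := c.fibreDimAt_of_minInFibre hmin n hPn
    refine ⟨c.j P, ?_, c.specializes hPq, fun z' hz' hz'P => ?_, ?_, ?_⟩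
    · rw [c.apply_j, hPp]
      exact c.hp
    · obtain ⟨P', -, rfl⟩ := c.exists_le (hz'P.trans (c.specializes hPq))
      refine congrArg c.j (hmin P' (c.le_of_specializes hz'P) (c.i.isOpenEmbedding.injective ?_))
      rw [← c.apply_j, hz', hPp]
      exact c.hp.symm
    · rw [hdimP, hloc]
      exact_mod_cast (by omega : n = d + t')
    · obtain ⟨az, bz, dz, tz, haz, hbz, hdz, -, -, hzqa, hzpb, hzle, -⟩ := (c.move P).dims
      rw [hd0] at hdz
      have hdz0 : dz = 0 := by exact_mod_cast hdz.symm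
      have hbb : bz = b := by
        change (PrimeSpectrum.comap (algebraMap c.A c.B) P).asIdeal.height = bz at hzpb
        rw [hPp] at hzpb
        change (PrimeSpectrum.comap (algebraMap c.A c.B) c.q).asIdeal.height = bz at hzpb
        exact_mod_cast hzpb.symm.trans hpb
      have hbot : b ≤ az := by
        obtain ⟨a₁, b₁, h11, h12, -, heq1⟩ := formula_component hP₀P T n hT₀ hPn
        have e1 := heq1 (hPp.symm ▸ c.catAbove hcat)
        rw [hPp] at h12
        have h3 : b₁ = b₂ := by exact_mod_cast h12.symm.trans h22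
        have h4 := relHeight_le_height hP₀P
        rw [h11, show P.asIdeal.height = az from hzqa] at h4
        have h5 : a₁ ≤ az := by exact_mod_cast h4
        omega
      refine haz.trans (Eq.trans ?_ hbz.symm)
      exact_mod_cast (by omega : az = bz)
  · rintro ⟨z, hz, hzx, hzmin, hzdim, hzb⟩
    obtain ⟨P, hP, rfl⟩ := c.exists_le hzx
    have hPp : PrimeSpectrum.comap (algebraMap c.A c.B) P = c.p := by
      refine c.i.isOpenEmbedding.injective ?_
      rw [← c.apply_j, hz]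
      exact c.hp.symm
    have hmin : c.MinInFibre P := fun P' hP' hP'p => by
      refine c.j.isOpenEmbedding.injective (hzmin _ ?_ (((PrimeSpectrum.le_iff_specializes _ _).1 hP').map c.j.continuous))
      rw [c.apply_j, hP'p, hPp]
      exact c.hp
    obtain ⟨n, hPn⟩ := exists_nat_trdeg_quotient_pair (A := c.A) P
    exact c.formula_of_generization (c.catAbove hcat) hP hPp hmin n hPn
      (hzdim.symm.trans (c.fibreDimAt_of_minInFibre hmin n hPn).1) hzb

theorem resTrdegAt_ι {U : X.Opens} (w : U) : resTrdegAt (U.ι ≫ f) w = resTrdegAt f (U.ι w) := by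
  obtain ⟨c⟩ := exists_chart (U.ι ≫ f) w
  rw [c.resTrdegAt_self, c.push.resTrdegAt_self]
  rfl

theorem dim_fibre_component (y : Y) (z : f.fiber y) :
    topologicalKrullDim ↥(closure ({z} : Set ↥(f.fiber y))) =
      (Order.height z : WithBot ℕ∞) :=
  topologicalKrullDim_closure_singleton z

/-- In an equidimensional neighbourhood every minimal point of a fibre has the same transcendence degree. -/
theorem trdeg_eq_of_minInFibre {x : X} (c : Chart f x) (e : ℕ)
    (he : ∀ x' : X, ∀ Z ∈ irreducibleComponents ↥(f.fiber (f x')), topologicalKrullDim ↥Z = e)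
    {P : PrimeSpectrum c.B} (hPq : P ≤ c.q) (hmin : c.MinInFibre P) (t : ℕ)
    (ht : Algebra.trdeg (c.A ⧸ (PrimeSpectrum.comap (algebraMap c.A c.B) P).asIdeal) (c.B ⧸ P.asIdeal) = t) :
    t = e := by
  let z : ↥(f.fiber (f (c.j P))) := (f.fiberHomeo (f (c.j P))).symm ⟨c.j P, rfl⟩
  have hz : (f.fiberHomeo (f (c.j P)) z).1 = c.j P := by
    rw [Homeomorph.apply_symm_apply]
  have hzmin : ∀ w, w ⤳ z → w = z := fun w hw => by
    have h1 : (f.fiberHomeo (f (c.j P)) w).1 ⤳ c.j P :=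
      Eq.mp (congrArg (fun v => (f.fiberHomeo (f (c.j P)) w).1 ⤳ v) hz)
        (hw.map (continuous_subtype_val.comp (f.fiberHomeo _).continuous))
    obtain ⟨P', -, hP'⟩ := c.exists_le (h1.trans (c.specializes hPq))
    have h2 : P' = P := hmin P' (c.le_of_specializes (hP'.symm ▸ h1)) (by
      refine c.i.isOpenEmbedding.injective ?_
      rw [← c.apply_j, ← c.apply_j, hP']
      exact (f.fiberHomeo _ w).2)
    refine (f.fiberHomeo _).injective (Subtype.ext ?_)
    rw [hz, ← hP', h2]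
  have h := he (c.j P) _ (closure_mem_irreducibleComponents hzmin)
  rw [dim_fibre_component, height_in_fibre f _ z t (by rw [hz, c.resTrdegAt_eq, ht])] at h
  exact_mod_cast h

/-- The numbers at a point of equidimensionality. -/
theorem equidimAt_data (x : X) (h : EGA43.IsEquidimAt f x) :
    ∃ (c : Chart f x) (e : ℕ), FlatMor.fibreDimAt f x = (e : WithBot ℕ∞) ∧
      ∀ P : PrimeSpectrum c.B, IsMin P → P ≤ c.q →
        IsMin (PrimeSpectrum.comap (algebraMap c.A c.B) P) ∧
        Algebra.trdeg (c.A ⧸ (PrimeSpectrum.comap (algebraMap c.A c.B) P).asIdeal) (c.B ⧸ P.asIdeal) = e := by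
  obtain ⟨e, U, hxU, hW, hfib⟩ := h
  obtain ⟨c₀⟩ := exists_chart (U.ι ≫ f) ⟨x, hxU⟩
  obtain ⟨P, n, hP, -, hmin, hPn, -⟩ := c₀.exists_component
  have hne := trdeg_eq_of_minInFibre (U.ι ≫ f) c₀ e hfib hP hmin n hPn
  let c : Chart f x := c₀.push
  refine ⟨c, e, ?_, fun P hPmin hPq => ⟨fun p' hp' => ?_, ?_⟩⟩
  · obtain ⟨m, hm⟩ := c.exists_nat_fibreDimAt
    obtain ⟨P', hP', hP'p, hP'min, hP'n⟩ := exists_fibre_component c.q c.Q c.comap_Q m hm
    have := trdeg_eq_of_minInFibre (U.ι ≫ f) c₀ e hfib (P := P') hP'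
      (fun P'' h1 h2 => hP'min P'' h1 (h2.trans hP'p)) m hP'n
    rw [c.fibreDimAt_eq, hm, this]
  · have hξmin := (c₀.isMin_iff hPq).1 hPmin
    obtain ⟨W, hW, -, hWc⟩ := hW _ (closure_mem_irreducibleComponents hξmin)
    obtain ⟨η, hη, hηmin⟩ := exists_generic_of_mem_irreducibleComponents hW
    have h1 : closure {(U.ι ≫ f) (c₀.j P)} = W := by
      rw [← hWc]
      rw [closure_image_closure (U.ι ≫ f).continuous, Set.image_singleton]
    have h2 : (U.ι ≫ f) (c₀.j P) = η :=
      (show IsGenericPoint ((U.ι ≫ f) (c₀.j P)) W from h1).eq (show IsGenericPoint η W from hη)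
    have h3 : c₀.i (PrimeSpectrum.comap (algebraMap c₀.A c₀.B) P) = η := (c₀.apply_j P).symm.trans h2
    have h4 : c₀.i p' ⤳ η := by
      rw [← h3]
      exact ((PrimeSpectrum.le_iff_specializes _ _).1 hp').map c₀.i.continuous
    exact (show p' = _ from c₀.i.isOpenEmbedding.injective ((hηmin _ h4).trans h3.symm)).ge
  · obtain ⟨t, ht⟩ := exists_nat_trdeg_quotient_pair (A := c.A) P
    rw [ht, trdeg_eq_of_minInFibre (U.ι ≫ f) c₀ e hfib (P := P) hPq (c₀.minInFibre_of_isMin hPmin) t ht]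

/-- EGA IV 13.3.6: equidimensional at `x` over an equidimensional universally catenary base. -/
theorem formula_of_isEquidimAt (x : X) (h : EGA43.IsEquidimAt f x)
    (hcat : CAlg.IsUniversallyCatenary (Y.presheaf.stalk (f x))) (hY : EGA4.IsEquidim (Y.presheaf.stalk (f x))) :
    EGA4.IsEquidim (X.presheaf.stalk x) ∧ ringKrullDim (X.presheaf.stalk x) =
      ringKrullDim (Y.presheaf.stalk (f x)) + ringKrullDim ((f.fiber (f x)).presheaf.stalk (f.asFiber x)) := by
  obtain ⟨c, e, he, hP⟩ := equidimAt_data f x h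
  haveI := c.isNoetherianRing
  haveI : IsNoetherianRing c.B := Algebra.FiniteType.isNoetherianRing c.A c.B
  obtain ⟨a, b, d, t', ha, hb, hd, ht', hloc, hqa, hpb, hle, -⟩ := c.dims
  have hed : e = d + t' := by exact_mod_cast he.symm.trans hloc
  have hYb := c.isEquidim_target_iff.1 hY
  have key : ∀ P : PrimeSpectrum c.B, IsMin P → P ≤ c.q →
      ∃ r : ℕ, relHeight P c.q = r ∧ r + t' = b + e := by
    intro P hPmin hPq
    obtain ⟨hπ, hT⟩ := hP P hPmin hPq
    obtain ⟨r, b', hr, hb', -, heq⟩ := formula_component hPq e t' hT ht'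
    have h1 : b' = b := by exact_mod_cast hb'.symm.trans ((hYb _ hπ (Ideal.comap_mono hPq)).trans hpb)
    exact ⟨r, hr, by have := heq (c.catAbove hcat); omega⟩
  obtain ⟨P₀, hP₀min, hP₀, hP₀e⟩ := exists_isMin_relHeight_eq_height c.q
  obtain ⟨r₀, hr₀, hr₀e⟩ := key P₀ hP₀min hP₀
  have hra : r₀ = a := by exact_mod_cast hr₀.symm.trans (hP₀e.trans hqa)
  refine ⟨c.isEquidim_source_iff.2 fun P hPmin hPq => ?_, ?_⟩
  · obtain ⟨r, hr, hre⟩ := key P hPmin hPq
    rw [hr, hqa]
    exact_mod_cast (by omega : r = a)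
  · rw [ha, hb, hd]
    exact_mod_cast (by omega : a = b + d)

/-- EGA IV 13.3.5: the converse. -/
theorem isEquidimAt_of_formula (x : X) (hY : EGA4.IsEquidim (Y.presheaf.stalk (f x)))
    (hX : EGA4.IsEquidim (X.presheaf.stalk x))
    (h : ringKrullDim (X.presheaf.stalk x) =
      ringKrullDim (Y.presheaf.stalk (f x)) + ringKrullDim ((f.fiber (f x)).presheaf.stalk (f.asFiber x))) :
    EGA43.IsEquidimAt f x := by
  obtain ⟨c⟩ := exists_chart f x
  haveI := c.isNoetherianRing
  haveI : IsNoetherianRing c.B := Algebra.FiniteType.isNoetherianRing c.A c.B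
  obtain ⟨a, b, d, t', ha, hb, hd, ht', hloc, hqa, hpb, hle, hT⟩ := c.dims
  rw [ha, hb, hd] at h
  have hab : a = b + d := by exact_mod_cast h
  have hXb := c.isEquidim_source_iff.1 hX
  have hYb := c.isEquidim_target_iff.1 hY
  have key : ∀ P : PrimeSpectrum c.B, IsMin P → P ≤ c.q →
      IsMin (PrimeSpectrum.comap (algebraMap c.A c.B) P) ∧
        Algebra.trdeg (c.A ⧸ (PrimeSpectrum.comap (algebraMap c.A c.B) P).asIdeal) (c.B ⧸ P.asIdeal) =
          ((d + t' : ℕ) : Cardinal.{u}) := by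
    intro P hPmin hPq
    obtain ⟨T, hTP⟩ := exists_nat_trdeg_quotient_pair (A := c.A) P
    obtain ⟨r, b', hr, hb', hle', -⟩ := formula_component hPq T t' hTP ht'
    have h1 : r = a := by exact_mod_cast hr.symm.trans ((hXb P hPmin hPq).trans hqa)
    have h2 : b' ≤ b := by
      have h := relHeight_le_height (P := PrimeSpectrum.comap (algebraMap c.A c.B) P) (p := c.p) (Ideal.comap_mono hPq)
      rw [hpb] at h
      exact_mod_cast hb'.symm.trans_le h
    have h3 := hT P hPq T hTP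
    refine ⟨fun p' hp' => ?_, by rw [hTP]; exact_mod_cast (by omega : T = d + t')⟩
    by_contra hne
    have hlt : p' < PrimeSpectrum.comap (algebraMap c.A c.B) P := lt_of_le_not_ge hp' hne
    have h4 := (one_add_relHeight_le (Q := c.p) hlt (Ideal.comap_mono hPq)).trans
      (relHeight_le_height (hlt.le.trans (Ideal.comap_mono hPq)))
    rw [show relHeight (PrimeSpectrum.comap (algebraMap c.A c.B) P) c.p = b' from hb', hpb] at h4
    have h5 : b' + 1 ≤ b := by exact_mod_cast h4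
    omega
  haveI : c.q.asIdeal.LiesOver c.p.asIdeal := ⟨rfl⟩
  obtain ⟨g, hg, φ, hqf⟩ := exists_quasiFinite_nhd c.q.asIdeal c.p.asIdeal c.Q c.comap_Q (d + t')
    (c.fibreDimAt_eq.symm.trans hloc)
  obtain ⟨g₀, hg₀, hg₀min⟩ := exists_open_dim_le c.B c.q
  let U : X.Opens := c.j ''ᵁ PrimeSpectrum.basicOpen (g * g₀)
  have hmemU : ∀ P : PrimeSpectrum c.B, c.j P ∈ U ↔ g ∉ P.asIdeal ∧ g₀ ∉ P.asIdeal := fun P => by
    refine ⟨fun hP => ?_, fun hP => ⟨P, fun hm => (P.isPrime.mem_or_mem hm).elim hP.1 hP.2, rfl⟩⟩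
    obtain ⟨P', hP', he⟩ := hP
    obtain rfl := c.j.isOpenEmbedding.injective he
    exact ⟨fun hm => hP' (P'.asIdeal.mul_mem_right _ hm), fun hm => hP' (P'.asIdeal.mul_mem_left _ hm)⟩
  have hUgen : ∀ {w w' : X}, w ⤳ w' → w' ∈ U → w ∈ U := fun hw hw' => hw.mem_open U.isOpen hw'
  have hcov : ∀ v : X, v ∈ U → ∃ P : PrimeSpectrum c.B, c.j P = v := fun v hv => by
    obtain ⟨P, -, hP⟩ := hv
    exact ⟨P, hP⟩
  refine ⟨d + t', U, c.hq ▸ (hmemU c.q).2 ⟨hg, hg₀⟩, fun Z hZ => ?_, fun x' Z hZ => ?_⟩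
  · obtain ⟨ξ, rfl, hξmin⟩ := exists_generic_of_mem_irreducibleComponents (F := U.toScheme) hZ
    obtain ⟨P, hPξ⟩ := hcov (U.ι ξ) ξ.2
    have hPU := (hmemU P).1 (hPξ ▸ ξ.2)
    have hPmin : IsMin P := fun P' hP' => by
      have h1 : c.j P' ⤳ c.j P := ((PrimeSpectrum.le_iff_specializes _ _).1 hP').map c.j.continuous
      have h2 : c.j P' ∈ U := hUgen h1 ((hmemU P).2 hPU)
      have h3 := hξmin ⟨c.j P', h2⟩ ((subtype_specializes_iff _ _).2 (show c.j P' ⤳ U.ι ξ from hPξ ▸ h1))
      exact (show P' = P from c.j.isOpenEmbedding.injective ((congrArg Subtype.val h3).trans hPξ.symm)).ge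
    have hPq : P ≤ c.q := hg₀min P.asIdeal (PrimeSpectrum.isMin_iff.1 hPmin) hPU.2
    obtain ⟨hπ, -⟩ := key P hPmin hPq
    have hη : (U.ι ≫ f) ξ = c.i (PrimeSpectrum.comap (algebraMap c.A c.B) P) := by
      rw [Scheme.Hom.comp_apply, ← hPξ, c.apply_j]
    refine ⟨closure {(U.ι ≫ f) ξ}, closure_mem_irreducibleComponents fun w hw => ?_, ?_, ?_⟩
    · rw [hη] at hw ⊢
      obtain ⟨p', rfl⟩ := hw.mem_open c.i.isOpenEmbedding.isOpen_range ⟨_, rfl⟩
      exact congrArg c.i (le_antisymm (α := PrimeSpectrum c.A) (c.le_of_specializes_base hw) (hπ (c.le_of_specializes_base hw)))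
    · refine specializes_iff_mem_closure.1 ?_
      rw [hη, ← c.apply_j]
      exact (c.specializes hPq).map f.continuous
    · rw [closure_image_closure (U.ι ≫ f).continuous, Set.image_singleton]
  · obtain ⟨z, rfl, hzmin⟩ := exists_generic_of_mem_irreducibleComponents hZ
    set w := ((U.ι ≫ f).fiberHomeo _ z).1 with hw
    obtain ⟨P, hPw⟩ := hcov (U.ι w) w.2
    have hPU := (hmemU P).1 (hPw ▸ w.2)
    obtain ⟨P₀, hP₀, hP₀P⟩ := Ideal.exists_minimalPrimes_le (I := (⊥ : Ideal c.B)) (J := P.asIdeal) bot_le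
    haveI := hP₀.1.1
    have hP₀min : IsMin (⟨P₀, inferInstance⟩ : PrimeSpectrum c.B) := PrimeSpectrum.isMin_iff.2 hP₀
    have hP₀q : (⟨P₀, inferInstance⟩ : PrimeSpectrum c.B) ≤ c.q := hg₀min P₀ hP₀ fun hm => hPU.2 (hP₀P hm)
    obtain ⟨P', hP₀P', hP'P, hP'p, hP'T⟩ := exists_over_trdeg_ge (P := ⟨P₀, inferInstance⟩) (q := P) hP₀P _
      (key _ hP₀min hP₀q).2
    have hP'eq : P' = P := by
      have h1 : c.j P' ⤳ U.ι w := hPw ▸ ((PrimeSpectrum.le_iff_specializes _ _).1 hP'P).map c.j.continuous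
      have h2 : c.j P' ∈ U := hUgen h1 w.2
      have h4 : (U.ι ≫ f) ⟨c.j P', h2⟩ = (U.ι ≫ f) x' := by
        have h5 : (U.ι ≫ f) w = (U.ι ≫ f) x' := ((U.ι ≫ f).fiberHomeo _ z).2
        rw [← h5, Scheme.Hom.comp_apply, Scheme.Hom.comp_apply]
        show f (c.j P') = f (U.ι w)
        exact (c.apply_j P').trans ((congrArg c.i hP'p).trans ((c.apply_j P).symm.trans (congrArg f hPw)))
      have h6 := hzmin (((U.ι ≫ f).fiberHomeo _).symm ⟨⟨c.j P', h2⟩, h4⟩) (by
        refine ((U.ι ≫ f).fiberHomeo _).isInducing.specializes_iff.1 ?_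
        rw [Homeomorph.apply_symm_apply]
        exact (subtype_specializes_iff _ _).2 ((subtype_specializes_iff _ _).2 h1))
      have h7 := congrArg (fun v => U.ι ((U.ι ≫ f).fiberHomeo _ v).1) h6
      simp only [Homeomorph.apply_symm_apply] at h7
      exact c.j.isOpenEmbedding.injective (h7.trans hPw.symm)
    rw [hP'eq] at hP'T
    obtain ⟨T, hTP⟩ := exists_nat_trdeg_quotient_pair (A := c.A) P
    have hle1 : T ≤ d + t' := by
      have h := trdeg_le_of_quasiFiniteAt (d + t') φ P.asIdeal (hqf P.asIdeal hPU.1)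
      have h' : (T : Cardinal.{u}) ≤ ((d + t' : ℕ) : Cardinal.{u}) := hTP ▸ h
      exact_mod_cast h'
    have hge : d + t' ≤ T := by exact_mod_cast hTP ▸ hP'T
    have hres : resTrdegAt (U.ι ≫ f) w = ((d + t' : ℕ) : Cardinal.{u}) := by
      refine (resTrdegAt_ι f w).trans ((congrArg (resTrdegAt f) hPw.symm).trans ((c.resTrdegAt_eq P).trans (hTP.trans ?_)))
      exact_mod_cast (by omega : T = d + t')
    rw [topologicalKrullDim_closure_singleton, height_in_fibre (U.ι ≫ f) _ z _ hres]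
    rfl

end Groth.Agent.DimFormulaLib
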