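import Groth.Agent.DimFormulaLib.General

/-!
Lower bounds: chains in fibres and along closed maps.
-/

set_option autoImplicit false

universe u

open CategoryTheory AlgebraicGeometry Topology TopologicalSpace

namespace Groth.Agent.DimFormulaLib

section Ring

variable {A B : Type u} [CommRing A] [CommRing B] [Algebra A B] [Algebra.FiniteType A B]

/-- Between `P ≤ q` there is a prime over `q ∩ A` with transcendence degree at least that of `P`. -/
theorem exists_over_trdeg_ge {P q : PrimeSpectrum B} (h : P ≤ q) (t : ℕ)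
    (ht : Algebra.trdeg (A ⧸ (PrimeSpectrum.comap (algebraMap A B) P).asIdeal) (B ⧸ P.asIdeal) = t) :
    ∃ P' : PrimeSpectrum B, P ≤ P' ∧ P' ≤ q ∧
      PrimeSpectrum.comap (algebraMap A B) P' = PrimeSpectrum.comap (algebraMap A B) q ∧
      (t : Cardinal.{u}) ≤
        Algebra.trdeg (A ⧸ (PrimeSpectrum.comap (algebraMap A B) P').asIdeal) (B ⧸ P'.asIdeal) := by
  let B' := B ⧸ P.asIdeal
  let π : B →+* B' := Ideal.Quotient.mk P.asIdeal
  haveI : (q.asIdeal.map π).IsPrime :=
    Ideal.map_isPrime_of_surjective Ideal.Quotient.mk_surjective (by rw [Ideal.mk_ker]; exact h)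
  let q' : PrimeSpectrum B' := ⟨q.asIdeal.map π, inferInstance⟩
  have hq' : PrimeSpectrum.comap π q' = q := PrimeSpectrum.ext (by
    show (q.asIdeal.map π).comap π = q.asIdeal
    rw [Ideal.comap_map_of_surjective' _ Ideal.Quotient.mk_surjective, Ideal.mk_ker]
    exact sup_eq_left.2 h)
  let p := PrimeSpectrum.comap (algebraMap A B') q'
  let e := PrimeSpectrum.preimageEquivFiber A B' p
  let Q := e ⟨q', rfl⟩
  have hQ : Q.asIdeal.comap (Algebra.TensorProduct.includeRight : B' →ₐ[A] p.asIdeal.Fiber B').toRingHom = q'.asIdeal :=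
    congrArg (fun z => z.1.asIdeal) (e.symm_apply_apply ⟨q', rfl⟩)
  obtain ⟨r, hr⟩ := exists_nat_trdeg_quotient p.asIdeal.ResidueField (p.asIdeal.Fiber B') Q.asIdeal
  obtain ⟨a, -, hd, -⟩ := localDim_eq_height_add p.asIdeal.ResidueField (p.asIdeal.Fiber B') Q r hr
  obtain ⟨N, hNq, hNp, -, hNn⟩ := exists_fibre_component q' Q hQ (a + r) hd
  haveI : q'.asIdeal.LiesOver p.asIdeal := ⟨rfl⟩
  have h1 := trdeg_le_localDim_fibre (⊥ : Ideal B') q'.asIdeal bot_le p.asIdeal Q hQ (a + r) hd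
  have hbot : Algebra.trdeg (A ⧸ (⊥ : Ideal B').under A) (B' ⧸ (⊥ : Ideal B')) = t := by
    rw [← ht]
    exact trdeg_eq_of_ringEquiv
      (Ideal.quotEquivOfEq (show (⊥ : Ideal B').under A = (PrimeSpectrum.comap (algebraMap A B) P).asIdeal by
        show (⊥ : Ideal B').comap (π.comp (algebraMap A B)) = _
        rw [← Ideal.comap_comap, ← RingHom.ker_eq_comap_bot, Ideal.mk_ker]
        rfl))
      (RingEquiv.quotientBot B') fun x => by
        obtain ⟨x, rfl⟩ := Ideal.Quotient.mk_surjective x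
        rfl
  rw [hbot] at h1
  refine ⟨PrimeSpectrum.comap π N, fun x hx => ?_, hq' ▸ Ideal.comap_mono hNq, ?_, le_of_le_of_eq h1 ?_⟩
  · show π x ∈ N.asIdeal
    rw [Ideal.Quotient.eq_zero_iff_mem.2 hx]
    exact zero_mem _
  · rw [← hq', ← PrimeSpectrum.comap_comp_apply, ← PrimeSpectrum.comap_comp_apply]
    exact hNp
  · rw [← hNn]
    refine (trdeg_eq_of_ringEquiv
      (Ideal.quotEquivOfEq (show (PrimeSpectrum.comap (algebraMap A B) (PrimeSpectrum.comap π N)).asIdeal =
        (PrimeSpectrum.comap (algebraMap A B') N).asIdeal from rfl))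
      (RingEquiv.ofBijective (Ideal.quotientMap (I := (PrimeSpectrum.comap π N).asIdeal) N.asIdeal π le_rfl)
        ⟨Ideal.quotientMap_injective' le_rfl, Ideal.quotientMap_surjective Ideal.Quotient.mk_surjective⟩)
      fun x => ?_).symm
    obtain ⟨x, rfl⟩ := Ideal.Quotient.mk_surjective x
    rfl

/-- A chain of length the transcendence degree, inside one fibre. -/
theorem exists_chain_of_trdeg (P : PrimeSpectrum B) (n : ℕ)
    (hn : Algebra.trdeg (A ⧸ (PrimeSpectrum.comap (algebraMap A B) P).asIdeal) (B ⧸ P.asIdeal) = n) :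
    ∃ s : LTSeries (PrimeSpectrum B), s.head = P ∧ s.length = n ∧
      ∀ i, PrimeSpectrum.comap (algebraMap A B) (s i) = PrimeSpectrum.comap (algebraMap A B) P := by
  let p := PrimeSpectrum.comap (algebraMap A B) P
  let e := PrimeSpectrum.preimageOrderIsoFiber A B p
  let N := e ⟨P, rfl⟩
  haveI : P.asIdeal.LiesOver p.asIdeal := ⟨rfl⟩
  haveI : IsNoetherianRing (p.asIdeal.Fiber B) := Algebra.FiniteType.isNoetherianRing p.asIdeal.ResidueField _
  have hN : N.asIdeal.comap (Algebra.TensorProduct.includeRight : B →ₐ[A] p.asIdeal.Fiber B).toRingHom = P.asIdeal :=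
    congrArg (fun z => z.1.asIdeal) (e.symm_apply_apply ⟨P, rfl⟩)
  have hN' : Algebra.trdeg p.asIdeal.ResidueField (p.asIdeal.Fiber B ⧸ N.asIdeal) = n :=
    (trdeg_fibre p.asIdeal P.asIdeal N.asIdeal hN).trans hn
  obtain ⟨M, hM, hNM⟩ := Ideal.exists_le_maximal N.asIdeal N.isPrime.ne_top
  haveI := hM.isPrime'
  have hM0 : Algebra.trdeg p.asIdeal.ResidueField (p.asIdeal.Fiber B ⧸ M) = (0 : ℕ) := by
    haveI : Module.Finite p.asIdeal.ResidueField (p.asIdeal.Fiber B ⧸ M) :=
      haveI : IsField (p.asIdeal.Fiber B ⧸ M) := (Ideal.Quotient.maximal_ideal_iff_isField_quotient M).1 hM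
      letI := this.toField
      finite_of_finite_type_of_isJacobsonRing p.asIdeal.ResidueField (p.asIdeal.Fiber B ⧸ M)
    rw [trdeg_eq_zero, Nat.cast_zero]
  obtain ⟨a, ha, hna⟩ := trdeg_eq_relHeight_add p.asIdeal.ResidueField (p.asIdeal.Fiber B)
    (P := N) (p := ⟨M, inferInstance⟩) hNM n 0 hN' hM0
  obtain ⟨m, s, hm, sh, -, sn, -⟩ := exists_saturated_between (P := N) (Q := ⟨M, inferInstance⟩) hNM
  refine ⟨s.map (fun z => (e.symm z).1) (fun z w h => show (e.symm z).1 < (e.symm w).1 from e.symm.strictMono h),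
    ?_, ?_, fun i => (e.symm (s i)).2⟩
  · rw [LTSeries.head_map, sh, e.symm_apply_apply]
  · show s.length = n
    rw [sn]
    have : m = a := by exact_mod_cast hm.symm.trans ha
    omega

end Ring

variable {X Y : Scheme.{u}} (f : X ⟶ Y) [LocallyOfFiniteType f]

theorem exists_series_of_resTrdegAt (x : X) (n : ℕ) (hn : (n : Cardinal.{u}) ≤ resTrdegAt f x) :
    ∃ t : LTSeries ↥X, t.last = x ∧ n ≤ t.length := by
  obtain ⟨c⟩ := exists_chart f x
  obtain ⟨m, hm⟩ := exists_nat_trdeg_quotient_pair (A := c.A) c.q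
  obtain ⟨s, sh, sn, -⟩ := exists_chain_of_trdeg c.q m hm
  refine ⟨⟨s.length, fun i => c.j (s (Fin.rev i)), fun i => ?_⟩, ?_, ?_⟩
  · have h : s (Fin.rev i.succ) < s (Fin.rev (Fin.castSucc i)) := s.strictMono (Fin.rev_lt_rev.2 i.castSucc_lt_succ)
    refine ⟨((PrimeSpectrum.le_iff_specializes _ _).1 h.le).map c.j.continuous, fun hsp => h.not_ge ?_⟩
    exact c.le_of_specializes hsp
  · show c.j (s (Fin.rev (Fin.last _))) = x
    rw [Fin.rev_last]
    exact (congrArg c.j sh).trans c.hq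
  · show n ≤ s.length
    rw [c.resTrdegAt_self, show Algebra.trdeg (c.A ⧸ c.p.asIdeal) (c.B ⧸ c.q.asIdeal) = m from hm] at hn
    rw [sn]
    exact_mod_cast hn

theorem exists_series_of_isClosedMap (hcl : IsClosedMap f) (n : ℕ) :
    ∀ (k : ℕ) (s : LTSeries ↥Y), s.length = k → ∀ x : X, f x = s.last → (n : Cardinal.{u}) ≤ resTrdegAt f x →
      ∃ t : LTSeries ↥X, t.last = x ∧ k + n ≤ t.length := by
  intro k
  induction k with
  | zero =>
    intro s _ x _ hn
    obtain ⟨t, h1, h2⟩ := exists_series_of_resTrdegAt f x n hn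
    exact ⟨t, h1, by omega⟩
  | succ k ih =>
    intro s hs x hx hn
    have hrel : s.eraseLast.last < s.last := s.eraseLast_last_rel_last (by omega)
    obtain ⟨w, hw, hwy⟩ : ∃ w ∈ closure ({x} : Set ↥X), f w = s.eraseLast.last := by
      have h1 : closure ({f x} : Set ↥Y) ⊆ f '' closure {x} :=
        (hcl _ isClosed_closure).closure_subset_iff.2 (Set.singleton_subset_iff.2 ⟨x, subset_closure rfl, rfl⟩)
      exact h1 (specializes_iff_mem_closure.1 (hx ▸ (Scheme.le_iff_specializes.1 hrel.le : s.last ⤳ s.eraseLast.last)))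
    obtain ⟨c⟩ := exists_chart f w
    obtain ⟨P, hPq, hPx⟩ := c.exists_le (specializes_iff_mem_closure.2 hw)
    obtain ⟨m, hm⟩ := exists_nat_trdeg_quotient_pair (A := c.A) P
    obtain ⟨P', hPP', -, hP'q, hP'n⟩ := exists_over_trdeg_ge hPq m hm
    have hnm : (n : Cardinal.{u}) ≤ (m : Cardinal.{u}) := by
      rw [← hPx, c.resTrdegAt_eq, hm] at hn
      exact hn
    have hfx' : f (c.j P') = s.eraseLast.last := by
      rw [c.apply_j, hP'q]
      exact c.hp.trans hwy
    obtain ⟨t, tl, tn⟩ := ih s.eraseLast (show s.length - 1 = k by omega) (c.j P') hfx'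
      (hnm.trans (hP'n.trans_eq (c.resTrdegAt_eq P').symm))
    have hxx' : x ⤳ c.j P' := by
      rw [← hPx]
      exact ((PrimeSpectrum.le_iff_specializes _ _).1 hPP').map c.j.continuous
    have hlt : t.last < x := by
      rw [tl]
      refine ⟨hxx', fun h => ?_⟩
      have h2 : f (c.j P') ⤳ f x := Specializes.map h f.continuous
      rw [hfx', hx] at h2
      exact hrel.2 h2
    exact ⟨t.snoc x hlt, RelSeries.last_snoc _ _ _, by
      show k + 1 + n ≤ t.length + 0 + 1
      omega⟩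

/-- `dim X ≤ dim Y + E`. -/
theorem topologicalKrullDim_le_add [IsLocallyNoetherian Y] (E : ℕ)
    (hE : ∀ ξ : X, closure {ξ} ∈ irreducibleComponents ↥X → resTrdegAt f ξ ≤ E) :
    topologicalKrullDim ↥X ≤ topologicalKrullDim ↥Y + E := by
  rw [topologicalKrullDim_eq_iSup_stalk, topologicalKrullDim_eq_iSup_stalk]
  refine iSup_le fun x => ?_
  obtain ⟨c⟩ := exists_chart f x
  obtain ⟨n, hn⟩ := exists_nat_trdeg_quotient_pair (A := c.A) c.q
  have h := stalk_dim_add_trdeg_le f x n E (c.resTrdegAt_self.trans hn) fun ξ h1 _ => hE ξ h1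
  exact (le_add_of_nonneg_right (show (0 : WithBot ℕ∞) ≤ (n : WithBot ℕ∞) by exact_mod_cast Nat.zero_le n)).trans
    (h.trans (add_le_add (le_iSup (fun y : ↥Y => ringKrullDim (Y.presheaf.stalk y)) (f x)) le_rfl))

/-- For a closed dominant map `dim X = dim Y + n`. -/
theorem topologicalKrullDim_eq_add_of_isClosedMap [IsLocallyNoetherian Y] [IrreducibleSpace ↥X]
    [IrreducibleSpace ↥Y] (hf : DenseRange f) (n : ℕ) (hn : resTrdegAt f (genericPoint ↥X) = n) :
    topologicalKrullDim ↥X ≤ topologicalKrullDim ↥Y + n ∧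
      (IsClosedMap f → topologicalKrullDim ↥X = topologicalKrullDim ↥Y + n) := by
  have hle : topologicalKrullDim ↥X ≤ topologicalKrullDim ↥Y + n := by
    refine topologicalKrullDim_le_add f n fun ξ hξ => ?_
    have : ξ = genericPoint ↥X := by
      have h1 : closure ({ξ} : Set ↥X) = Set.univ := by
        rw [irreducibleComponents_eq_singleton] at hξ
        exact hξ
      exact (show IsGenericPoint ξ Set.univ from h1).eq (genericPoint_spec ↥X)
    rw [this, hn]
  refine ⟨hle, fun hcl => le_antisymm hle ?_⟩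
  rw [topologicalKrullDim, topologicalKrullDim, Order.krullDim_eq_of_orderIso (irreducibleSetEquivPoints (α := ↥X)),
    Order.krullDim_eq_of_orderIso (irreducibleSetEquivPoints (α := ↥Y))]
  haveI : Nonempty ↥Y := ⟨genericPoint ↥Y⟩
  haveI : Nonempty ↥X := ⟨genericPoint ↥X⟩
  rw [Order.krullDim_eq_iSup_length (α := ↥Y), Order.krullDim_eq_iSup_length (α := ↥X),
    show ((n : ℕ) : WithBot ℕ∞) = ((n : ℕ∞) : WithBot ℕ∞) from rfl, ← WithBot.coe_add, WithBot.coe_le_coe,
    ENat.iSup_add]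
  refine iSup_le fun s => ?_
  obtain ⟨w, hw⟩ : ∃ w, f w = s.last := by
    have h := (hcl Set.univ isClosed_univ).closure_eq
    rw [Set.image_univ, hf.closure_range] at h
    exact (h ▸ Set.mem_univ s.last : s.last ∈ Set.range f)
  obtain ⟨c⟩ := exists_chart f w
  obtain ⟨P₀, hP₀, hmin⟩ := c.exists_generic
  obtain ⟨P', -, -, hP'q, hP'n⟩ := exists_over_trdeg_ge (hmin c.q) n
    ((c.resTrdegAt_eq P₀).symm.trans (hP₀ ▸ hn))
  obtain ⟨t, -, htn⟩ := exists_series_of_isClosedMap f hcl n s.length s rfl (c.j P')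
    (by rw [c.apply_j, hP'q]; exact c.hp.trans hw) (hP'n.trans_eq (c.resTrdegAt_eq P').symm)
  refine le_trans ?_ (le_iSup (fun u : LTSeries ↥X => (u.length : ℕ∞)) t)
  exact_mod_cast htn

end Groth.Agent.DimFormulaLib
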