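import Groth.Agent.DimFormulaLib.Equidim
import Groth.Agent.DimFormulaLib.Closed
import Groth.Agent.DimFormulaLib.Misc

/-!
Dimensions of the irreducible components of fibres.
-/

set_option autoImplicit false

universe u

open CategoryTheory AlgebraicGeometry Topology TopologicalSpace

namespace Groth.Agent.DimFormulaLib

variable {X Y : Scheme.{u}} (f : X ⟶ Y) [LocallyOfFiniteType f] [IsLocallyNoetherian Y]

theorem exists_nat_resTrdegAt (x : X) : ∃ t : ℕ, resTrdegAt f x = t := by
  obtain ⟨c⟩ := exists_chart f x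
  obtain ⟨t, ht⟩ := exists_nat_trdeg_quotient_pair (A := c.A) c.q
  exact ⟨t, c.resTrdegAt_self.trans ht⟩

theorem krullDim_eq_iSup_height (F : Scheme.{u}) :
    topologicalKrullDim ↥F = ⨆ w : F, (Order.height w : WithBot ℕ∞) := by
  rw [topologicalKrullDim, Order.krullDim_eq_of_orderIso (irreducibleSetEquivPoints (α := ↥F)),
    Order.krullDim_eq_iSup_height]

theorem fiberHomeo_val_specializes {y : Y} {v w : f.fiber y} :
    (f.fiberHomeo y v).1 ⤳ (f.fiberHomeo y w).1 ↔ v ⤳ w :=
  ((IsEmbedding.subtypeVal.comp (f.fiberHomeo y).isEmbedding).isInducing).specializes_iff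

/-- Components of a fibre: their generic points and dimensions. -/
theorem exists_point_of_component (y : Y) (Z : Set ↥(f.fiber y)) (hZ : Z ∈ irreducibleComponents ↥(f.fiber y)) :
    ∃ (x : X) (t : ℕ), f x = y ∧ (∀ x' : X, f x' = y → x' ⤳ x → x' = x) ∧ resTrdegAt f x = t ∧
      topologicalKrullDim ↥Z = (t : WithBot ℕ∞) := by
  obtain ⟨z, rfl, hmax⟩ := exists_generic_of_mem_irreducibleComponents hZ
  obtain ⟨t, ht⟩ := exists_nat_resTrdegAt f (f.fiberHomeo y z).1
  refine ⟨_, t, (f.fiberHomeo y z).2, fun x' hx' hs => ?_, ht, ?_⟩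
  · obtain ⟨w, hw⟩ := (f.fiberHomeo y).surjective ⟨x', hx'⟩
    have h1 : (f.fiberHomeo y w).1 = x' := congrArg Subtype.val hw
    rw [← h1] at hs ⊢
    rw [hmax w ((fiberHomeo_val_specializes f).1 hs)]
  · rw [dim_fibre_component, height_in_fibre f y z t ht]
    rfl

theorem exists_component_of_point {y : Y} (x : X) (hx : f x = y) (hmax : ∀ x' : X, f x' = y → x' ⤳ x → x' = x)
    (t : ℕ) (ht : resTrdegAt f x = t) :
    ∃ Z ∈ irreducibleComponents ↥(f.fiber y), topologicalKrullDim ↥Z = (t : WithBot ℕ∞) := by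
  let z := (f.fiberHomeo y).symm ⟨x, hx⟩
  have hz : (f.fiberHomeo y z).1 = x := by simp [z]
  refine ⟨_, closure_mem_irreducibleComponents (z := z) fun w hw => ?_, ?_⟩
  · have h := hmax _ (f.fiberHomeo y w).2 (hz ▸ (fiberHomeo_val_specializes f).2 hw)
    exact (f.fiberHomeo y).injective (Subtype.ext (h.trans hz.symm))
  · rw [dim_fibre_component, height_in_fibre f y z t (by rw [hz]; exact ht)]
    rfl

theorem topologicalKrullDim_fiber_le {y : Y} {D : WithBot ℕ∞}
    (h : ∀ Z ∈ irreducibleComponents ↥(f.fiber y), topologicalKrullDim ↥Z ≤ D) :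
    topologicalKrullDim ↥(f.fiber y) ≤ D := by
  rw [krullDim_eq_iSup_height]
  refine iSup_le fun w => ?_
  obtain ⟨z, hzw, hz⟩ := exists_maximal_point w
  have h1 := h _ (closure_mem_irreducibleComponents hz)
  rw [dim_fibre_component] at h1
  exact le_trans (WithBot.coe_le_coe.2 (Order.height_mono (Scheme.le_iff_specializes.2 hzw))) h1

theorem resTrdegAt_le_dim_fiber (x : X) (t : ℕ) (ht : resTrdegAt f x = t) :
    (t : WithBot ℕ∞) ≤ topologicalKrullDim ↥(f.fiber (f x)) := by
  rw [krullDim_eq_iSup_height]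
  refine le_iSup_of_le ((f.fiberHomeo (f x)).symm ⟨x, rfl⟩) ?_
  rw [height_in_fibre f (f x) ((f.fiberHomeo (f x)).symm ⟨x, rfl⟩) t
    (by rw [Homeomorph.apply_symm_apply]; exact ht)]
  rfl

omit [LocallyOfFiniteType f] [IsLocallyNoetherian Y] in
theorem fibre_stalk_dim_zero (x : X) (hmax : ∀ x' : X, f x' = f x → x' ⤳ x → x' = x) :
    ringKrullDim ((f.fiber (f x)).presheaf.stalk (f.asFiber x)) = ((0 : ℕ) : WithBot ℕ∞) := by
  rw [ringKrullDim_stalk_eq_coheight]
  have h1 : Order.coheight (f.asFiber x) = 0 := Order.coheight_eq_zero.2 fun w hw => by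
    rw [Scheme.le_iff_specializes] at hw ⊢
    have hs := hw.map (f.fiberι (f x)).continuous
    rw [f.fiberι_asFiber] at hs
    have e := hmax (f.fiberι (f x) w) (f.fiberHomeo (f x) w).2 hs
    rw [(f.fiberι (f x)).isEmbedding.injective (e.trans (f.fiberι_asFiber x).symm)]
  rw [h1]
  rfl

/-- `dim X ≤ dim Y + n` if all fibres have dimension at most `n`. -/
theorem topologicalKrullDim_le_add_of_fibres (n : ℕ)
    (h : ∀ y : Y, topologicalKrullDim ↥(f.fiber y) ≤ n) :
    topologicalKrullDim ↥X ≤ topologicalKrullDim ↥Y + n := by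
  refine topologicalKrullDim_le_add f n fun ξ _ => ?_
  obtain ⟨t, ht⟩ := exists_nat_resTrdegAt f ξ
  have h1 : (t : WithBot ℕ∞) ≤ n := (resTrdegAt_le_dim_fiber f ξ t ht).trans (h _)
  rw [ht]
  exact_mod_cast (show t ≤ n by exact_mod_cast h1)

/-- Over an irreducible base of dimension at most one, all components of fibres of a dominant map from an
irreducible scheme have the dimension of the generic fibre. -/
theorem dim_component_of_dim_le_one [IrreducibleSpace X] [IrreducibleSpace Y]
    (hY : topologicalKrullDim ↥Y ≤ 1) (hf : DenseRange f) (y : Y) (Z : Set ↥(f.fiber y))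
    (hZ : Z ∈ irreducibleComponents ↥(f.fiber y)) :
    topologicalKrullDim ↥Z = topologicalKrullDim ↥(f.fiber (genericPoint Y)) := by
  obtain ⟨x, t, hx, hmax, ht, hdim⟩ := exists_point_of_component f y Z hZ
  subst hx
  obtain ⟨a, b, d, t', n, ha, hb, hd, ht', -, hgen, hn, -, hle, hle', -⟩ := irreducible_dims f hf x
  rw [hdim, hgen]
  have htt : t' = t := by exact_mod_cast ht'.symm.trans ht
  have hd0 : d = 0 := by exact_mod_cast hd.symm.trans (fibre_stalk_dim_zero f x hmax)
  have hb1 : b ≤ 1 := by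
    have h1 := le_iSup (fun y : Y => ringKrullDim (Y.presheaf.stalk y)) (f x)
    simp only [← topologicalKrullDim_eq_iSup_stalk, hb] at h1
    exact_mod_cast h1.trans hY
  have hge : 1 ≤ a ∨ t ≤ n := by
    by_cases hg : x = genericPoint X
    · right
      subst hg
      exact le_of_eq (by exact_mod_cast ht.symm.trans hn)
    · left
      rw [ringKrullDim_stalk_eq_coheight] at ha
      rcases Nat.eq_zero_or_pos a with h0 | h0
      · exfalso
        have h1 : Order.coheight x = 0 := by
          rw [h0] at ha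
          exact_mod_cast ha
        have h2 := Order.coheight_eq_zero.1 h1 (Scheme.le_iff_specializes.2 (genericPoint_specializes x))
        exact hg ((Scheme.le_iff_specializes.1 h2).antisymm (genericPoint_specializes x)).eq
      · exact h0
  exact_mod_cast (show t = n by omega)

/-- The dimensions of components of the fibre at `y` occur in the generic fibre. -/
theorem exists_generic_component [IrreducibleSpace Y] (y : Y)
    (hcat : CAlg.IsUniversallyCatenary (Y.presheaf.stalk y)) (x : X) (hx : f x = y)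
    (hmax : ∀ x' : X, f x' = y → x' ⤳ x → x' = x)
    (hdim : ringKrullDim (X.presheaf.stalk x) = ringKrullDim (Y.presheaf.stalk y)) (t : ℕ)
    (ht : resTrdegAt f x = t) :
    ∃ Z ∈ irreducibleComponents ↥(f.fiber (genericPoint Y)), topologicalKrullDim ↥Z = (t : WithBot ℕ∞) := by
  subst hx
  obtain ⟨c⟩ := exists_chart f x
  haveI := c.isNoetherianRing
  haveI : IsNoetherianRing c.B := Algebra.FiniteType.isNoetherianRing c.A c.B
  obtain ⟨a, b, d, t', ha, hb, hd, ht', hloc, hqa, hpb, -, hT⟩ := c.dims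
  have htt : t' = t := by exact_mod_cast (c.resTrdegAt_self.trans ht').symm.trans ht
  have hab : a = b := by exact_mod_cast ha.symm.trans (hdim.trans hb)
  have hd0 : d = 0 := by exact_mod_cast hd.symm.trans (fibre_stalk_dim_zero f x hmax)
  obtain ⟨P₀, hP₀min, hP₀, hP₀e⟩ := exists_isMin_relHeight_eq_height c.q
  obtain ⟨T, hT₀⟩ := exists_nat_trdeg_quotient_pair (A := c.A) P₀
  obtain ⟨a₁, b₁, h11, h12, -, heq⟩ := formula_component hP₀ T t' hT₀ ht'
  have e1 := heq (c.catAbove hcat)
  have h1 : a₁ = a := by exact_mod_cast h11.symm.trans (hP₀e.trans hqa)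
  have h2 : b₁ ≤ b := by
    have h := relHeight_le_height (P := PrimeSpectrum.comap (algebraMap c.A c.B) P₀) (p := c.p) (Ideal.comap_mono hP₀)
    rw [hpb, show relHeight (PrimeSpectrum.comap (algebraMap c.A c.B) P₀) c.p = b₁ from h12] at h
    exact_mod_cast h
  have hTle := hT P₀ hP₀ T hT₀
  have hTt : T = t := by omega
  have hb₁ : b₁ = b := by omega
  have hmin : IsMin (PrimeSpectrum.comap (algebraMap c.A c.B) P₀) := fun p' hp' => by
    by_contra hlt
    have h := one_add_relHeight_le (lt_of_le_not_ge hp' hlt)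
      (show PrimeSpectrum.comap (algebraMap c.A c.B) P₀ ≤ c.p from Ideal.comap_mono hP₀)
    rw [show relHeight (PrimeSpectrum.comap (algebraMap c.A c.B) P₀) c.p = b₁ from h12, hb₁] at h
    have h' := h.trans (relHeight_le_height (P := p') (p := c.p) (hp'.trans (Ideal.comap_mono hP₀)))
    rw [hpb] at h'
    have h'' : b + 1 ≤ b := by exact_mod_cast h'
    omega
  have hgenY : f (c.j P₀) = genericPoint Y := by
    rw [c.apply_j]
    have hs : genericPoint Y ⤳ c.i (PrimeSpectrum.comap (algebraMap c.A c.B) P₀) := genericPoint_specializes _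
    obtain ⟨p', hp'⟩ := hs.mem_open c.i.isOpenEmbedding.isOpen_range ⟨_, rfl⟩
    rw [← hp'] at hs ⊢
    exact congrArg c.i (le_antisymm (α := PrimeSpectrum c.A) (hmin (c.le_of_specializes_base hs))
      (c.le_of_specializes_base hs))
  refine exists_component_of_point f (c.j P₀) hgenY (fun x' _ hx' => ?_) t (by rw [c.resTrdegAt_eq, hT₀, hTt])
  obtain ⟨P', -, rfl⟩ := c.exists_le (hx'.trans (c.specializes hP₀))
  exact congrArg c.j (le_antisymm (α := PrimeSpectrum c.B) (c.le_of_specializes hx') (hP₀min (c.le_of_specializes hx')))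

end Groth.Agent.DimFormulaLib
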