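import Groth.Agent.DimFormulaLib.Fibre

/-!
The dimension formula along a component, for algebras which need not be domains.
-/

set_option autoImplicit false

namespace Groth.Agent.DimFormulaLib

universe u

open Order

variable {A B : Type u} [CommRing A] [CommRing B] [Algebra A B]

theorem catAbove_quotient {p : PrimeSpectrum A} (h : CatAbove A p.asIdeal) {P : PrimeSpectrum A} (hP : P ≤ p) :
    CatAbove (A ⧸ P.asIdeal) (p.asIdeal.map (Ideal.Quotient.mk P.asIdeal)) := by
  intro T _ _ _ Q _ hQ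
  letI : Algebra A T := ((algebraMap (A ⧸ P.asIdeal) T).comp (Ideal.Quotient.mk P.asIdeal)).toAlgebra
  haveI : IsScalarTower A (A ⧸ P.asIdeal) T := .of_algebraMap_eq' rfl
  haveI : Algebra.FiniteType A T := Algebra.FiniteType.trans (inferInstance : Algebra.FiniteType A (A ⧸ P.asIdeal)) ‹_›
  refine h T Q ?_
  rw [show algebraMap A T = (algebraMap (A ⧸ P.asIdeal) T).comp (Ideal.Quotient.mk P.asIdeal) from rfl,
    ← Ideal.comap_comap, hQ, Ideal.comap_map_of_surjective' _ Ideal.Quotient.mk_surjective, Ideal.mk_ker]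
  exact sup_eq_left.2 hP

variable [IsNoetherianRing A] [Algebra.FiniteType A B]

omit [IsNoetherianRing A] in
theorem exists_nat_trdeg_quotient_pair (q : PrimeSpectrum B) :
    ∃ n : ℕ, Algebra.trdeg (A ⧸ (PrimeSpectrum.comap (algebraMap A B) q).asIdeal) (B ⧸ q.asIdeal) = n := by
  haveI : q.asIdeal.LiesOver (PrimeSpectrum.comap (algebraMap A B) q).asIdeal := ⟨rfl⟩
  haveI : Algebra.FiniteType (A ⧸ (PrimeSpectrum.comap (algebraMap A B) q).asIdeal) (B ⧸ q.asIdeal) :=
    Algebra.FiniteType.of_restrictScalars_finiteType A _ _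
  exact Cardinal.lt_aleph0.1 trdeg_lt_aleph0_of_finiteType

/-- The dimension formula along `B/P`. -/
theorem formula_component {P q : PrimeSpectrum B} (h : P ≤ q) (t t' : ℕ)
    (ht : Algebra.trdeg (A ⧸ (PrimeSpectrum.comap (algebraMap A B) P).asIdeal) (B ⧸ P.asIdeal) = t)
    (ht' : Algebra.trdeg (A ⧸ (PrimeSpectrum.comap (algebraMap A B) q).asIdeal) (B ⧸ q.asIdeal) = t') :
    ∃ a b : ℕ, relHeight P q = a ∧
      relHeight (PrimeSpectrum.comap (algebraMap A B) P) (PrimeSpectrum.comap (algebraMap A B) q) = b ∧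
      a + t' ≤ b + t ∧ (CatAbove A (PrimeSpectrum.comap (algebraMap A B) q).asIdeal → a + t' = b + t) := by
  let P0 := PrimeSpectrum.comap (algebraMap A B) P
  let p := PrimeSpectrum.comap (algebraMap A B) q
  haveI : P.asIdeal.LiesOver P0.asIdeal := ⟨rfl⟩
  haveI : q.asIdeal.LiesOver p.asIdeal := ⟨rfl⟩
  haveI : Algebra.FiniteType (A ⧸ P0.asIdeal) (B ⧸ P.asIdeal) := Algebra.FiniteType.of_restrictScalars_finiteType A _ _
  have hle : P0.asIdeal ≤ p.asIdeal := Ideal.comap_mono h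
  let p' := p.asIdeal.map (Ideal.Quotient.mk P0.asIdeal)
  let q' := q.asIdeal.map (Ideal.Quotient.mk P.asIdeal)
  haveI : p'.IsPrime := Ideal.map_isPrime_of_surjective Ideal.Quotient.mk_surjective (by rw [Ideal.mk_ker]; exact hle)
  haveI : q'.IsPrime := Ideal.map_isPrime_of_surjective Ideal.Quotient.mk_surjective (by rw [Ideal.mk_ker]; exact h)
  haveI : q'.LiesOver p' := ⟨by
    ext x
    obtain ⟨a, rfl⟩ := Ideal.Quotient.mk_surjective x
    rw [Ideal.mem_comap, Ideal.Quotient.algebraMap_mk_of_liesOver,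
      Ideal.mem_quotient_iff_mem hle, Ideal.mem_quotient_iff_mem h]
    rfl⟩
  obtain ⟨hq, hp, s', s, e1, e2, e3, e4, le, heq⟩ := dim_formula' p' q'
  have e : Algebra.trdeg ((A ⧸ P0.asIdeal) ⧸ p') ((B ⧸ P.asIdeal) ⧸ q') =
      Algebra.trdeg (A ⧸ p.asIdeal) (B ⧸ q.asIdeal) :=
    trdeg_eq_of_ringEquiv (DoubleQuot.quotQuotEquivQuotOfLE hle) (DoubleQuot.quotQuotEquivQuotOfLE h) fun r => by
      obtain ⟨r, rfl⟩ := Ideal.Quotient.mk_surjective r
      obtain ⟨r, rfl⟩ := Ideal.Quotient.mk_surjective r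
      rfl
  rw [e3, ht'] at e
  have h1 : s' = t' := by exact_mod_cast e
  have h2 : s = t := by exact_mod_cast e4.symm.trans ht
  exact ⟨hq, hp, e1, e2, by omega, fun hc => by
    have := heq (catAbove_quotient hc hle)
    omega⟩

/-- Dimensions at `q` over `p`: `dim B_q ≤ dim A_p + dim (fibre)_q`. -/
theorem exists_dims (q : PrimeSpectrum B) (Q : PrimeSpectrum ((PrimeSpectrum.comap (algebraMap A B) q).asIdeal.Fiber B))
    (hQ : Q.asIdeal.comap (Algebra.TensorProduct.includeRight :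
      B →ₐ[A] (PrimeSpectrum.comap (algebraMap A B) q).asIdeal.Fiber B).toRingHom = q.asIdeal) :
    ∃ a b d t' : ℕ, q.asIdeal.height = a ∧ (PrimeSpectrum.comap (algebraMap A B) q).asIdeal.height = b ∧
      Q.asIdeal.height = d ∧
      Algebra.trdeg (A ⧸ (PrimeSpectrum.comap (algebraMap A B) q).asIdeal) (B ⧸ q.asIdeal) = t' ∧
      FlatMor.localDim (PrimeSpectrum ((PrimeSpectrum.comap (algebraMap A B) q).asIdeal.Fiber B)) Q =
        ((d + t' : ℕ) : WithBot ℕ∞) ∧
      a ≤ b + d ∧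
      (∀ (P : PrimeSpectrum B), P ≤ q → ∀ t : ℕ,
        Algebra.trdeg (A ⧸ (PrimeSpectrum.comap (algebraMap A B) P).asIdeal) (B ⧸ P.asIdeal) = t → t ≤ d + t') := by
  let p := PrimeSpectrum.comap (algebraMap A B) q
  haveI : q.asIdeal.LiesOver p.asIdeal := ⟨rfl⟩
  haveI : IsNoetherianRing B := Algebra.FiniteType.isNoetherianRing A B
  obtain ⟨t', ht'⟩ := exists_nat_trdeg_quotient_pair (A := A) q
  obtain ⟨d, hd, hloc, -⟩ := localDim_eq_height_add p.asIdeal.ResidueField (p.asIdeal.Fiber B) Q t'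
    ((trdeg_fibre p.asIdeal q.asIdeal Q.asIdeal hQ).trans ht')
  obtain ⟨b, hb⟩ := ENat.ne_top_iff_exists.mp (Ideal.height_ne_top (I := p.asIdeal) p.isPrime.ne_top)
  have hT : ∀ (P : PrimeSpectrum B), P ≤ q → ∀ t : ℕ,
      Algebra.trdeg (A ⧸ (PrimeSpectrum.comap (algebraMap A B) P).asIdeal) (B ⧸ P.asIdeal) = t → t ≤ d + t' := by
    intro P hP t ht
    have h1 := trdeg_le_localDim_fibre P.asIdeal q.asIdeal hP p.asIdeal Q hQ (d + t') hloc
    have h2 : (t : Cardinal.{u}) ≤ ((d + t' : ℕ) : Cardinal.{u}) := ht ▸ h1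
    exact_mod_cast h2
  obtain ⟨P, -, hPq, hPe⟩ := exists_isMin_relHeight_eq_height q
  obtain ⟨t, ht⟩ := exists_nat_trdeg_quotient_pair (A := A) P
  obtain ⟨a, b', ha, hb', hle, -⟩ := formula_component hPq t t' ht ht'
  refine ⟨a, b, d, t', hPe ▸ ha, hb.symm, hd, ht', hloc, ?_, hT⟩
  have h3 := relHeight_le_height (P := PrimeSpectrum.comap (algebraMap A B) P) (p := p) (Ideal.comap_mono hPq)
  rw [hb', ← hb] at h3
  have h4 : b' ≤ b := by exact_mod_cast h3
  have := hT P hPq t ht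
  omega

omit [IsNoetherianRing A] in
/-- The fibre dimension is attained at a component of the fibre. -/
theorem exists_fibre_component (q : PrimeSpectrum B)
    (Q : PrimeSpectrum ((PrimeSpectrum.comap (algebraMap A B) q).asIdeal.Fiber B))
    (hQ : Q.asIdeal.comap (Algebra.TensorProduct.includeRight :
      B →ₐ[A] (PrimeSpectrum.comap (algebraMap A B) q).asIdeal.Fiber B).toRingHom = q.asIdeal)
    (n : ℕ) (hn : FlatMor.localDim (PrimeSpectrum ((PrimeSpectrum.comap (algebraMap A B) q).asIdeal.Fiber B)) Q = n) :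
    ∃ P : PrimeSpectrum B, P ≤ q ∧ PrimeSpectrum.comap (algebraMap A B) P = PrimeSpectrum.comap (algebraMap A B) q ∧
      (∀ P', P' ≤ P → PrimeSpectrum.comap (algebraMap A B) P' = PrimeSpectrum.comap (algebraMap A B) q → P' = P) ∧
      Algebra.trdeg (A ⧸ (PrimeSpectrum.comap (algebraMap A B) P).asIdeal) (B ⧸ P.asIdeal) = n := by
  let p := PrimeSpectrum.comap (algebraMap A B) q
  let F := p.asIdeal.Fiber B
  haveI : q.asIdeal.LiesOver p.asIdeal := ⟨rfl⟩
  haveI : IsNoetherianRing F := Algebra.FiniteType.isNoetherianRing p.asIdeal.ResidueField F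
  obtain ⟨r, hr⟩ := exists_nat_trdeg_quotient p.asIdeal.ResidueField F Q.asIdeal
  obtain ⟨a, ha, hd, -⟩ := localDim_eq_height_add p.asIdeal.ResidueField F Q r hr
  obtain ⟨N, hNmin, hNQ, hNe⟩ := exists_isMin_relHeight_eq_height Q
  obtain ⟨m, hm⟩ := exists_nat_trdeg_quotient p.asIdeal.ResidueField F N.asIdeal
  obtain ⟨a', ha', hma⟩ := trdeg_eq_relHeight_add p.asIdeal.ResidueField F hNQ m r hm hr
  have hna : n = a + r := by exact_mod_cast hn.symm.trans hd
  have haa : a' = a := by exact_mod_cast ha'.symm.trans (hNe.trans ha)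
  let e := PrimeSpectrum.preimageOrderIsoFiber A B p
  have hsymm : ∀ (z : PrimeSpectrum F), ((e.symm z).1).asIdeal =
      z.asIdeal.comap (Algebra.TensorProduct.includeRight : B →ₐ[A] F).toRingHom := fun z => rfl
  obtain ⟨P, hPover⟩ : ∃ P : {P : PrimeSpectrum B // PrimeSpectrum.comap (algebraMap A B) P = p},
      e.symm N = P := ⟨⟨(e.symm N).1, (e.symm N).2⟩, rfl⟩
  have hPN : P.1.asIdeal = N.asIdeal.comap (Algebra.TensorProduct.includeRight : B →ₐ[A] F).toRingHom :=
    (congrArg (fun z => z.1.asIdeal) hPover).symm.trans (hsymm N)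
  refine ⟨P.1, ?_, P.2, fun P' hP' hP'p => ?_, ?_⟩
  · show P.1.asIdeal ≤ q.asIdeal
    rw [hPN, ← hQ]
    exact Ideal.comap_mono hNQ
  · have h1 : e ⟨P', hP'p⟩ ≤ N := by
      rw [← e.apply_symm_apply N, e.le_iff_le, hPover]
      exact hP'
    have h2 : e ⟨P', hP'p⟩ = N := le_antisymm h1 (hNmin h1)
    have h3 := congrArg e.symm h2
    rw [e.symm_apply_apply, hPover] at h3
    exact congrArg Subtype.val h3
  · haveI : P.1.asIdeal.LiesOver p.asIdeal := ⟨(congrArg PrimeSpectrum.asIdeal P.2).symm⟩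
    have h1 := trdeg_fibre p.asIdeal P.1.asIdeal N.asIdeal hPN.symm
    rw [hm] at h1
    rw [trdeg_quotient_congr P.2]
    rw [show n = m by omega]
    exact h1.symm
where
  trdeg_quotient_congr {P : PrimeSpectrum B} {p : PrimeSpectrum A}
      (h : PrimeSpectrum.comap (algebraMap A B) P = p) :
      Algebra.trdeg (A ⧸ (PrimeSpectrum.comap (algebraMap A B) P).asIdeal) (B ⧸ P.asIdeal) =
        (haveI : P.asIdeal.LiesOver p.asIdeal := ⟨(congrArg PrimeSpectrum.asIdeal h).symm⟩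
         Algebra.trdeg (A ⧸ p.asIdeal) (B ⧸ P.asIdeal)) := by
    subst h
    rfl

end Groth.Agent.DimFormulaLib
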