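import Groth.Agent.DimFormulaLib.Chart
import Groth.Agent.DimFormulaLib.Component
import Mathlib.AlgebraicGeometry.Noetherian

/-!
Dimension theory of morphisms locally of finite type.
-/

set_option autoImplicit false

universe u

open CategoryTheory AlgebraicGeometry Topology TopologicalSpace

namespace Groth.Agent.DimFormulaLib

theorem topologicalKrullDim_eq_iSup_localDim (X : Type u) [TopologicalSpace X] :
    topologicalKrullDim X = ⨆ x : X, FlatMor.localDim X x := by
  refine le_antisymm ?_ (iSup_le fun x => iInf_le_of_le ⟨⊤, trivial⟩ (topologicalKrullDim_subspace_le X _))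
  refine iSup_le fun s => ?_
  obtain ⟨x, hx⟩ := s.head.2.nonempty
  refine le_iSup_of_le x (le_iInf fun U => ?_)
  have hne : ∀ i, ((s i : Set X) ∩ U.1).Nonempty := fun i =>
    ⟨x, (s.monotone (Fin.zero_le i) : s.head ≤ s i) hx, U.2⟩
  have hirr : ∀ i, IsIrreducible ((↑) ⁻¹' (s i : Set X) : Set ↥(U.1 : Set X)) := fun i => by
    refine ⟨?_, (s i).2.2.preimage U.1.isOpen.isOpenEmbedding_subtypeVal⟩
    obtain ⟨y, hy, hyU⟩ := hne i
    exact ⟨⟨y, hyU⟩, hy⟩
  let g : ∀ i, IrreducibleCloseds ↥(U.1 : Set X) := fun i =>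
    ⟨_, hirr i, (s i).3.preimage continuous_subtype_val⟩
  refine le_iSup_of_le (⟨s.length, g, fun i => ?_⟩ : LTSeries (IrreducibleCloseds ↥(U.1 : Set X))) le_rfl
  have hst : s (Fin.castSucc i) < s i.succ := s.step i
  refine lt_of_le_not_ge (show g (Fin.castSucc i) ≤ g i.succ from fun y hy => hst.le hy)
    (fun hle : g i.succ ≤ g (Fin.castSucc i) => hst.not_ge ?_)
  have hsub : (s i.succ : Set X) ∩ U.1 ⊆ (s (Fin.castSucc i) : Set X) := fun y hy =>
    hle (show (⟨y, hy.2⟩ : ↥(U.1 : Set X)) ∈ g i.succ from hy.1)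
  have h1 := subset_closure_inter_of_isPreirreducible_of_isOpen (s i.succ).2.2 U.1.isOpen (hne i.succ)
  exact h1.trans ((closure_mono hsub).trans (s (Fin.castSucc i)).3.closure_subset)

theorem topologicalKrullDim_eq_iSup_stalk (X : Scheme.{u}) :
    topologicalKrullDim X = ⨆ x : X, ringKrullDim (X.presheaf.stalk x) := by
  simp only [ringKrullDim_stalk_eq_coheight]
  rw [topologicalKrullDim, Order.krullDim_eq_of_orderIso (irreducibleSetEquivPoints (α := ↥X)),
    Order.krullDim_eq_iSup_coheight]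

theorem localDim_eq_fibreDimAt_of_subsingleton {X Y : Scheme.{u}} (f : X ⟶ Y) [Subsingleton ↥Y] (x : X) :
    FlatMor.localDim X x = FlatMor.fibreDimAt f x := by
  rw [FibreDimEt.fibreDimAt_eq_localDim f x rfl]
  haveI := FibreDimEt.quasiSober_fibre f (f x)
  have hr : Set.range (Subtype.val : ↥(f ⁻¹' {f x}) → ↥X) = Set.univ := by
    rw [Subtype.range_coe]
    exact Set.eq_univ_of_forall fun y => Subsingleton.elim (f y) (f x)
  have he : IsOpenEmbedding (Subtype.val : ↥(f ⁻¹' {f x}) → ↥X) :=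
    ⟨IsEmbedding.subtypeVal, hr ▸ isOpen_univ⟩
  exact (FibreDimEt.localDim_eq_of_isGenLift (FibreDimEt.isGenLift_of_isOpenEmbedding he) he.isOpenMap
    ⟨x, rfl⟩).symm

namespace Chart

variable {X Y : Scheme.{u}} {f : X ⟶ Y} {x : X}

/-- The same chart at a generization. -/
def move (c : Chart f x) (P : PrimeSpectrum c.B) : Chart f (c.j P) :=
  { c with q := P, hq := rfl }

/-- Generizations are seen in the chart. -/
theorem exists_le (c : Chart f x) {ξ : X} (h : ξ ⤳ x) : ∃ P, P ≤ c.q ∧ c.j P = ξ := by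
  obtain ⟨P, hP⟩ := h.mem_open c.j.isOpenEmbedding.isOpen_range ⟨c.q, c.hq⟩
  refine ⟨P, (PrimeSpectrum.le_iff_specializes _ _).2 ?_, hP⟩
  refine c.j.isOpenEmbedding.isInducing.specializes_iff.1 ?_
  rw [hP, c.hq]
  exact h

theorem specializes (c : Chart f x) {P : PrimeSpectrum c.B} (h : P ≤ c.q) : c.j P ⤳ x := by
  have h1 := ((PrimeSpectrum.le_iff_specializes _ _).1 h).map c.j.isOpenEmbedding.continuous
  rwa [c.hq] at h1

theorem isNoetherianRing (c : Chart f x) [IsLocallyNoetherian Y] : IsNoetherianRing c.A := by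
  haveI : IsLocallyNoetherian (Spec (.of c.A)) := isLocallyNoetherian_of_isOpenImmersion c.i
  haveI : IsNoetherianRing Γ(Spec (.of c.A), ⊤) :=
    IsLocallyNoetherian.component_noetherian ⟨⊤, isAffineOpen_top _⟩
  exact isNoetherianRing_of_ringEquiv _ (Scheme.ΓSpecIso (.of c.A)).commRingCatIsoToRingEquiv

theorem catAbove (c : Chart f x) (h : CAlg.IsUniversallyCatenary (Y.presheaf.stalk (f x))) :
    CatAbove c.A c.p.asIdeal := by
  refine catAbove_of_atPrime _ ?_
  let z : ↥(Spec (.of c.A)) := c.p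
  have hz : c.i z = f x := c.hp
  have h' : CAlg.IsUniversallyCatenary (Y.presheaf.stalk (c.i z)) := by rw [hz]; exact h
  let e : Y.presheaf.stalk (c.i z) ≃+* Localization.AtPrime c.p.asIdeal :=
    (asIso (c.i.stalkMap z) ≪≫ AlgebraicGeometry.Spec.stalkIso (.of c.A) z).commRingCatIsoToRingEquiv
  exact RatliffLib.isUniversallyCatenary_of_surjective e.toRingHom e.surjective h'

/-- All the dimensions at a point, for a locally noetherian base. -/
theorem dims (c : Chart f x) [IsLocallyNoetherian Y] :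
    ∃ a b d t' : ℕ, ringKrullDim (X.presheaf.stalk x) = (a : WithBot ℕ∞) ∧
      ringKrullDim (Y.presheaf.stalk (f x)) = (b : WithBot ℕ∞) ∧
      ringKrullDim ((f.fiber (f x)).presheaf.stalk (f.asFiber x)) = (d : WithBot ℕ∞) ∧
      Algebra.trdeg (c.A ⧸ c.p.asIdeal) (c.B ⧸ c.q.asIdeal) = t' ∧
      FlatMor.fibreDimAt f x = ((d + t' : ℕ) : WithBot ℕ∞) ∧ c.q.asIdeal.height = a ∧ c.p.asIdeal.height = b ∧
      a ≤ b + d ∧
      ∀ P : PrimeSpectrum c.B, P ≤ c.q → ∀ t : ℕ,
        Algebra.trdeg (c.A ⧸ (PrimeSpectrum.comap (algebraMap c.A c.B) P).asIdeal) (c.B ⧸ P.asIdeal) = t →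
          t ≤ d + t' := by
  haveI := c.isNoetherianRing
  obtain ⟨a, b, d, t', ha, hb, hd, ht', hloc, hle, hT⟩ := exists_dims c.q c.Q c.comap_Q
  refine ⟨a, b, d, t', ?_, ?_, ?_, ht', c.fibreDimAt_eq.trans hloc, ha, hb, hle, hT⟩
  · rw [c.dim_stalk_source, ha]; rfl
  · rw [c.dim_stalk_target, show c.p.asIdeal.height = b from hb]; rfl
  · rw [c.dim_stalk_fibre, show c.Q.asIdeal.height = d from hd]; rfl

end Chart

end Groth.Agent.DimFormulaLib
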