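import Groth.Agent.DimFormulaLib.LocalDim
import Mathlib.RingTheory.ZariskisMainTheorem
import Mathlib.RingTheory.LocalRing.ResidueField.Fiber

/-!
Fibres of algebras of finite type: transcendence degrees and the lower bound on their dimension.
-/

set_option autoImplicit false

namespace Groth.Agent.DimFormulaLib

universe u

open TensorProduct

variable {A B : Type u} [CommRing A] [CommRing B] [Algebra A B]

theorem trdeg_fibre_aux {F K : Type u} [CommRing F] [Field K] (p : Ideal A) [p.IsPrime] (q : Ideal B) [q.IsPrime]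
    [q.LiesOver p] [Algebra B F] [Algebra A F] [IsScalarTower A B F] [Algebra K F] [Algebra A K] [IsScalarTower A K F]
    [Algebra (A ⧸ p) K] [IsScalarTower A (A ⧸ p) K] [IsFractionRing (A ⧸ p) K]
    (hfrac : ∀ x : F, ∃ r ∉ p, ∃ s : B, algebraMap A F r * x = algebraMap B F s)
    (Q : Ideal F) [Q.IsPrime] [Q.LiesOver q] :
    Algebra.trdeg K (F ⧸ Q) = Algebra.trdeg (A ⧸ p) (B ⧸ q) := by
  haveI : Q.LiesOver p := Ideal.LiesOver.trans Q q p
  haveI : IsScalarTower (A ⧸ p) (B ⧸ q) (F ⧸ Q) := IsScalarTower.of_algebraMap_eq fun a => by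
    obtain ⟨a, rfl⟩ := Ideal.Quotient.mk_surjective a
    exact congrArg (Ideal.Quotient.mk Q) (IsScalarTower.algebraMap_apply A B F a)
  haveI : IsScalarTower (A ⧸ p) K (F ⧸ Q) := IsScalarTower.of_algebraMap_eq fun a => by
    obtain ⟨a, rfl⟩ := Ideal.Quotient.mk_surjective a
    show Ideal.Quotient.mk Q (algebraMap A F a) = Ideal.Quotient.mk Q (algebraMap K F (algebraMap (A ⧸ p) K (algebraMap A (A ⧸ p) a)))
    rw [← IsScalarTower.algebraMap_apply A (A ⧸ p) K, ← IsScalarTower.algebraMap_apply A K F]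
  haveI : Algebra.IsAlgebraic (B ⧸ q) (F ⧸ Q) := ⟨fun z => by
    obtain ⟨z, rfl⟩ := Ideal.Quotient.mk_surjective z
    obtain ⟨r, hr, s, e⟩ := hfrac z
    refine ⟨Polynomial.C (Ideal.Quotient.mk q (algebraMap A B r)) * Polynomial.X -
      Polynomial.C (Ideal.Quotient.mk q s), fun h => ?_, ?_⟩
    · have h1 := congrArg (fun f => Polynomial.coeff f 1) h
      simp only [Polynomial.coeff_sub, Polynomial.coeff_C_mul, Polynomial.coeff_X_one, mul_one,
        Polynomial.coeff_C_ne_zero one_ne_zero, sub_zero, Polynomial.coeff_zero] at h1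
      exact hr ((q.over_def p).ge (Ideal.Quotient.eq_zero_iff_mem.1 h1 : algebraMap A B r ∈ q))
    · simp only [map_sub, map_mul, Polynomial.aeval_C, Polynomial.aeval_X]
      show Ideal.Quotient.mk Q (algebraMap B F (algebraMap A B r)) * Ideal.Quotient.mk Q z -
        Ideal.Quotient.mk Q (algebraMap B F s) = 0
      rw [← IsScalarTower.algebraMap_apply, ← map_mul, e, sub_self]⟩
  haveI : FaithfulSMul (A ⧸ p) K :=
    (faithfulSMul_iff_algebraMap_injective _ _).2 (IsFractionRing.injective (A ⧸ p) K)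
  haveI : FaithfulSMul K (F ⧸ Q) := (faithfulSMul_iff_algebraMap_injective _ _).2 (RingHom.injective _)
  haveI : Algebra.IsAlgebraic (A ⧸ p) K :=
    (IsFractionRing.comap_isAlgebraic_iff (A := A ⧸ p) (K := K) (C := K)).2 inferInstance
  have h1 := trdeg_add_eq (A ⧸ p) K (A := F ⧸ Q)
  have h2 := trdeg_add_eq (A ⧸ p) (B ⧸ q) (A := F ⧸ Q)
  rw [trdeg_eq_zero (R := A ⧸ p) (A := K), zero_add] at h1
  rw [trdeg_eq_zero (R := B ⧸ q), add_zero] at h2
  rw [h1, h2]

/-- Residue extensions in a fibre do not depend on the fibre. -/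
theorem trdeg_fibre (p : Ideal A) [p.IsPrime] (q : Ideal B) [q.IsPrime] [q.LiesOver p]
    (Q : Ideal (p.Fiber B)) [Q.IsPrime]
    (hQ : Q.comap (Algebra.TensorProduct.includeRight : B →ₐ[A] p.Fiber B).toRingHom = q) :
    Algebra.trdeg p.ResidueField (p.Fiber B ⧸ Q) = Algebra.trdeg (A ⧸ p) (B ⧸ q) := by
  letI : Algebra B (p.Fiber B) := Algebra.TensorProduct.rightAlgebra
  haveI : Q.LiesOver q := ⟨hQ.symm⟩
  refine trdeg_fibre_aux (F := p.Fiber B) (K := p.ResidueField) p q (fun x => ?_) Q
  obtain ⟨r, hr, s, e⟩ := Ideal.Fiber.exists_smul_eq_one_tmul p x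
  exact ⟨r, hr, s, by rw [← Algebra.smul_def, e]; rfl⟩

/-- An algebra quasi-finite at a prime has algebraic residue extension there. -/
theorem isAlgebraic_of_quasiFiniteAt (P : Ideal B) [P.IsPrime] [Algebra.QuasiFiniteAt A P] :
    Algebra.trdeg (A ⧸ P.under A) (B ⧸ P) = 0 := by
  let p := P.under A
  letI : Algebra p.ResidueField P.ResidueField :=
    (Ideal.ResidueField.mapₐ p P (Algebra.ofId A B) rfl).toRingHom.toAlgebra
  haveI : IsScalarTower A p.ResidueField P.ResidueField := .of_algebraMap_eq fun a =>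
    ((Ideal.ResidueField.mapₐ p P (Algebra.ofId A B) rfl).commutes a).symm
  haveI : Algebra.QuasiFinite A P.ResidueField := Algebra.QuasiFinite.of_surjective_algHom
    (IsScalarTower.toAlgHom A (Localization.AtPrime P) P.ResidueField) IsLocalRing.residue_surjective
  haveI : Algebra.QuasiFinite p.ResidueField P.ResidueField := Algebra.QuasiFinite.of_restrictScalars A _ _
  haveI : Module.Finite p.ResidueField P.ResidueField := Module.Finite.of_quasiFinite
  letI : Algebra (A ⧸ p) P.ResidueField :=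
    ((algebraMap (B ⧸ P) P.ResidueField).comp (algebraMap (A ⧸ p) (B ⧸ P))).toAlgebra
  haveI : IsScalarTower (A ⧸ p) (B ⧸ P) P.ResidueField := .of_algebraMap_eq' rfl
  haveI : IsScalarTower (A ⧸ p) p.ResidueField P.ResidueField := .of_algebraMap_eq fun a => by
    obtain ⟨a, rfl⟩ := Ideal.Quotient.mk_surjective a
    exact ((Ideal.ResidueField.mapₐ p P (Algebra.ofId A B) rfl).commutes a).symm
  haveI : FaithfulSMul (A ⧸ p) p.ResidueField :=
    (faithfulSMul_iff_algebraMap_injective _ _).2 (Ideal.injective_algebraMap_quotient_residueField p)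
  haveI : FaithfulSMul p.ResidueField P.ResidueField :=
    (faithfulSMul_iff_algebraMap_injective _ _).2 (RingHom.injective _)
  haveI : Algebra.IsAlgebraic (A ⧸ p) p.ResidueField :=
    (IsFractionRing.comap_isAlgebraic_iff (A := A ⧸ p) (K := p.ResidueField) (C := p.ResidueField)).2 inferInstance
  rw [trdeg_eq_of_isFractionRing (K := P.ResidueField), ← trdeg_add_eq (A ⧸ p) p.ResidueField (A := P.ResidueField),
    trdeg_eq_zero (R := A ⧸ p) (A := p.ResidueField), trdeg_eq_zero (R := p.ResidueField), zero_add]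

variable [Algebra.FiniteType A B]

/-- Locally on the source an algebra is quasi-finite over a polynomial algebra in as many variables as the
dimension of the fibre. -/
theorem exists_quasiFinite_nhd (q : Ideal B) [q.IsPrime]
    (p : Ideal A) [p.IsPrime] [q.LiesOver p] (Q : PrimeSpectrum (p.Fiber B))
    (hQ : Q.asIdeal.comap (Algebra.TensorProduct.includeRight : B →ₐ[A] p.Fiber B).toRingHom = q)
    (n : ℕ) (hn : FlatMor.localDim (PrimeSpectrum (p.Fiber B)) Q = n) :
    ∃ g ∉ q, ∃ φ : MvPolynomial (Fin n) A →ₐ[A] B,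
      ∀ (P : Ideal B) [P.IsPrime], g ∉ P →
        letI := φ.toRingHom.toAlgebra
        Algebra.QuasiFiniteAt (MvPolynomial (Fin n) A) P := by
  classical
  let F := p.Fiber B
  let ι : B →ₐ[A] F := Algebra.TensorProduct.includeRight
  haveI : IsNoetherianRing F := Algebra.FiniteType.isNoetherianRing p.ResidueField F
  -- a maximal ideal of the fibre computing the local dimension
  obtain ⟨r, hr⟩ := exists_nat_trdeg_quotient p.ResidueField F Q.asIdeal
  obtain ⟨a, -, hd, hinf⟩ := localDim_eq_height_add p.ResidueField F Q r hr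
  haveI : Nonempty {m : Ideal F // m.IsMaximal ∧ Q.asIdeal ≤ m} := by
    obtain ⟨m, hm, hQm⟩ := Ideal.exists_le_maximal Q.asIdeal Q.isPrime.ne_top
    exact ⟨⟨m, hm, hQm⟩⟩
  obtain ⟨⟨M, hM, hQM⟩, hMd⟩ := ciInf_mem
    (fun m : {m : Ideal F // m.IsMaximal ∧ Q.asIdeal ≤ m} =>
      ringKrullDim (Localization.AtPrime (hp := m.2.1.isPrime') m.1))
  haveI := hM.isPrime'
  have hMn : M.height = n := by
    have h1 : ringKrullDim (Localization.AtPrime M) = n := hMd.trans (hinf.trans (hd.symm.trans hn))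
    rw [IsLocalization.AtPrime.ringKrullDim_eq_height M (Localization.AtPrime M)] at h1
    exact WithBot.coe_injective h1
  obtain ⟨s, hMs, hcard⟩ := Ideal.exists_finset_card_eq_height_of_isNoetherianRing M
  choose c hc b hb using fun x : F => Ideal.Fiber.exists_smul_eq_one_tmul p x
  have hunit : ∀ r ∉ p, IsUnit (algebraMap A F r) := fun r hr => by
    rw [IsScalarTower.algebraMap_apply A p.ResidueField F]
    exact (Ne.isUnit (fun h => hr (Ideal.algebraMap_residueField_eq_zero.1 h))).map _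
  have hscale : ∀ (x : F) (J : Ideal F), ι (b x) ∈ J ↔ x ∈ J := fun x J => by
    rw [show ι (b x) = algebraMap A F (c x) * x from (by rw [← Algebra.smul_def, hb]; rfl),
      Ideal.unit_mul_mem_iff_mem J (hunit _ (hc x))]
  let σ : Fin s.card → F := fun i => (s.equivFin.symm i : F)
  have hσ : ∀ x ∈ s, ∃ i, σ i = x := fun x hx => ⟨s.equivFin ⟨x, hx⟩, by simp [σ]⟩
  let φ : MvPolynomial (Fin s.card) A →ₐ[A] B := MvPolynomial.aeval fun i => b (σ i)
  letI : Algebra (MvPolynomial (Fin s.card) A) B := φ.toRingHom.toAlgebra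
  haveI : IsScalarTower A (MvPolynomial (Fin s.card) A) B := .of_algebraMap_eq fun a => (φ.commutes a).symm
  haveI : Algebra.FiniteType (MvPolynomial (Fin s.card) A) B := Algebra.FiniteType.of_restrictScalars_finiteType A _ _
  let qM : PrimeSpectrum B := ⟨M.comap ι.toRingHom, inferInstance⟩
  have hqqM : q ≤ qM.asIdeal := hQ ▸ Ideal.comap_mono hQM
  have hover : qM.asIdeal.comap (algebraMap A B) = p := by
    refine le_antisymm (fun a ha => ?_) (fun a ha => hqqM ((q.over_def p).le ha))
    by_contra hap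
    exact hM.ne_top (M.eq_top_of_isUnit_mem (by simpa [qM] using ha) (by simpa using hunit a hap))
  have hsub : ∀ x ∈ s, x ∈ M := fun x hx => hMs.1.2 (Ideal.subset_span hx)
  -- other components
  have hfin := (Ideal.span (s : Set F)).finite_minimalPrimes_of_isNoetherianRing
  have hsep : ∀ N : Ideal F, ∃ g ∉ M, N ∈ (Ideal.span (s : Set F)).minimalPrimes → N ≠ M → g ∈ N := fun N => by
    by_cases hN : N ∈ (Ideal.span (s : Set F)).minimalPrimes ∧ N ≠ M
    · obtain ⟨g, hg, hgM⟩ := SetLike.not_le_iff_exists.1 fun hle : N ≤ M =>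
        hN.2 (le_antisymm hle (hMs.2 hN.1.1 hle))
      exact ⟨g, hgM, fun _ _ => hg⟩
    · exact ⟨1, fun h => hM.ne_top ((Ideal.eq_top_iff_one _).2 h), fun h1 h2 => absurd ⟨h1, h2⟩ hN⟩
  choose g hgM hg using hsep
  let G : F := ∏ N ∈ hfin.toFinset, g N
  have hGM : G ∉ M := fun h => by
    obtain ⟨N, -, hN⟩ := (inferInstance : M.IsPrime).prod_mem_iff.1 h
    exact hgM N hN
  haveI : Algebra.QuasiFiniteAt (MvPolynomial (Fin s.card) A) qM.asIdeal := by
    refine Algebra.QuasiFiniteAt.of_isOpen_singleton_fiber qM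
      (isOpen_induced_iff.2 ⟨PrimeSpectrum.basicOpen (b G), (PrimeSpectrum.basicOpen (b G)).isOpen, ?_⟩)
    ext ⟨x, hx⟩
    simp only [Set.mem_preimage, Set.mem_singleton_iff, SetLike.mem_coe, PrimeSpectrum.mem_basicOpen,
      Subtype.mk.injEq]
    constructor
    · intro hG
      have hxM : ∀ f : MvPolynomial (Fin s.card) A, φ f ∈ x.asIdeal ↔ φ f ∈ qM.asIdeal := fun f =>
        SetLike.ext_iff.1 (congrArg PrimeSpectrum.asIdeal hx) f
      have hxp : x.asIdeal.comap (algebraMap A B) = p := by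
        rw [← hover]
        ext a
        simpa using hxM (MvPolynomial.C a)
      let e := PrimeSpectrum.preimageEquivFiber A B ⟨p, inferInstance⟩
      let X := e ⟨x, PrimeSpectrum.ext hxp⟩
      have hX : X.asIdeal.comap ι.toRingHom = x.asIdeal :=
        congrArg (fun z => z.1.asIdeal) (e.symm_apply_apply ⟨x, PrimeSpectrum.ext hxp⟩)
      obtain ⟨N, hN, hNX⟩ := Ideal.exists_minimalPrimes_le
        (I := Ideal.span (s : Set F)) (J := X.asIdeal) (Ideal.span_le.2 fun y hy => by
          obtain ⟨i, rfl⟩ := hσ y hy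
          refine (hscale _ _).1 ((Ideal.mem_comap (f := ι.toRingHom)).1 ?_)
          rw [hX]
          have h1 : φ (MvPolynomial.X i) ∈ qM.asIdeal := by
            rw [MvPolynomial.aeval_X]
            exact (hscale _ _).2 (hsub _ hy)
          simpa [φ] using (hxM (MvPolynomial.X i)).2 h1)
      have hNM : N = M := by
        by_contra hne
        refine hG (hX.le ?_)
        exact (hscale G X.asIdeal).2 (hNX (N.mem_of_dvd (Finset.dvd_prod_of_mem g (hfin.mem_toFinset.2 hN))
          (hg N hN hne)))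
      have : X.asIdeal = M := (hM.eq_of_le X.isPrime.ne_top (hNM ▸ hNX)).symm
      exact PrimeSpectrum.ext (by rw [← hX, this])
    · rintro rfl
      exact fun h => hGM ((hscale G M).1 h)
  obtain ⟨S', hS', r, hr, hbij⟩ :=
    Algebra.QuasiFiniteAt.exists_fg_and_exists_notMem_and_awayMap_bijective
      (R := MvPolynomial (Fin s.card) A) qM.asIdeal
  have hcn : s.card = n := by
    rw [hMn] at hcard
    exact_mod_cast hcard
  subst hcn
  refine ⟨r.1, fun h => hr (hqqM h), φ, fun P _ hP => ?_⟩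
  haveI : Module.Finite (MvPolynomial (Fin s.card) A) S' := ⟨(Submodule.fg_top _).mpr hS'⟩
  haveI : Algebra.QuasiFinite (MvPolynomial (Fin s.card) A) (Localization.Away r) := .trans _ S' _
  haveI : Algebra.QuasiFinite (MvPolynomial (Fin s.card) A) (Localization.Away r.1) :=
    Algebra.QuasiFinite.of_surjective_algHom (R := MvPolynomial (Fin s.card) A) (S := Localization.Away r)
      (T := Localization.Away r.1) (Localization.awayMapₐ S'.val r) hbij.2
  let f : Localization.Away r.1 →ₐ[B] Localization.AtPrime P :=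
    IsLocalization.Away.liftAlgHom r.1 (f := Algebra.ofId _ _) <|
      IsLocalization.map_units (M := P.primeCompl) (Localization.AtPrime P) ⟨r, hP⟩
  refine Algebra.QuasiFinite.of_forall_exists_mul_mem_range (f.restrictScalars _) fun x => ?_
  obtain ⟨x, ⟨t, ht⟩, rfl⟩ := IsLocalization.exists_mk'_eq P.primeCompl x
  exact ⟨algebraMap _ _ t, by simpa using IsLocalization.map_units _ ⟨t, ht⟩,
    algebraMap _ _ x, by simp⟩

/-- Quasi-finiteness over `A[X₁,…,Xₙ]` at `P` bounds the transcendence degree by `n`. -/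
theorem trdeg_le_of_quasiFiniteAt (n : ℕ) (φ : MvPolynomial (Fin n) A →ₐ[A] B) (P : Ideal B) [P.IsPrime]
    (hP : letI := φ.toRingHom.toAlgebra
      Algebra.QuasiFiniteAt (MvPolynomial (Fin n) A) P) :
    Algebra.trdeg (A ⧸ P.under A) (B ⧸ P) ≤ n := by
  letI : Algebra (MvPolynomial (Fin n) A) B := φ.toRingHom.toAlgebra
  haveI : IsScalarTower A (MvPolynomial (Fin n) A) B := .of_algebraMap_eq fun a => (φ.commutes a).symm
  haveI : Algebra.QuasiFiniteAt (MvPolynomial (Fin n) A) P := hP
  let P' : Ideal (MvPolynomial (Fin n) A) := P.under _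
  haveI : P.LiesOver P' := ⟨rfl⟩
  haveI : P'.LiesOver (P.under A) := ⟨(Ideal.under_under P).symm⟩
  haveI : IsScalarTower (A ⧸ P.under A) (MvPolynomial (Fin n) A ⧸ P') (B ⧸ P) :=
    IsScalarTower.of_algebraMap_eq fun a => by
      obtain ⟨a, rfl⟩ := Ideal.Quotient.mk_surjective a
      exact congrArg (Ideal.Quotient.mk P) (φ.commutes a).symm
  rw [← trdeg_add_eq (A ⧸ P.under A) (MvPolynomial (Fin n) A ⧸ P') (A := B ⧸ P),
    isAlgebraic_of_quasiFiniteAt (A := MvPolynomial (Fin n) A) P, add_zero]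
  let π : MvPolynomial (Fin n) (A ⧸ P.under A) →ₐ[A ⧸ P.under A] (MvPolynomial (Fin n) A ⧸ P') :=
    MvPolynomial.aeval fun i => Ideal.Quotient.mk P' (MvPolynomial.X i)
  have hπ : Function.Surjective π := fun z => by
    obtain ⟨z, rfl⟩ := Ideal.Quotient.mk_surjective z
    refine ⟨MvPolynomial.map (Ideal.Quotient.mk (P.under A)) z, ?_⟩
    rw [show MvPolynomial.map (Ideal.Quotient.mk (P.under A)) z
      = MvPolynomial.map (algebraMap A (A ⧸ P.under A)) z from rfl,
      show π (MvPolynomial.map (algebraMap A (A ⧸ P.under A)) z) = _ from MvPolynomial.aeval_map_algebraMap _ _ z]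
    exact (MvPolynomial.comp_aeval_apply (φ := Ideal.Quotient.mkₐ A P') MvPolynomial.X z).symm.trans
      (by rw [MvPolynomial.aeval_X_left_apply]; rfl)
  refine (trdeg_le_of_surjective π hπ).trans (le_of_eq ?_)
  rw [MvPolynomial.trdeg_of_isDomain, Cardinal.mk_fin, Cardinal.lift_natCast]

/-- The generic fibre dimension is at most the dimension of the fibre at any point. -/
theorem trdeg_le_localDim_fibre (P : Ideal B) [P.IsPrime] (q : Ideal B) [q.IsPrime] (hPq : P ≤ q)
    (p : Ideal A) [p.IsPrime] [q.LiesOver p] (Q : PrimeSpectrum (p.Fiber B))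
    (hQ : Q.asIdeal.comap (Algebra.TensorProduct.includeRight : B →ₐ[A] p.Fiber B).toRingHom = q)
    (n : ℕ) (hn : FlatMor.localDim (PrimeSpectrum (p.Fiber B)) Q = n) :
    Algebra.trdeg (A ⧸ P.under A) (B ⧸ P) ≤ n := by
  obtain ⟨g, hg, φ, hqf⟩ := exists_quasiFinite_nhd q p Q hQ n hn
  exact trdeg_le_of_quasiFiniteAt n φ P (hqf P fun h => hg (hPq h))

end Groth.Agent.DimFormulaLib
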