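import Groth.Agent.DimFormulaLib.Irreducible

/-!
The dimension inequality without irreducibility assumptions.
-/

set_option autoImplicit false

universe u

open CategoryTheory AlgebraicGeometry Topology TopologicalSpace

namespace Groth.Agent.DimFormulaLib

/-- `dim O_{X,x} + trdeg κ(x)/κ(s) ≤ dim O_{S,s} + sup` of generic transcendence degrees. -/
theorem stalk_dim_add_trdeg_le {X S : Scheme.{u}} [IsLocallyNoetherian S] (f : X ⟶ S) [LocallyOfFiniteType f]
    (x : X) (n E : ℕ) (hn : resTrdegAt f x = n)
    (hE : ∀ ξ : X, closure {ξ} ∈ irreducibleComponents ↥X → ξ ⤳ x → resTrdegAt f ξ ≤ E) :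
    ringKrullDim (X.presheaf.stalk x) + n ≤ ringKrullDim (S.presheaf.stalk (f x)) + E := by
  obtain ⟨c⟩ := exists_chart f x
  haveI := c.isNoetherianRing
  haveI : IsNoetherianRing c.B := Algebra.FiniteType.isNoetherianRing c.A c.B
  obtain ⟨a, b, d, t', ha, hb, -, ht', -, hqa, hpb, -, -⟩ := c.dims
  have htn : t' = n := by exact_mod_cast (c.resTrdegAt_self.trans ht').symm.trans hn
  obtain ⟨P, hPmin, hPq, hPe⟩ := exists_isMin_relHeight_eq_height c.q
  obtain ⟨t, ht⟩ := exists_nat_trdeg_quotient_pair (A := c.A) P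
  obtain ⟨a', b', ha', hb', hle, -⟩ := formula_component hPq t t' ht ht'
  have h1 : a' = a := by
    have := ha'.symm.trans (hPe.trans hqa)
    exact_mod_cast this
  have h2 : b' ≤ b := by
    have h := relHeight_le_height (P := PrimeSpectrum.comap (algebraMap c.A c.B) P) (p := c.p) (Ideal.comap_mono hPq)
    rw [show c.p.asIdeal.height = b from hpb] at h
    exact_mod_cast hb'.symm.trans_le h
  have hcomp : closure {c.j P} ∈ irreducibleComponents ↥X := by
    refine ⟨isIrreducible_singleton.closure, fun Z hZ hle => ?_⟩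
    obtain ⟨η, hη⟩ := QuasiSober.sober hZ.closure isClosed_closure
    have hηP : η ⤳ c.j P := hη.specializes (subset_closure (hle (subset_closure rfl)))
    obtain ⟨P', hP', rfl⟩ := c.exists_le (hηP.trans (c.specializes hPq))
    have hP'P : P' ≤ P := c.le_of_specializes hηP
    have hPP' : P = P' := le_antisymm (hPmin hP'P) hP'P
    intro z hz
    rw [hPP']
    exact hη.def.symm ▸ subset_closure hz
  have ht2 : t ≤ E := by
    have h := hE (c.j P) hcomp (c.specializes hPq)
    rw [c.resTrdegAt_eq, ht] at h
    exact_mod_cast h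
  rw [ha, hb]
  exact_mod_cast (by omega : a + n ≤ b + E)

end Groth.Agent.DimFormulaLib
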