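import Groth.Agent.DimFormulaLib.Converse

/-!
The height of a prime is computed on the minimal primes below it.
-/

set_option autoImplicit false

namespace Groth.Agent.DimFormulaLib

universe u

open Order

variable {C : Type u} [CommRing C]

theorem relHeight_le_height {P p : PrimeSpectrum C} (h : P ≤ p) : relHeight P p ≤ p.asIdeal.height := by
  obtain ⟨Φ, -, hr, hI⟩ := exists_quotEmb P
  obtain ⟨x, hx⟩ : p ∈ Set.range Φ := hr ▸ h
  rw [relHeight, ← hI x p hx, PrimeSpectrum.height_eq_orderHeight, PrimeSpectrum.height_eq_orderHeight, ← hx]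
  exact Order.height_le_height_apply_of_strictMono Φ Φ.strictMono x

theorem exists_isMin_relHeight_eq_height [IsNoetherianRing C] (p : PrimeSpectrum C) :
    ∃ P : PrimeSpectrum C, IsMin P ∧ P ≤ p ∧ relHeight P p = p.asIdeal.height := by
  obtain ⟨n, hn⟩ := ENat.ne_top_iff_exists.mp (Ideal.height_ne_top (I := p.asIdeal) p.isPrime.ne_top)
  obtain ⟨s, smin, sl, sn, -⟩ := saturated_of_length_eq_height
    (show height p = n by rw [← PrimeSpectrum.height_eq_orderHeight, hn])
  have hle : s.head ≤ p := sl ▸ s.head_le_last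
  refine ⟨s.head, smin, hle, le_antisymm (relHeight_le_height hle) ?_⟩
  obtain ⟨Φ, -, hr, hI⟩ := exists_quotEmb s.head
  choose g hg using fun i => (hr ▸ (s.monotone (Fin.zero_le i) : s.head ≤ s i) : s i ∈ Set.range Φ)
  rw [relHeight, ← hI (g (Fin.last _)) p ((hg _).trans sl), ← hn, PrimeSpectrum.height_eq_orderHeight]
  let t : LTSeries (PrimeSpectrum (C ⧸ s.head.asIdeal)) :=
    ⟨s.length, g, fun i => Φ.lt_iff_lt.1 (by rw [hg, hg]; exact s.step i)⟩
  have h := length_le_height_last (p := t)
  rwa [show (t.length : ℕ∞) = n from congrArg Nat.cast sn] at h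

end Groth.Agent.DimFormulaLib
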