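import Groth.Agent.DimFormulaLib.Main
import Groth.Agent.DimFormulaLib.Height
import Groth.Agent.RegLocLib.AffineDim
import Groth.Prelude.Def_Flat

/-!
Dimension and local dimension of algebras of finite type over a field.
-/

set_option autoImplicit false

namespace Groth.Agent.DimFormulaLib

universe u

open Order TopologicalSpace

theorem trdeg_eq_of_isFractionRing {k D K : Type u} [CommRing k] [Nontrivial k] [CommRing D] [IsDomain D] [Field K]
    [Algebra k D] [Algebra D K] [IsFractionRing D K] [Algebra k K] [IsScalarTower k D K] [FaithfulSMul k D] :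
    Algebra.trdeg k D = Algebra.trdeg k K := by
  haveI : Algebra.IsAlgebraic D K := (IsFractionRing.comap_isAlgebraic_iff (A := D) (K := K) (C := K)).2 inferInstance
  rw [← trdeg_add_eq k D (A := K), trdeg_eq_zero (R := D) (A := K), add_zero]

variable (k : Type u) [Field k]

theorem isUniversallyCatenary_field : CAlg.IsUniversallyCatenary k :=
  haveI : IsRegularLocalRing k := inferInstance
  haveI := RatliffLib.cm_of_regularLocal k
  CMCat.isUniversallyCatenary_of_cmLocal

theorem trdeg_residueField {S : Type u} [CommRing S] [Algebra k S] (p : Ideal S) [p.IsPrime] :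
    Algebra.trdeg k (S ⧸ p) = Algebra.trdeg k p.ResidueField :=
  trdeg_eq_of_isFractionRing

theorem ringKrullDim_eq_trdeg {D : Type u} [CommRing D] [IsDomain D] [Algebra k D] [Algebra.FiniteType k D]
    (n : ℕ) (hn : Algebra.trdeg k D = n) : ringKrullDim D = n := by
  obtain ⟨m, hm, hd, -⟩ := RegLocLib.affine_domain_dim k D
  rw [← trdeg_eq_of_isFractionRing (D := D) (K := FractionRing D), hn] at hm
  rw [hd]
  have : n = m := by exact_mod_cast hm
  rw [this]

variable (S : Type u) [CommRing S] [Algebra k S] [Algebra.FiniteType k S]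

theorem exists_nat_trdeg_quotient (P : Ideal S) [P.IsPrime] : ∃ n : ℕ, Algebra.trdeg k (S ⧸ P) = n :=
  Cardinal.lt_aleph0.1 trdeg_lt_aleph0_of_finiteType

/-- `dim S/P = ht(p/P) + trdeg κ(p)` for primes `P ≤ p` of a finite type algebra over a field. -/
theorem trdeg_eq_relHeight_add {P p : PrimeSpectrum S} (h : P ≤ p) (n r : ℕ)
    (hn : Algebra.trdeg k (S ⧸ P.asIdeal) = n) (hr : Algebra.trdeg k (S ⧸ p.asIdeal) = r) :
    ∃ a : ℕ, relHeight P p = a ∧ n = a + r := by
  let q := p.asIdeal.map (Ideal.Quotient.mk P.asIdeal)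
  haveI : q.IsPrime := Ideal.map_isPrime_of_surjective Ideal.Quotient.mk_surjective (by rw [Ideal.mk_ker]; exact h)
  haveI : q.LiesOver (⊥ : Ideal k) := ⟨((Ideal.eq_bot_or_top (q.under k)).resolve_right
    (Ideal.IsPrime.ne_top inferInstance)).symm⟩
  obtain ⟨hq, hp, t', t, e1, e2, e3, e4, -, heq⟩ := dim_formula (⊥ : Ideal k) q
  have h1 : t' = r := by
    have : Algebra.trdeg (k ⧸ (⊥ : Ideal k)) ((S ⧸ P.asIdeal) ⧸ q) = Algebra.trdeg k (S ⧸ p.asIdeal) :=
      trdeg_eq_of_ringEquiv (RingEquiv.quotientBot k) (DoubleQuot.quotQuotEquivQuotOfLE h) fun x => by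
        obtain ⟨x, rfl⟩ := Ideal.Quotient.mk_surjective x
        rfl
    rw [e3, hr] at this
    exact_mod_cast this
  have h2 : t = n := by exact_mod_cast e4.symm.trans hn
  have h3 : hp = 0 := by
    have : (⊥ : Ideal k).height = 0 := Ideal.height_bot
    rw [e2] at this
    exact_mod_cast this
  have := heq (isUniversallyCatenary_field k)
  exact ⟨hq, e1, by omega⟩

/-- The dimension of `S` is the largest `trdeg` of a minimal prime quotient. -/
theorem ringKrullDim_le_of_forall_minimal (d : WithBot ℕ∞)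
    (h : ∀ (P : Ideal S) (_ : P ∈ minimalPrimes S) (n : ℕ),
      haveI := (‹P ∈ minimalPrimes S› : P ∈ (⊥ : Ideal S).minimalPrimes).1.1
      Algebra.trdeg k (S ⧸ P) = n → (n : WithBot ℕ∞) ≤ d) :
    ringKrullDim S ≤ d := by
  refine (krullDim_eq_iSup_coheight (α := PrimeSpectrum S)).le.trans (iSup_le fun p => ?_)
  obtain ⟨P, hP, hle⟩ := Ideal.exists_minimalPrimes_le (I := (⊥ : Ideal S)) (J := p.asIdeal) bot_le
  haveI := hP.1.1
  obtain ⟨n, hn⟩ := exists_nat_trdeg_quotient k S P
  refine le_trans ?_ (h P hP n hn)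
  rw [← CatLib.ringKrullDim_quotient_eq_coheight, ← ringKrullDim_eq_trdeg k n hn]
  exact ringKrullDim_le_of_surjective (Ideal.Quotient.factor hle) (Ideal.Quotient.factor_surjective hle)

omit [Algebra k S] [Algebra.FiniteType k S] in
theorem exists_open_dim_le [IsNoetherianRing S] (p : PrimeSpectrum S) :
    ∃ f ∉ p.asIdeal, ∀ P ∈ minimalPrimes S, f ∉ P → P ≤ p.asIdeal := by
  classical
  have hfin : (minimalPrimes S).Finite := minimalPrimes.finite_of_isNoetherianRing S
  have : ∀ P : Ideal S, ∃ g ∉ p.asIdeal, ¬P ≤ p.asIdeal → g ∈ P := fun P => by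
    by_cases hP : P ≤ p.asIdeal
    · exact ⟨1, fun h => p.isPrime.ne_top ((Ideal.eq_top_iff_one _).2 h), fun h => absurd hP h⟩
    · obtain ⟨g, hg, hgp⟩ := SetLike.not_le_iff_exists.1 hP
      exact ⟨g, hgp, fun _ => hg⟩
  choose g hg hg' using this
  refine ⟨∏ P ∈ hfin.toFinset, g P, fun h => ?_, fun P hP hfP => ?_⟩
  · obtain ⟨P, -, hP⟩ := p.isPrime.prod_mem_iff.1 h
    exact hg P hP
  · by_contra hle
    exact hfP (P.mem_of_dvd (Finset.dvd_prod_of_mem g (hfin.mem_toFinset.2 hP)) (hg' P hle))

theorem topologicalKrullDim_basicOpen (f : S) :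
    topologicalKrullDim ↥(PrimeSpectrum.basicOpen f : Set (PrimeSpectrum S)) = ringKrullDim (Localization.Away f) := by
  rw [← PrimeSpectrum.topologicalKrullDim_eq_ringKrullDim]
  have he := PrimeSpectrum.localization_away_isOpenEmbedding (Localization.Away f) f
  let φ := he.isEmbedding.toHomeomorph.trans
    (Homeomorph.setCongr (PrimeSpectrum.localization_away_comap_range (Localization.Away f) f))
  exact (IsHomeomorph.topologicalKrullDim_eq φ φ.isHomeomorph).symm

theorem trdeg_away {f : S} {P : Ideal S} [P.IsPrime] (hf : f ∉ P) {n : ℕ}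
    (hn : Algebra.trdeg k (S ⧸ P) = n) :
    ∃ (P' : Ideal (Localization.Away f)) (_ : P'.IsPrime), P'.comap (algebraMap S (Localization.Away f)) = P ∧
      Algebra.trdeg k (Localization.Away f ⧸ P') = n := by
  have hd : Disjoint (Submonoid.powers f : Set S) P := Set.disjoint_left.2 fun x ⟨m, hm⟩ hx => hf
    (‹P.IsPrime›.mem_of_pow_mem m (show f ^ m ∈ P by rwa [show f ^ m = x from hm]))
  let P' := P.map (algebraMap S (Localization.Away f))
  haveI : P'.IsPrime := IsLocalization.isPrime_of_isPrime_disjoint _ _ P inferInstance hd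
  have hc : P'.comap (algebraMap S (Localization.Away f)) = P :=
    IsLocalization.under_map_of_isPrime_disjoint _ _ inferInstance hd
  refine ⟨P', inferInstance, hc, ?_⟩
  haveI : P'.LiesOver P := ⟨hc.symm⟩
  haveI : IsLocalization (Algebra.algebraMapSubmonoid (S ⧸ P) (Submonoid.powers f)) (Localization.Away f ⧸ P') :=
    IsLocalization.of_surjective (Submonoid.powers f) (Localization.Away f) (Ideal.Quotient.mk P)
      Ideal.Quotient.mk_surjective (Ideal.Quotient.mk P') Ideal.Quotient.mk_surjective rfl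
      (by rw [Ideal.mk_ker, Ideal.mk_ker])
  haveI : FaithfulSMul (S ⧸ P) (Localization.Away f ⧸ P') := Ideal.Quotient.instFaithfulSMul _ _
  haveI : Algebra.IsAlgebraic (S ⧸ P) (Localization.Away f ⧸ P') :=
    IsLocalization.isAlgebraic _ (Algebra.algebraMapSubmonoid (S ⧸ P) (Submonoid.powers f))
  rw [← trdeg_add_eq k (S ⧸ P) (A := Localization.Away f ⧸ P'),
    trdeg_eq_zero (R := S ⧸ P), add_zero, hn]

/-- The local dimension at a prime is the largest `dim S/P` over minimal primes below it. -/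
theorem localDim_bounds (p : PrimeSpectrum S) (d : ℕ)
    (hub : ∀ (P : PrimeSpectrum S) (n : ℕ), IsMin P → P ≤ p → Algebra.trdeg k (S ⧸ P.asIdeal) = n → n ≤ d)
    (hex : ∃ P : PrimeSpectrum S, P ≤ p ∧ Algebra.trdeg k (S ⧸ P.asIdeal) = d) :
    FlatMor.localDim (PrimeSpectrum S) p = d ∧
      ⨅ m : {m : Ideal S // m.IsMaximal ∧ p.asIdeal ≤ m},
        ringKrullDim (Localization.AtPrime (hp := m.2.1.isPrime') m.1) = d := by
  haveI : IsNoetherianRing S := Algebra.FiniteType.isNoetherianRing k S
  haveI : IsJacobsonRing S := isJacobsonRing_of_finiteType (A := k)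
  obtain ⟨P₀, hP₀, hd⟩ := hex
  obtain ⟨f, hf, hfmin⟩ := exists_open_dim_le S p
  constructor
  · refine le_antisymm (iInf_le_of_le ⟨PrimeSpectrum.basicOpen f, hf⟩ ?_) (le_iInf fun U => ?_)
    · rw [topologicalKrullDim_basicOpen]
      refine ringKrullDim_le_of_forall_minimal k _ _ fun P hP n hn => ?_
      haveI := (hP : P ∈ (⊥ : Ideal (Localization.Away f)).minimalPrimes).1.1
      let P₁ : PrimeSpectrum S := PrimeSpectrum.comap (algebraMap S (Localization.Away f)) ⟨P, inferInstance⟩
      have hfP : f ∉ P₁.asIdeal := fun h => Ideal.IsPrime.ne_top inferInstance (P.eq_top_of_isUnit_mem h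
        (IsLocalization.map_units (Localization.Away f) (⟨f, Submonoid.mem_powers f⟩ : Submonoid.powers f)))
      obtain ⟨m, hm⟩ := exists_nat_trdeg_quotient k S P₁.asIdeal
      obtain ⟨P', hP', hc, hP'n⟩ := trdeg_away k S hfP hm
      have hPP' : P' = P := by
        rw [← IsLocalization.map_under (Submonoid.powers f) (Localization.Away f) P',
          ← IsLocalization.map_under (Submonoid.powers f) (Localization.Away f) P]
        exact congrArg (Ideal.map _) hc
      subst hPP'
      have hmin : IsMin P₁ := fun Q hQ => by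
        obtain ⟨x, hx⟩ : Q ∈ Set.range (PrimeSpectrum.comap (algebraMap S (Localization.Away f))) := by
          rw [PrimeSpectrum.localization_away_comap_range (Localization.Away f) f]
          exact fun h => hfP (hQ h)
        subst hx
        have hle : x.asIdeal ≤ P' := by
          rw [← IsLocalization.map_under (Submonoid.powers f) (Localization.Away f) x.asIdeal,
            ← IsLocalization.map_under (Submonoid.powers f) (Localization.Away f) P']
          exact Ideal.map_mono hQ
        exact Ideal.comap_mono (hP.2 ⟨x.isPrime, bot_le⟩ hle)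
      have h1 : m ≤ d := hub P₁ m hmin (hfmin _ (PrimeSpectrum.isMin_iff.1 hmin) hfP) hm
      have h2 : n = m := by exact_mod_cast hn.symm.trans hP'n
      rw [h2]
      exact_mod_cast h1
    · obtain ⟨_, ⟨g, rfl⟩, hpg, hgU⟩ :=
        PrimeSpectrum.isTopologicalBasis_basic_opens.exists_subset_of_mem_open
          (show p ∈ (U.1 : Set (PrimeSpectrum S)) from U.2) U.1.isOpen
      refine le_trans ?_ (Topology.IsEmbedding.inclusion hgU).isInducing.topologicalKrullDim_le
      rw [topologicalKrullDim_basicOpen]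
      obtain ⟨P', hP', -, hn'⟩ := trdeg_away k S (f := g) (P := P₀.asIdeal) (fun h => hpg (hP₀ h)) hd
      rw [← ringKrullDim_eq_trdeg k d hn']
      exact ringKrullDim_quotient_le P'
  · refine le_antisymm ?_ (le_iInf fun m => ?_)
    · obtain ⟨m, ⟨hpm, hm⟩, hfm⟩ : ∃ m, (p.asIdeal ≤ m ∧ m.IsMaximal) ∧ f ∉ m := by
        by_contra hne
        push Not at hne
        refine hf ?_
        rw [← (Ideal.isPrime_iff.1 p.isPrime |> fun _ => (IsJacobsonRing.out' p.asIdeal p.isPrime.isRadical))]
        exact Submodule.mem_sInf.2 fun m ⟨h1, h2⟩ => hne m ⟨h1, h2⟩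
      haveI := hm.isPrime'
      refine iInf_le_of_le ⟨m, hm, hpm⟩ ?_
      show ringKrullDim (Localization.AtPrime m) ≤ _
      rw [IsLocalization.AtPrime.ringKrullDim_eq_height m]
      obtain ⟨P, hPmin, hPm, hPe⟩ := exists_isMin_relHeight_eq_height (⟨m, inferInstance⟩ : PrimeSpectrum S)
      rw [← show relHeight P ⟨m, inferInstance⟩ = m.height from hPe]
      obtain ⟨n, hn⟩ := exists_nat_trdeg_quotient k S P.asIdeal
      obtain ⟨r, hr⟩ := exists_nat_trdeg_quotient k S m
      obtain ⟨a, ha, hna⟩ := trdeg_eq_relHeight_add k S (p := ⟨m, inferInstance⟩) hPm n r hn hr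
      have h1 := hub P n hPmin (hfmin _ (PrimeSpectrum.isMin_iff.1 hPmin) fun h => hfm (hPm h)) hn
      rw [ha]
      exact_mod_cast (by omega : a ≤ d)
    · obtain ⟨m, hm, hpm⟩ := m
      haveI := hm.isPrime'
      show _ ≤ ringKrullDim (Localization.AtPrime m)
      rw [IsLocalization.AtPrime.ringKrullDim_eq_height m]
      have hPm : P₀ ≤ (⟨m, inferInstance⟩ : PrimeSpectrum S) := hP₀.trans hpm
      obtain ⟨r, hr⟩ := exists_nat_trdeg_quotient k S m
      obtain ⟨a, ha, hna⟩ := trdeg_eq_relHeight_add k S (p := ⟨m, inferInstance⟩) hPm d r hd hr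
      have hr0 : r = 0 := by
        haveI : Module.Finite k (S ⧸ m) :=
          haveI : IsField (S ⧸ m) := (Ideal.Quotient.maximal_ideal_iff_isField_quotient m).1 hm
          letI := this.toField
          finite_of_finite_type_of_isJacobsonRing k (S ⧸ m)
        rw [trdeg_eq_zero] at hr
        exact_mod_cast hr.symm
      refine le_trans ?_ (WithBot.coe_le_coe.2 (relHeight_le_height hPm))
      rw [ha]
      exact_mod_cast (by omega : d ≤ a)

/-- `dim_p Spec S = dim S_p + trdeg κ(p)`. -/
theorem localDim_eq_height_add (p : PrimeSpectrum S) (r : ℕ) (hr : Algebra.trdeg k (S ⧸ p.asIdeal) = r) :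
    ∃ a : ℕ, p.asIdeal.height = a ∧ FlatMor.localDim (PrimeSpectrum S) p = ((a + r : ℕ) : WithBot ℕ∞) ∧
      ⨅ m : {m : Ideal S // m.IsMaximal ∧ p.asIdeal ≤ m},
        ringKrullDim (Localization.AtPrime (hp := m.2.1.isPrime') m.1) = ((a + r : ℕ) : WithBot ℕ∞) := by
  haveI : IsNoetherianRing S := Algebra.FiniteType.isNoetherianRing k S
  obtain ⟨P, hPmin, hPp, hPe⟩ := exists_isMin_relHeight_eq_height p
  obtain ⟨n, hn⟩ := exists_nat_trdeg_quotient k S P.asIdeal
  obtain ⟨a, ha, hna⟩ := trdeg_eq_relHeight_add k S hPp n r hn hr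
  refine ⟨a, hPe ▸ ha, localDim_bounds k S p (a + r) (fun Q m _ hQp hm => ?_) ⟨P, hPp, hna ▸ hn⟩⟩
  obtain ⟨b, hb, hmb⟩ := trdeg_eq_relHeight_add k S hQp m r hm hr
  have h := relHeight_le_height hQp
  rw [hb, ← hPe, ha] at h
  have h' : b ≤ a := by exact_mod_cast h
  omega

end Groth.Agent.DimFormulaLib
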