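import Groth.Agent.DimFormulaLib.Fibre
import Groth.Agent.FibreDimEt.Top
import Mathlib.AlgebraicGeometry.Morphisms.FiniteType
import Mathlib.AlgebraicGeometry.Fiber
import Mathlib.AlgebraicGeometry.Properties

/-!
Affine charts of a morphism locally of finite type, and the dimensions read off on them.
-/

set_option autoImplicit false

universe u

open CategoryTheory AlgebraicGeometry Topology

namespace Groth.Agent.DimFormulaLib

/-- An affine chart of `f` at `x`. -/
structure Chart {X Y : Scheme.{u}} (f : X ⟶ Y) (x : X) where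
  A : Type u
  B : Type u
  [commA : CommRing A]
  [commB : CommRing B]
  [alg : Algebra A B]
  [finiteType : Algebra.FiniteType A B]
  i : Spec (.of A) ⟶ Y
  j : Spec (.of B) ⟶ X
  [openI : IsOpenImmersion i]
  [openJ : IsOpenImmersion j]
  w : j ≫ f = Spec.map (CommRingCat.ofHom (algebraMap A B)) ≫ i
  q : PrimeSpectrum B
  hq : j q = x

attribute [instance] Chart.commA Chart.commB Chart.alg Chart.finiteType Chart.openI Chart.openJ

theorem exists_chart {X Y : Scheme.{u}} (f : X ⟶ Y) [LocallyOfFiniteType f] (x : X) : Nonempty (Chart f x) := by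
  obtain ⟨R, i, hi, hyi, -⟩ := Scheme.exists_affine_mem_range_and_range_subset
    (show f x ∈ (⊤ : Y.Opens) from trivial)
  obtain ⟨S, j, hj, hxj, hsub⟩ := Scheme.exists_affine_mem_range_and_range_subset
    (show x ∈ f ⁻¹ᵁ i.opensRange from hyi)
  have hr : Set.range (j ≫ f) ⊆ Set.range i := by
    rintro _ ⟨z, rfl⟩
    exact hsub ⟨z, rfl⟩
  let φ := IsOpenImmersion.lift i (j ≫ f) hr
  have hφ : φ ≫ i = j ≫ f := IsOpenImmersion.lift_fac _ _ _
  haveI : LocallyOfFiniteType (φ ≫ i) := by rw [hφ]; infer_instance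
  haveI : LocallyOfFiniteType φ := locallyOfFiniteType_of_comp φ i
  have hft : (Spec.preimage φ).hom.FiniteType :=
    (HasRingHomProperty.Spec_iff (P := @LocallyOfFiniteType)).1 (by rw [Spec.map_preimage]; infer_instance)
  letI : Algebra R S := (Spec.preimage φ).hom.toAlgebra
  haveI : Algebra.FiniteType R S := hft
  obtain ⟨q, hq⟩ := hxj
  exact ⟨⟨R, S, i, j, by
    rw [show CommRingCat.ofHom (algebraMap R S) = Spec.preimage φ from rfl, Spec.map_preimage, hφ], q, hq⟩⟩

namespace Chart

variable {X Y : Scheme.{u}} {f : X ⟶ Y} {x : X} (c : Chart f x)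

/-- The prime of the base. -/
def p : PrimeSpectrum c.A := PrimeSpectrum.comap (algebraMap c.A c.B) c.q

instance : c.q.asIdeal.LiesOver c.p.asIdeal := ⟨rfl⟩

theorem apply_j (z : PrimeSpectrum c.B) : f (c.j z) = c.i (PrimeSpectrum.comap (algebraMap c.A c.B) z) := by
  have h := congrArg (fun g : Spec (.of c.B) ⟶ Y => g z) c.w
  simp only [Scheme.Hom.comp_apply] at h
  exact h

theorem hp : c.i c.p = f x :=
  (c.apply_j c.q).symm.trans (congrArg f c.hq)

theorem stalk_eq {R : Type u} [CommRing R] {Z : Scheme.{u}} (g : Spec (.of R) ⟶ Z) [IsOpenImmersion g]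
    (z : PrimeSpectrum R) : ringKrullDim (Z.presheaf.stalk (g z)) = z.asIdeal.height := by
  rw [ringKrullDim_stalk_eq_coheight, idealHeight_eq_coheight (.of R) z]
  exact congrArg WithBot.some (coheight_eq_of_isOpenImmersion g)

theorem dim_stalk_source : ringKrullDim (X.presheaf.stalk x) = c.q.asIdeal.height := by
  exact (congrArg (fun y : X => ringKrullDim (X.presheaf.stalk y)) c.hq).symm.trans (stalk_eq c.j c.q)

theorem dim_stalk_target : ringKrullDim (Y.presheaf.stalk (f x)) = c.p.asIdeal.height := by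
  exact (congrArg (fun y : Y => ringKrullDim (Y.presheaf.stalk y)) c.hp).symm.trans (stalk_eq c.i c.p)

/-- The point of the algebraic fibre. -/
noncomputable def Q : PrimeSpectrum (c.p.asIdeal.Fiber c.B) :=
  PrimeSpectrum.preimageEquivFiber c.A c.B c.p ⟨c.q, rfl⟩

theorem comap_Q : c.Q.asIdeal.comap
    (Algebra.TensorProduct.includeRight : c.B →ₐ[c.A] c.p.asIdeal.Fiber c.B).toRingHom = c.q.asIdeal :=
  congrArg (fun z => z.1.asIdeal)
    ((PrimeSpectrum.preimageEquivFiber c.A c.B c.p).symm_apply_apply ⟨c.q, rfl⟩)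

theorem exists_fibre_embedding :
    ∃ G : ↥(Spec (.of (c.p.asIdeal.Fiber c.B))) → ↥(f.fiber (f x)), IsOpenEmbedding G ∧ G c.Q = f.asFiber x := by
  have hset : PrimeSpectrum.comap (algebraMap c.A c.B) ⁻¹' {c.p} =
      (c.j : Spec (.of c.B) → X) ⁻¹' (f ⁻¹' {f x}) := by
    ext z
    show PrimeSpectrum.comap (algebraMap c.A c.B) z = c.p ↔ f (c.j z) = f x
    rw [c.apply_j, ← c.hp, c.i.isOpenEmbedding.injective.eq_iff]
    rfl
  let e := (PrimeSpectrum.preimageHomeomorphFiber c.A c.B c.p).symm.trans (Homeomorph.setCongr hset)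
  refine ⟨fun z => (f.fiberHomeo (f x)).symm ((f ⁻¹' {f x}).restrictPreimage c.j (e z)), ?_, ?_⟩
  · exact ((f.fiberHomeo (f x)).symm.isOpenEmbedding.comp
      (c.j.isOpenEmbedding.restrictPreimage (f ⁻¹' {f x}))).comp e.isOpenEmbedding
  · refine (f.fiberHomeo (f x)).injective ?_
    rw [Homeomorph.apply_symm_apply]
    refine Subtype.ext ((congrArg c.j ?_).trans (c.hq.trans (f.fiberι_asFiber x).symm))
    show ((PrimeSpectrum.preimageHomeomorphFiber c.A c.B c.p).symm c.Q).1 = c.q
    exact PrimeSpectrum.ext c.comap_Q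

theorem localDim_eq_of_isOpenEmbedding_spec {R : CommRingCat.{u}} {Z : Scheme.{u}} {G : ↥(Spec R) → ↥Z}
    (hG : IsOpenEmbedding G) (a : ↥(Spec R)) : FlatMor.localDim ↥Z (G a) = FlatMor.localDim ↥(Spec R) a :=
  (FibreDimEt.localDim_eq_of_isGenLift (FibreDimEt.isGenLift_of_isOpenEmbedding hG) hG.isOpenMap a).symm

theorem fibreDimAt_eq : FlatMor.fibreDimAt f x = FlatMor.localDim (PrimeSpectrum (c.p.asIdeal.Fiber c.B)) c.Q := by
  obtain ⟨G, hG, hGQ⟩ := c.exists_fibre_embedding
  rw [FlatMor.fibreDimAt, ← hGQ]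
  exact localDim_eq_of_isOpenEmbedding_spec hG c.Q

theorem coheight_eq_of_isOpenEmbedding_spec {R : CommRingCat.{u}} {Z : Scheme.{u}} {G : ↥(Spec R) → ↥Z}
    (hG : IsOpenEmbedding G) (a : ↥(Spec R)) : Order.coheight (G a) = Order.coheight a :=
  hG.coheight_eq G

theorem dim_stalk_fibre :
    ringKrullDim ((f.fiber (f x)).presheaf.stalk (f.asFiber x)) = c.Q.asIdeal.height := by
  obtain ⟨G, hG, hGQ⟩ := c.exists_fibre_embedding
  rw [ringKrullDim_stalk_eq_coheight, ← hGQ, idealHeight_eq_coheight (.of (c.p.asIdeal.Fiber c.B)) c.Q]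
  exact congrArg WithBot.some (coheight_eq_of_isOpenEmbedding_spec hG c.Q)

theorem trdeg_primeResidueField {A B : Type u} [CommRing A] [CommRing B] [Algebra A B] (p : Ideal A) [p.IsPrime]
    (q : Ideal B) [q.IsPrime] [q.LiesOver p] [Algebra p.ResidueField q.ResidueField]
    [IsScalarTower A p.ResidueField q.ResidueField] :
    Algebra.trdeg p.ResidueField q.ResidueField = Algebra.trdeg (A ⧸ p) (B ⧸ q) := by
  letI : Algebra (A ⧸ p) q.ResidueField :=
    ((algebraMap (B ⧸ q) q.ResidueField).comp (algebraMap (A ⧸ p) (B ⧸ q))).toAlgebra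
  haveI : IsScalarTower (A ⧸ p) (B ⧸ q) q.ResidueField := .of_algebraMap_eq' rfl
  haveI : IsScalarTower (A ⧸ p) p.ResidueField q.ResidueField := .of_algebraMap_eq fun a => by
    obtain ⟨a, rfl⟩ := Ideal.Quotient.mk_surjective a
    exact IsScalarTower.algebraMap_apply A p.ResidueField q.ResidueField a
  haveI : FaithfulSMul (A ⧸ p) p.ResidueField :=
    (faithfulSMul_iff_algebraMap_injective _ _).2 (Ideal.injective_algebraMap_quotient_residueField p)
  haveI : FaithfulSMul p.ResidueField q.ResidueField :=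
    (faithfulSMul_iff_algebraMap_injective _ _).2 (RingHom.injective _)
  haveI : Algebra.IsAlgebraic (A ⧸ p) p.ResidueField :=
    (IsFractionRing.comap_isAlgebraic_iff (A := A ⧸ p) (K := p.ResidueField) (C := p.ResidueField)).2 inferInstance
  rw [trdeg_eq_of_isFractionRing (D := B ⧸ q) (K := q.ResidueField),
    ← trdeg_add_eq (A ⧸ p) p.ResidueField (A := q.ResidueField),
    trdeg_eq_zero (R := A ⧸ p) (A := p.ResidueField), zero_add]

theorem Spec_residueFieldMap_apply {R S : CommRingCat.{u}} (φ : R ⟶ S) (z : Spec S) (r : R) :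
    (Scheme.Spec.residueFieldIso S z).hom ((Spec.map φ).residueFieldMap z
      ((Scheme.Spec.residueFieldIso R (Spec.map φ z)).inv (algebraMap R _ r))) =
      algebraMap S z.asIdeal.ResidueField (φ r) := by
  have h1 : (Scheme.Spec.residueFieldIso R (Spec.map φ z)).inv (algebraMap R _ r) =
      (Spec R).Γevaluation (Spec.map φ z) ((Scheme.ΓSpecIso R).inv r) :=
    congrArg (fun g => g r) (Scheme.Spec.algebraMap_residueFieldIso_inv R (Spec.map φ z))
  have h2 : (Scheme.Spec.residueFieldIso S z).inv (algebraMap S _ (φ r)) =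
      (Spec S).Γevaluation z ((Scheme.ΓSpecIso S).inv (φ r)) :=
    congrArg (fun g => g (φ r)) (Scheme.Spec.algebraMap_residueFieldIso_inv S z)
  have h3 : (Scheme.ΓSpecIso S).inv (φ r) = (Spec.map φ).appTop ((Scheme.ΓSpecIso R).inv r) :=
    congrArg (fun g => g r) (Scheme.ΓSpecIso_inv_naturality φ)
  rw [h1, Scheme.Γevaluation_naturality_apply, ← h3, ← h2, Iso.inv_hom_id_apply]

theorem trdeg_residue :
    letI := (f.residueFieldMap x).hom.toAlgebra
    Algebra.trdeg (Y.residueField (f x)) (X.residueField x) =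
      Algebra.trdeg (c.A ⧸ c.p.asIdeal) (c.B ⧸ c.q.asIdeal) := by
  obtain ⟨A, B, i, j, w, q, rfl⟩ := c
  let φ := CommRingCat.ofHom (algebraMap A B)
  let z : ↥(Spec (.of B)) := q
  let p' : PrimeSpectrum A := Spec.map φ z
  haveI : q.asIdeal.LiesOver p'.asIdeal := ⟨rfl⟩
  letI := (f.residueFieldMap (j q)).hom.toAlgebra
  letI : Algebra p'.asIdeal.ResidueField q.asIdeal.ResidueField :=
    (((Scheme.Spec.residueFieldIso (.of B) z).hom.hom.comp ((Spec.map φ).residueFieldMap z).hom).comp
      (Scheme.Spec.residueFieldIso (.of A) (Spec.map φ z)).inv.hom).toAlgebra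
  haveI : IsScalarTower A p'.asIdeal.ResidueField q.asIdeal.ResidueField :=
    .of_algebraMap_eq fun a => (Spec_residueFieldMap_apply φ z a).symm
  refine Eq.trans ?_ (trdeg_primeResidueField p'.asIdeal q.asIdeal)
  have hy : f (j z) = i (Spec.map φ z) := by
    rw [← Scheme.Hom.comp_apply, w, Scheme.Hom.comp_apply]
  let eY := ((Y.residueFieldCongr hy) ≪≫ asIso (i.residueFieldMap (Spec.map φ z)) ≪≫
    Scheme.Spec.residueFieldIso (.of A) (Spec.map φ z)).commRingCatIsoToRingEquiv
  let eX := (asIso (j.residueFieldMap z) ≪≫ Scheme.Spec.residueFieldIso (.of B) z).commRingCatIsoToRingEquiv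
  haveI : FaithfulSMul p'.asIdeal.ResidueField q.asIdeal.ResidueField :=
    (faithfulSMul_iff_algebraMap_injective _ _).2 (RingHom.injective _)
  refine trdeg_eq_of_ringEquiv eY eX fun r => ?_
  have hm : f.residueFieldMap (j z) ≫ j.residueFieldMap z =
      (Y.residueFieldCongr hy).hom ≫ i.residueFieldMap (Spec.map φ z) ≫ (Spec.map φ).residueFieldMap z := by
    rw [← Scheme.residueFieldMap_comp, ← Scheme.residueFieldMap_comp,
      Scheme.Hom.residueFieldMap_congr w]
    rfl
  have hr := congrArg (fun g => (Scheme.Spec.residueFieldIso (.of B) z).hom (g r)) hm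
  refine (Eq.trans ?_ hr.symm)
  show (Scheme.Spec.residueFieldIso (.of B) z).hom ((Spec.map φ).residueFieldMap z
    ((Scheme.Spec.residueFieldIso (.of A) (Spec.map φ z)).inv
      ((Scheme.Spec.residueFieldIso (.of A) (Spec.map φ z)).hom
        (i.residueFieldMap (Spec.map φ z) ((Y.residueFieldCongr hy).hom r))))) = _
  rw [Iso.hom_inv_id_apply]
  rfl

end Chart

end Groth.Agent.DimFormulaLib
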