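import Groth.Agent.DimFormulaLib.Scheme
import Mathlib.AlgebraicGeometry.FunctionField

/-!
The dimension formula for dominant morphisms of irreducible schemes.
-/

set_option autoImplicit false

universe u

open CategoryTheory AlgebraicGeometry Topology TopologicalSpace

namespace Groth.Agent.DimFormulaLib

variable {X Y : Scheme.{u}}

/-- Transcendence degree of the residue extension at a point. -/
noncomputable def resTrdegAt (f : X ⟶ Y) (z : X) : Cardinal.{u} :=
  letI := (f.residueFieldMap z).hom.toAlgebra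
  Algebra.trdeg (Y.residueField (f z)) (X.residueField z)

namespace Chart

variable {f : X ⟶ Y} {x : X}

theorem resTrdegAt_eq (c : Chart f x) (P : PrimeSpectrum c.B) :
    resTrdegAt f (c.j P) =
      Algebra.trdeg (c.A ⧸ (PrimeSpectrum.comap (algebraMap c.A c.B) P).asIdeal) (c.B ⧸ P.asIdeal) :=
  (c.move P).trdeg_residue

theorem resTrdegAt_self (c : Chart f x) :
    resTrdegAt f x = Algebra.trdeg (c.A ⧸ c.p.asIdeal) (c.B ⧸ c.q.asIdeal) :=
  c.trdeg_residue

theorem le_of_specializes (c : Chart f x) {P P' : PrimeSpectrum c.B} (h : c.j P ⤳ c.j P') : P ≤ P' :=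
  (PrimeSpectrum.le_iff_specializes _ _).2 (c.j.isOpenEmbedding.isInducing.specializes_iff.1 h)

theorem le_of_specializes_base (c : Chart f x) {P P' : PrimeSpectrum c.A} (h : c.i P ⤳ c.i P') : P ≤ P' :=
  (PrimeSpectrum.le_iff_specializes _ _).2 (c.i.isOpenEmbedding.isInducing.specializes_iff.1 h)

/-- The generic point in a chart. -/
theorem exists_generic (c : Chart f x) [IrreducibleSpace X] :
    ∃ P₀ : PrimeSpectrum c.B, c.j P₀ = genericPoint X ∧ ∀ P, P₀ ≤ P := by
  obtain ⟨P, -, hP⟩ := c.exists_le (genericPoint_specializes x)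
  exact ⟨P, hP, fun P' => c.le_of_specializes (hP.symm ▸ genericPoint_specializes _)⟩

theorem relHeight_eq_of_min {R : Type u} [CommRing R] [IsNoetherianRing R] {P₀ q : PrimeSpectrum R}
    (h : ∀ P, P₀ ≤ P) : relHeight P₀ q = q.asIdeal.height := by
  obtain ⟨P, hP, -, he⟩ := exists_isMin_relHeight_eq_height q
  rwa [le_antisymm (hP (h P)) (h P)] at he

theorem exists_nat_fibreDimAt (c : Chart f x) :
    ∃ n : ℕ, FlatMor.localDim (PrimeSpectrum (c.p.asIdeal.Fiber c.B)) c.Q = n := by
  obtain ⟨r, hr⟩ := exists_nat_trdeg_quotient c.p.asIdeal.ResidueField (c.p.asIdeal.Fiber c.B) c.Q.asIdeal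
  obtain ⟨a, -, hd, -⟩ := localDim_eq_height_add c.p.asIdeal.ResidueField (c.p.asIdeal.Fiber c.B) c.Q r hr
  exact ⟨a + r, hd⟩

end Chart

theorem image_genericPoint (f : X ⟶ Y) [IrreducibleSpace X] [IrreducibleSpace Y] (hf : DenseRange f) :
    f (genericPoint X) = genericPoint Y := by
  have h1 : IsGenericPoint (genericPoint X) (Set.univ : Set X) := genericPoint_spec X
  have h2 := h1.image f.continuous
  rw [Set.image_univ, hf.closure_range] at h2
  exact h2.eq (genericPoint_spec Y)

/-- The generic fibre has dimension the transcendence degree at the generic point. -/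
theorem genericFibre_dim (f : X ⟶ Y) [LocallyOfFiniteType f] [IrreducibleSpace X] [IrreducibleSpace Y]
    (hf : DenseRange f) :
    ∃ n : ℕ, resTrdegAt f (genericPoint X) = n ∧
      topologicalKrullDim ↥(f.fiber (genericPoint Y)) = (n : WithBot ℕ∞) ∧
      ∀ x : X, (n : WithBot ℕ∞) ≤ FlatMor.fibreDimAt f x := by
  have hη := image_genericPoint f hf
  obtain ⟨c⟩ := exists_chart f (genericPoint X)
  obtain ⟨n, hn⟩ := exists_nat_trdeg_quotient_pair (A := c.A) c.q
  have hn' : resTrdegAt f (genericPoint X) = n := c.resTrdegAt_self.trans hn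
  have hlow : ∀ x : X, (n : WithBot ℕ∞) ≤ FlatMor.fibreDimAt f x := fun x => by
    obtain ⟨c⟩ := exists_chart f x
    obtain ⟨P₀, hP₀, hmin⟩ := c.exists_generic
    obtain ⟨m, hm⟩ := c.exists_nat_fibreDimAt
    haveI : c.q.asIdeal.LiesOver c.p.asIdeal := ⟨rfl⟩
    have h1 := trdeg_le_localDim_fibre P₀.asIdeal c.q.asIdeal (hmin c.q) c.p.asIdeal c.Q c.comap_Q m hm
    have h2 : (n : Cardinal.{u}) ≤ (m : Cardinal.{u}) := by
      rw [← hn', ← hP₀, c.resTrdegAt_eq]
      exact h1
    rw [c.fibreDimAt_eq, hm]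
    exact_mod_cast (show n ≤ m by exact_mod_cast h2)
  have hfib : ∀ x : X, f x = genericPoint Y → FlatMor.fibreDimAt f x = n := fun x hx => by
    obtain ⟨c⟩ := exists_chart f x
    obtain ⟨P₀, hP₀, hmin⟩ := c.exists_generic
    obtain ⟨m, hm⟩ := c.exists_nat_fibreDimAt
    obtain ⟨P, -, hPp, hPmin, hPn⟩ := exists_fibre_component c.q c.Q c.comap_Q m hm
    have hp0 : PrimeSpectrum.comap (algebraMap c.A c.B) P₀ = PrimeSpectrum.comap (algebraMap c.A c.B) c.q := by
      refine c.i.isOpenEmbedding.injective ?_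
      rw [← c.apply_j, hP₀, hη]
      exact hx.symm.trans c.hp.symm
    rw [← hPmin P₀ (hmin P) hp0, ← c.resTrdegAt_eq, hP₀, hn'] at hPn
    rw [c.fibreDimAt_eq, hm]
    exact_mod_cast (show m = n by exact_mod_cast hPn.symm)
  refine ⟨n, hn', ?_, hlow⟩
  rw [topologicalKrullDim_eq_iSup_localDim]
  have key : ∀ z : ↥(f.fiber (genericPoint Y)), FlatMor.localDim ↥(f.fiber (genericPoint Y)) z = n := fun z => by
    have hz : f ((f.fiberHomeo (genericPoint Y) z).1) = genericPoint Y := (f.fiberHomeo (genericPoint Y) z).2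
    rw [← hfib _ hz, FibreDimEt.fibreDimAt_eq_localDim f _ hz]
    haveI := FibreDimEt.quasiSober_fibre f (genericPoint Y)
    exact FibreDimEt.localDim_eq_of_isGenLift
      (FibreDimEt.isGenLift_of_isOpenEmbedding (f.fiberHomeo (genericPoint Y)).isOpenEmbedding)
      (f.fiberHomeo (genericPoint Y)).isOpenMap z
  haveI : Nonempty ↥(f.fiber (genericPoint Y)) :=
    ⟨(f.fiberHomeo (genericPoint Y)).symm ⟨genericPoint X, hη⟩⟩
  simp only [key, iSup_const]

/-- All numbers at a point, for irreducible schemes over a locally noetherian base. -/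
theorem irreducible_dims (f : X ⟶ Y) [LocallyOfFiniteType f] [IrreducibleSpace X] [IrreducibleSpace Y]
    [IsLocallyNoetherian Y] (hf : DenseRange f) (x : X) :
    ∃ a b d t' n : ℕ, ringKrullDim (X.presheaf.stalk x) = (a : WithBot ℕ∞) ∧
      ringKrullDim (Y.presheaf.stalk (f x)) = (b : WithBot ℕ∞) ∧
      ringKrullDim ((f.fiber (f x)).presheaf.stalk (f.asFiber x)) = (d : WithBot ℕ∞) ∧
      resTrdegAt f x = t' ∧ FlatMor.fibreDimAt f x = ((d + t' : ℕ) : WithBot ℕ∞) ∧
      topologicalKrullDim ↥(f.fiber (genericPoint Y)) = (n : WithBot ℕ∞) ∧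
      resTrdegAt f (genericPoint X) = n ∧
      a ≤ b + d ∧ n ≤ d + t' ∧ a + t' ≤ b + n ∧
      (CAlg.IsUniversallyCatenary (Y.presheaf.stalk (f x)) → a + t' = b + n) := by
  obtain ⟨n, hn, hgen, -⟩ := genericFibre_dim f hf
  obtain ⟨c⟩ := exists_chart f x
  haveI := c.isNoetherianRing
  haveI : IsNoetherianRing c.B := Algebra.FiniteType.isNoetherianRing c.A c.B
  obtain ⟨a, b, d, t', ha, hb, hd, ht', hloc, hqa, hpb, hle, hT⟩ := c.dims
  obtain ⟨P₀, hP₀, hmin⟩ := c.exists_generic
  have ht : Algebra.trdeg (c.A ⧸ (PrimeSpectrum.comap (algebraMap c.A c.B) P₀).asIdeal) (c.B ⧸ P₀.asIdeal) = n := by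
    rw [← c.resTrdegAt_eq, hP₀, hn]
  obtain ⟨a', b', ha', hb', hle', heq'⟩ := formula_component (hmin c.q) n t' ht ht'
  have hmin' : ∀ P, PrimeSpectrum.comap (algebraMap c.A c.B) P₀ ≤ P := fun P => by
    refine c.le_of_specializes_base ?_
    rw [← c.apply_j, hP₀, image_genericPoint f hf]
    exact genericPoint_specializes _
  have h1 : a' = a := by
    have := ha'.symm.trans ((Chart.relHeight_eq_of_min hmin).trans hqa)
    exact_mod_cast this
  have h2 : b' = b := by
    have := hb'.symm.trans ((Chart.relHeight_eq_of_min hmin').trans hpb)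
    exact_mod_cast this
  exact ⟨a, b, d, t', n, ha, hb, hd, c.resTrdegAt_self.trans ht', hloc, hgen, hn, hle,
    hT P₀ (hmin c.q) n ht, by omega, fun h => by have := heq' (c.catAbove h); omega⟩

end Groth.Agent.DimFormulaLib
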