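import Groth.Agent.DimFormulaLib.Between

/-!
Components of fibres and of neighbourhoods, read on charts.
-/

set_option autoImplicit false

universe u

open CategoryTheory AlgebraicGeometry Topology TopologicalSpace

namespace Groth.Agent.DimFormulaLib

section Top

attribute [local instance] specializationOrder in
theorem topologicalKrullDim_closure_aux {F : Type u} [TopologicalSpace F] [QuasiSober F] [T0Space F] (z : F) :
    topologicalKrullDim ↥(closure ({z} : Set F)) = Order.height z := by
  haveI : QuasiSober ↥(closure ({z} : Set F)) := isClosed_closure.isClosedEmbedding_subtypeVal.quasiSober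
  letI : PartialOrder ↥(closure ({z} : Set F)) := specializationOrder _
  rw [topologicalKrullDim, @Order.krullDim_eq_of_orderIso _ _ _ (specializationOrder _).toPreorder
      (irreducibleSetEquivPoints (α := ↥(closure ({z} : Set F)))),
    Order.height_eq_krullDim_Iic]
  refine @Order.krullDim_eq_of_orderIso _ _ (specializationOrder _).toPreorder _
    { toFun := fun w => ⟨w.1, specializes_iff_mem_closure.2 w.2⟩
      invFun := fun w => ⟨w.1, specializes_iff_mem_closure.1 w.2⟩
      left_inv := fun _ => rfl
      right_inv := fun _ => rfl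
      map_rel_iff' := fun {a b} => (subtype_specializes_iff b a).symm }

theorem topologicalKrullDim_closure_singleton {F : Scheme.{u}} (z : F) :
    topologicalKrullDim ↥(closure ({z} : Set F)) = Order.height z :=
  (topologicalKrullDim_closure_aux (F := ↥F) z).trans rfl

theorem closure_mem_irreducibleComponents {F : Scheme.{u}} {z : F} (h : ∀ w : F, w ⤳ z → w = z) :
    closure {z} ∈ irreducibleComponents ↥F := by
  refine ⟨isIrreducible_singleton.closure, fun Z hZ hle => ?_⟩
  obtain ⟨η, hη⟩ := QuasiSober.sober hZ.closure isClosed_closure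
  have hηz : η ⤳ z := hη.specializes (subset_closure (hle (subset_closure rfl)))
  intro w hw
  rw [← h η hηz]
  exact hη.def.symm ▸ subset_closure hw

theorem exists_generic_of_mem_irreducibleComponents {F : Scheme.{u}} {Z : Set ↥F}
    (hZ : Z ∈ irreducibleComponents ↥F) : ∃ z : F, closure {z} = Z ∧ ∀ w : F, w ⤳ z → w = z := by
  obtain ⟨z, hz⟩ := QuasiSober.sober hZ.1 (isClosed_of_mem_irreducibleComponents Z hZ)
  refine ⟨z, hz.def, fun w hw => ?_⟩
  have h1 : Z ≤ closure {w} := hz.def ▸ hw.closure_subset
  have h2 := hZ.2 isIrreducible_singleton.closure h1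
  exact (specializes_iff_mem_closure.2 (h1 (hz.def ▸ subset_closure rfl))).antisymm
    (specializes_iff_mem_closure.2 (hz.def.symm ▸ h2 (subset_closure rfl) : w ∈ closure {z})) |>.eq

end Top

variable {X Y : Scheme.{u}}

namespace Chart

variable {f : X ⟶ Y} {x : X}

/-- A chart of the restriction to an open subscheme is a chart. -/
noncomputable def push {U : X.Opens} {x : U} (c : Chart (U.ι ≫ f) x) : Chart f (U.ι x) :=
  { A := c.A, B := c.B, i := c.i, j := c.j ≫ U.ι, q := c.q
    w := by rw [Category.assoc, c.w]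
    hq := by rw [Scheme.Hom.comp_apply, c.hq] }

theorem isMin_iff (c : Chart f x) {P : PrimeSpectrum c.B} (hP : P ≤ c.q) :
    IsMin P ↔ ∀ w : X, w ⤳ c.j P → w = c.j P := by
  refine ⟨fun h w hw => ?_, fun h P' hP' => ?_⟩
  · obtain ⟨P', -, rfl⟩ := c.exists_le (hw.trans (c.specializes hP))
    rw [le_antisymm (h (c.le_of_specializes hw)) (c.le_of_specializes hw)]
  · have h1 := ((PrimeSpectrum.le_iff_specializes _ _).1 hP').map c.j.continuous
    exact (show P' = P from c.j.isOpenEmbedding.injective (h _ h1)).ge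

theorem isEquidim_source_iff (c : Chart f x) [IsLocallyNoetherian Y] :
    EGA4.IsEquidim (X.presheaf.stalk x) ↔
      ∀ P : PrimeSpectrum c.B, IsMin P → P ≤ c.q → relHeight P c.q = c.q.asIdeal.height := by
  haveI := c.isNoetherianRing
  haveI : IsNoetherianRing c.B := Algebra.FiniteType.isNoetherianRing c.A c.B
  have e : X.presheaf.stalk x ≃+* Localization.AtPrime c.q.asIdeal := by
    exact (X.presheaf.stalkCongr (.of_eq c.hq.symm) ≪≫ asIso (c.j.stalkMap c.q) ≪≫
      AlgebraicGeometry.Spec.stalkIso (.of c.B) c.q).commRingCatIsoToRingEquiv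
  rw [← isEquidim_atPrime_iff c.q (Localization.AtPrime c.q.asIdeal)]
  exact ⟨fun h => isEquidim_of_ringEquiv e h, fun h => isEquidim_of_ringEquiv e.symm h⟩
where
  isEquidim_of_ringEquiv {R S : Type u} [CommRing R] [CommRing S] (e : R ≃+* S) (h : EGA4.IsEquidim R) :
      EGA4.IsEquidim S := by
    intro p hp
    have hp' : p.comap (e : R →+* S) ∈ minimalPrimes R := by
      have h1 : IsMin (⟨p, hp.1.1⟩ : PrimeSpectrum S) := PrimeSpectrum.isMin_iff.2 hp
      exact PrimeSpectrum.isMin_iff.1 ((PrimeSpectrum.comapEquiv e.symm).isMin_apply.2 h1)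
    have h2 := h _ hp'
    rw [ringKrullDim_eq_of_ringEquiv e] at h2
    rw [← h2]
    exact (ringKrullDim_eq_of_ringEquiv (Ideal.quotientEquiv (p.comap (e : R →+* S)) p e
      (Ideal.map_comap_of_surjective _ e.surjective p).symm)).symm

theorem isEquidim_target_iff (c : Chart f x) [IsLocallyNoetherian Y] :
    EGA4.IsEquidim (Y.presheaf.stalk (f x)) ↔
      ∀ P : PrimeSpectrum c.A, IsMin P → P ≤ c.p → relHeight P c.p = c.p.asIdeal.height := by
  haveI := c.isNoetherianRing
  have e : Y.presheaf.stalk (f x) ≃+* Localization.AtPrime c.p.asIdeal := by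
    exact (Y.presheaf.stalkCongr (.of_eq c.hp.symm) ≪≫ asIso (c.i.stalkMap c.p) ≪≫
      AlgebraicGeometry.Spec.stalkIso (.of c.A) c.p).commRingCatIsoToRingEquiv
  rw [← isEquidim_atPrime_iff c.p (Localization.AtPrime c.p.asIdeal)]
  exact ⟨fun h => isEquidim_source_iff.isEquidim_of_ringEquiv e h,
    fun h => isEquidim_source_iff.isEquidim_of_ringEquiv e.symm h⟩

end Chart

variable (f : X ⟶ Y) [LocallyOfFiniteType f] [IsLocallyNoetherian Y]

theorem length_add_trdeg_le_of_chain_in_fibre (s : LTSeries ↥X) (hs : ∀ i, f (s i) = f s.last) (n : ℕ)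
    (hn : resTrdegAt f s.last = n) : s.length ≤ n := by
  obtain ⟨c⟩ := exists_chart f s.head
  haveI := c.isNoetherianRing
  haveI : IsNoetherianRing c.B := Algebra.FiniteType.isNoetherianRing c.A c.B
  choose g hgq hg using fun i => c.exists_le
    (Scheme.le_iff_specializes.1 (s.monotone (Fin.zero_le i) : s.head ≤ s i))
  have hlt : ∀ i : Fin s.length, g i.succ < g (Fin.castSucc i) := fun i => by
    have h : s (Fin.castSucc i) < s i.succ := s.step i
    have h1 : c.j (g i.succ) ⤳ c.j (g (Fin.castSucc i)) := by rw [hg, hg]; exact h.le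
    refine lt_of_le_of_ne (c.le_of_specializes h1) fun e => h.not_ge ?_
    rw [← hg, ← hg (Fin.castSucc i), e]
  let t : LTSeries (PrimeSpectrum c.B) := ⟨s.length, fun i => g (Fin.rev i), fun i => by
    have h := hlt (Fin.rev i)
    show g (Fin.rev (Fin.castSucc i)) < g (Fin.rev i.succ)
    rw [Fin.rev_castSucc, Fin.rev_succ]
    exact h⟩
  let P := g (Fin.last _)
  obtain ⟨m, hm⟩ := exists_nat_trdeg_quotient_pair (A := c.A) P
  obtain ⟨m', hm'⟩ := exists_nat_trdeg_quotient_pair (A := c.A) c.q
  have hsame : PrimeSpectrum.comap (algebraMap c.A c.B) P = PrimeSpectrum.comap (algebraMap c.A c.B) c.q := by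
    refine c.i.isOpenEmbedding.injective ?_
    rw [← c.apply_j, ← c.apply_j, hg, c.hq, show f s.head = f (s 0) from rfl, hs 0]
    rfl
  obtain ⟨a, ha, hle⟩ := relHeight_le_of_lt_in_fibre c.q (hgq _) hsame m m' hm hm'
  have hb := length_le_relHeight t (P := P) (Q := c.q)
    (by show P ≤ g (Fin.rev 0); rw [Fin.rev_zero])
    (hgq _)
  rw [ha] at hb
  have hmn : m = n := by
    have h := c.resTrdegAt_eq P
    rw [hg, show s (Fin.last s.length) = s.last from rfl, hn] at h
    exact_mod_cast (h.trans hm).symm
  have : (t.length : ℕ) ≤ a := by exact_mod_cast hb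
  show s.length ≤ n
  have ht : t.length = s.length := rfl
  omega

theorem height_in_fibre (y : Y) (z : f.fiber y) (n : ℕ)
    (hn : resTrdegAt f ((f.fiberHomeo y z).1) = n) : Order.height z = n := by
  let g : ↥(f.fiber y) → ↥X := fun w => (f.fiberHomeo y w).1
  have hge : IsEmbedding g := IsEmbedding.subtypeVal.comp (f.fiberHomeo y).isEmbedding
  have hgm : StrictMono g := fun a b h => ⟨h.le.map hge.continuous,
    fun h' => h.not_ge (hge.isInducing.specializes_iff.1 h')⟩
  have hgf : ∀ w, f (g w) = y := fun w => (f.fiberHomeo y w).2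
  refine le_antisymm (Order.height_le fun s hs => ?_) ?_
  · have h := length_add_trdeg_le_of_chain_in_fibre f (s.map g hgm)
      (fun i => (hgf (s i)).trans (by rw [LTSeries.last_map]; exact (hgf _).symm)) n
      (by rw [LTSeries.last_map, hs]; exact hn)
    exact_mod_cast h
  · obtain ⟨c⟩ := exists_chart f (g z)
    obtain ⟨m, hm⟩ := exists_nat_trdeg_quotient_pair (A := c.A) c.q
    have hmn : m = n := by exact_mod_cast ((c.resTrdegAt_self.trans hm).symm.trans hn)
    obtain ⟨s, sh, sn, sp⟩ := exists_chain_of_trdeg c.q m hm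
    have hfib : ∀ i, f (c.j (s i)) = y := fun i => by
      rw [c.apply_j, sp i]
      exact c.hp.trans (hgf z)
    let t : LTSeries ↥(f.fiber y) := ⟨s.length, fun i => (f.fiberHomeo y).symm ⟨c.j (s (Fin.rev i)), hfib _⟩,
      fun i => by
        have h : s (Fin.rev i.succ) < s (Fin.rev (Fin.castSucc i)) := s.strictMono (Fin.rev_lt_rev.2 i.castSucc_lt_succ)
        have e : ∀ k, g ((f.fiberHomeo y).symm ⟨c.j (s k), hfib k⟩) = c.j (s k) := fun k => by simp [g]
        refine ⟨hge.isInducing.specializes_iff.1 ?_, fun hsp => h.not_ge (c.le_of_specializes ?_)⟩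
        · rw [e, e]
          exact ((PrimeSpectrum.le_iff_specializes _ _).1 h.le).map c.j.continuous
        · have h2 := hsp.map hge.continuous
          rwa [e, e] at h2⟩
    have htl : t.last = z := by
      show (f.fiberHomeo y).symm ⟨c.j (s (Fin.rev (Fin.last _))), hfib _⟩ = z
      rw [Homeomorph.symm_apply_eq]
      refine Subtype.ext ?_
      show c.j (s (Fin.rev (Fin.last _))) = g z
      rw [Fin.rev_last]
      exact (congrArg c.j sh).trans c.hq
    refine le_trans (le_of_eq ?_) (htl ▸ Order.length_le_height_last (p := t))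
    show (n : ℕ∞) = (s.length : ℕ∞)
    rw [sn, hmn]

end Groth.Agent.DimFormulaLib
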