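import Groth.Agent.DimFormulaLib.Main

/-!
The dimension formula for all finite type domain extensions implies universal catenarity.
-/

set_option autoImplicit false

namespace Groth.Agent.DimFormulaLib

universe u

open Order

variable {C : Type u} [CommRing C]

/-- `height` of `Q/P` in `C/P`. -/
noncomputable def relHeight (P Q : PrimeSpectrum C) : ℕ∞ :=
  (Q.asIdeal.map (Ideal.Quotient.mk P.asIdeal)).height

theorem exists_quotEmb (P : PrimeSpectrum C) :
    ∃ Φ : PrimeSpectrum (C ⧸ P.asIdeal) ↪o PrimeSpectrum C, (Set.range Φ).OrdConnected ∧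
      Set.range Φ = Set.Ici P ∧
      ∀ x Q, Φ x = Q → x.asIdeal = Q.asIdeal.map (Ideal.Quotient.mk P.asIdeal) := by
  let Φ : PrimeSpectrum (C ⧸ P.asIdeal) ↪o PrimeSpectrum C :=
    OrderEmbedding.ofMapLEIff (fun x => PrimeSpectrum.comap (Ideal.Quotient.mk P.asIdeal) x) fun x y =>
      Ideal.comap_le_comap_iff_of_surjective _ Ideal.Quotient.mk_surjective _ _
  have hr : Set.range Φ = Set.Ici P := by
    refine Set.ext fun c => ⟨?_, fun hc => ?_⟩
    · rintro ⟨x, rfl⟩ t ht
      show Ideal.Quotient.mk P.asIdeal t ∈ x.asIdeal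
      rw [Ideal.Quotient.eq_zero_iff_mem.2 ht]
      exact zero_mem _
    · exact ⟨⟨c.asIdeal.map (Ideal.Quotient.mk P.asIdeal), Ideal.map_isPrime_of_surjective
        Ideal.Quotient.mk_surjective (by rw [Ideal.mk_ker]; exact hc)⟩, PrimeSpectrum.ext (by
          show (c.asIdeal.map _).comap _ = _
          rw [Ideal.comap_map_of_surjective' _ Ideal.Quotient.mk_surjective, Ideal.mk_ker]
          exact sup_eq_left.2 hc)⟩
  refine ⟨Φ, hr ▸ Set.ordConnected_Ici, hr, fun x Q h => ?_⟩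
  rw [← h]
  exact (Ideal.map_comap_of_surjective _ Ideal.Quotient.mk_surjective x.asIdeal).symm

variable [IsNoetherianRing C]

/-- A saturated chain between `P ≤ Q` of length `relHeight P Q`. -/
theorem exists_saturated_between {P Q : PrimeSpectrum C} (h : P ≤ Q) :
    ∃ (n : ℕ) (s : LTSeries (PrimeSpectrum C)), relHeight P Q = n ∧ s.head = P ∧ s.last = Q ∧ s.length = n ∧
      ∀ i : Fin s.length, s (Fin.castSucc i) ⋖ s (Fin.succ i) := by
  obtain ⟨Φ, hΦ, hr, hI⟩ := exists_quotEmb P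
  obtain ⟨x, hx⟩ : Q ∈ Set.range Φ := hr ▸ h
  obtain ⟨n, hn⟩ := ENat.ne_top_iff_exists.mp (Ideal.height_ne_top (I := x.asIdeal) x.isPrime.ne_top)
  obtain ⟨t, tmin, tl, tn, ts⟩ := saturated_of_length_eq_height
    (show height x = n by rw [← PrimeSpectrum.height_eq_orderHeight, hn])
  refine ⟨n, t.map Φ Φ.strictMono, by rw [relHeight, ← hI x Q hx, hn], ?_, ?_, tn,
    fun i => hΦ.apply_covBy_apply_iff (f := Φ) |>.2 (ts i)⟩
  · rw [LTSeries.head_map]
    obtain ⟨z, hz⟩ : P ∈ Set.range Φ := hr ▸ le_refl P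
    have h1 : Φ z ≤ Φ t.head := by
      rw [hz]
      exact (hr ▸ Set.mem_range_self t.head : Φ t.head ∈ Set.Ici P)
    have h2 : Φ t.head ≤ Φ z := Φ.monotone (tmin (Φ.le_iff_le.1 h1))
    rw [hz] at h1 h2
    exact le_antisymm h2 h1
  · rw [LTSeries.last_map, tl, hx]

theorem relHeight_add (hC : CAlg.IsCatenary C) {P Q R : PrimeSpectrum C} (h₁ : P ≤ Q) (h₂ : Q ≤ R) :
    relHeight P R = relHeight P Q + relHeight Q R := by
  obtain ⟨a, s, ha, sh, sl, sn, ss⟩ := exists_saturated_between h₁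
  obtain ⟨b, t, hb, th, tl, tn, ts⟩ := exists_saturated_between h₂
  obtain ⟨c, u, hc, uh, ul, un, us⟩ := exists_saturated_between (h₁.trans h₂)
  have hcon : s.last = t.head := sl.trans th.symm
  have h := hC.2 u (s.smash t hcon) (by rw [RelSeries.head_smash, uh, sh]) (by rw [RelSeries.last_smash, ul, tl]) us
    (Fin.addCases (fun i => by
        show (s.smash t hcon) (Fin.castAdd t.length i).castSucc ⋖ (s.smash t hcon) (Fin.castAdd t.length i).succ
        erw [RelSeries.smash_castAdd hcon i, RelSeries.smash_succ_castAdd hcon i]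
        exact ss i)
      fun i => by
        erw [RelSeries.smash_natAdd hcon i, RelSeries.smash_succ_natAdd hcon i]
        exact ts i)
  rw [RelSeries.smash_length, un, sn, tn] at h
  rw [ha, hb, hc, h, Nat.cast_add]

omit [IsNoetherianRing C] in
theorem relHeight_self (P : PrimeSpectrum C) : relHeight P P = 0 := by
  rw [relHeight, Ideal.map_quotient_self, Ideal.height_bot]

theorem relHeight_covBy {P Q : PrimeSpectrum C} (h : P ⋖ Q) : relHeight P Q = 1 := by
  obtain ⟨n, s, hn, sh, sl, sn, -⟩ := exists_saturated_between h.le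
  rw [hn]
  have h0 : n ≠ 0 := fun h0 => h.ne (by
    rw [← sh, ← sl]
    exact congrArg s.toFun (Fin.ext (by simp only [Fin.val_zero, Fin.val_last]; omega)))
  have h1 : n < 2 := by
    by_contra h2
    have l1 : s.head < s ⟨1, by omega⟩ := s.strictMono (Fin.lt_def.2 (by simp))
    have l2 : s ⟨1, by omega⟩ < s.last := s.strictMono (Fin.lt_def.2 (by simp only [Fin.val_last]; omega))
    rw [sh] at l1
    rw [sl] at l2
    exact h.2 l1 l2
  norm_cast
  omega

theorem isCatenary_of_relHeight_covBy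
    (H : ∀ P Q Q' : PrimeSpectrum C, P ≤ Q → Q ⋖ Q' → relHeight P Q' = relHeight P Q + 1) :
    CAlg.IsCatenary C := by
  refine ⟨fun p q _ => ⟨(height q).toNat, fun s _ hl => ?_⟩, fun s t hh hl hs ht => ?_⟩
  · have h : (s.length : ℕ∞) ≤ height q := hl ▸ length_le_height_last
    have hfin : height q ≠ ⊤ := by
      rw [← PrimeSpectrum.height_eq_orderHeight]
      exact Ideal.height_ne_top q.isPrime.ne_top
    rw [← ENat.natCast_toNat hfin] at h
    exact_mod_cast h
  · have key : ∀ s : LTSeries (PrimeSpectrum C),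
        (∀ i : Fin s.length, s (Fin.castSucc i) ⋖ s (Fin.succ i)) → relHeight s.head s.last = s.length := by
      intro s hs
      suffices ∀ i : Fin (s.length + 1), relHeight s.head (s i) = (i : ℕ) by
        simpa [RelSeries.last] using this (Fin.last _)
      intro i
      induction i using Fin.induction with
      | zero =>
        show relHeight s.head s.head = _
        rw [relHeight_self]
        simp
      | succ i ih =>
        rw [H s.head _ _ (s.monotone (Fin.zero_le _)) (hs i), ih]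
        simp
    have h1 := key s hs
    rw [hh, hl, key t ht] at h1
    exact_mod_cast h1.symm

theorem trdeg_eq_of_ringEquiv {R R' A A' : Type u} [CommRing R] [CommRing R'] [CommRing A] [CommRing A']
    [IsDomain R] [IsDomain R'] [IsDomain A'] [Algebra R A] [Algebra R' A'] [FaithfulSMul R' A']
    (f : R ≃+* R') (g : A ≃+* A') (h : ∀ r, algebraMap R' A' (f r) = g (algebraMap R A r)) :
    Algebra.trdeg R A = Algebra.trdeg R' A' := by
  letI : Algebra R R' := f.toRingHom.toAlgebra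
  letI : Algebra R A' := ((algebraMap R' A').comp f.toRingHom).toAlgebra
  haveI : IsScalarTower R R' A' := .of_algebraMap_eq' rfl
  haveI : FaithfulSMul R R' := (faithfulSMul_iff_algebraMap_injective _ _).2 f.injective
  haveI : Algebra.IsAlgebraic R R' := ⟨fun x => by
    obtain ⟨r, rfl⟩ := f.surjective x
    exact isAlgebraic_algebraMap r⟩
  rw [(AlgEquiv.ofRingEquiv (f := g) (fun r => (h r).symm) : A ≃ₐ[R] A').trdeg_eq,
    ← trdeg_add_eq R R' (A := A'), trdeg_eq_zero, zero_add]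

theorem isUniversallyCatenary_of_dimFormula (A : Type u) [CommRing A] [IsNoetherianRing A]
    (hcat : CAlg.IsCatenary A)
    (hdf : ∀ (P : Ideal A) [P.IsPrime] (S : Type u) [CommRing S] [IsDomain S] [Algebra (A ⧸ P) S]
      [FaithfulSMul (A ⧸ P) S] [Algebra.FiniteType (A ⧸ P) S] (p : Ideal (A ⧸ P)) [p.IsPrime]
      (q : Ideal S) [q.IsPrime] [q.LiesOver p],
      (q.height : Cardinal.{u}) + Algebra.trdeg ((A ⧸ P) ⧸ p) (S ⧸ q) =
        (p.height : Cardinal.{u}) + Algebra.trdeg (A ⧸ P) S) :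
    CAlg.IsUniversallyCatenary A := by
  refine ⟨inferInstance, fun T _ _ hT => ?_⟩
  haveI : IsNoetherianRing T := Algebra.FiniteType.isNoetherianRing A T
  let π : PrimeSpectrum T → PrimeSpectrum A := PrimeSpectrum.comap (algebraMap A T)
  let tr : PrimeSpectrum T → Cardinal.{u} := fun Q =>
    haveI : Q.asIdeal.LiesOver (π Q).asIdeal := ⟨rfl⟩
    Algebra.trdeg (A ⧸ (π Q).asIdeal) (T ⧸ Q.asIdeal)
  have htr : ∀ Q, ∃ t : ℕ, tr Q = t := fun Q => by
    haveI : Q.asIdeal.LiesOver (π Q).asIdeal := ⟨rfl⟩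
    haveI : Algebra.FiniteType (A ⧸ (π Q).asIdeal) (T ⧸ Q.asIdeal) :=
      Algebra.FiniteType.of_restrictScalars_finiteType A _ _
    exact Cardinal.lt_aleph0.1 trdeg_lt_aleph0_of_finiteType
  have key : ∀ Q Q' : PrimeSpectrum T, Q ≤ Q' → ∃ h k t t' : ℕ, relHeight Q Q' = h ∧
      relHeight (π Q) (π Q') = k ∧ tr Q = t ∧ tr Q' = t' ∧ h + t' = k + t := by
    intro Q Q' hle
    obtain ⟨t, ht⟩ := htr Q
    obtain ⟨t', ht'⟩ := htr Q'
    let P := π Q
    let P' := π Q'
    haveI : Q.asIdeal.LiesOver P.asIdeal := ⟨rfl⟩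
    haveI : Q'.asIdeal.LiesOver P'.asIdeal := ⟨rfl⟩
    haveI : Algebra.FiniteType (A ⧸ P.asIdeal) (T ⧸ Q.asIdeal) :=
      Algebra.FiniteType.of_restrictScalars_finiteType A _ _
    have hPle : P.asIdeal ≤ P'.asIdeal := Ideal.comap_mono hle
    let p := P'.asIdeal.map (Ideal.Quotient.mk P.asIdeal)
    let q := Q'.asIdeal.map (Ideal.Quotient.mk Q.asIdeal)
    haveI : p.IsPrime := Ideal.map_isPrime_of_surjective Ideal.Quotient.mk_surjective (by rw [Ideal.mk_ker]; exact hPle)
    haveI : q.IsPrime := Ideal.map_isPrime_of_surjective Ideal.Quotient.mk_surjective (by rw [Ideal.mk_ker]; exact hle)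
    haveI : q.LiesOver p := ⟨by
      ext x
      obtain ⟨a, rfl⟩ := Ideal.Quotient.mk_surjective x
      rw [Ideal.mem_comap, Ideal.Quotient.algebraMap_mk_of_liesOver,
        Ideal.mem_quotient_iff_mem hPle, Ideal.mem_quotient_iff_mem hle]
      rfl⟩
    haveI : IsDomain (T ⧸ Q.asIdeal) := Ideal.Quotient.isDomain _
    have h := hdf P.asIdeal (T ⧸ Q.asIdeal) p q
    have e : Algebra.trdeg ((A ⧸ P.asIdeal) ⧸ p) ((T ⧸ Q.asIdeal) ⧸ q) = tr Q' :=
      trdeg_eq_of_ringEquiv (DoubleQuot.quotQuotEquivQuotOfLE hPle) (DoubleQuot.quotQuotEquivQuotOfLE hle) fun r => by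
        obtain ⟨r, rfl⟩ := Ideal.Quotient.mk_surjective r
        obtain ⟨r, rfl⟩ := Ideal.Quotient.mk_surjective r
        rfl
    obtain ⟨hh, hhe⟩ := ENat.ne_top_iff_exists.mp (Ideal.height_ne_top (I := q) (inferInstance : q.IsPrime).ne_top)
    obtain ⟨k, hke⟩ := ENat.ne_top_iff_exists.mp (Ideal.height_ne_top (I := p) (inferInstance : p.IsPrime).ne_top)
    rw [e, ht', show Algebra.trdeg (A ⧸ P.asIdeal) (T ⧸ Q.asIdeal) = tr Q from rfl, ht, ← hhe, ← hke] at h
    exact ⟨hh, k, t, t', hhe.symm, hke.symm, ht, ht', by exact_mod_cast h⟩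
  refine isCatenary_of_relHeight_covBy fun Q0 Q1 Q2 h01 h12 => ?_
  obtain ⟨x1, k1, t0, t1, a1, b1, c1, d1, eq1⟩ := key Q0 Q1 h01
  obtain ⟨x2, k2, t0', t2, a2, b2, c2, d2, eq2⟩ := key Q0 Q2 (h01.trans h12.le)
  obtain ⟨x3, k3, t1', t2', a3, b3, c3, d3, eq3⟩ := key Q1 Q2 h12.le
  have hadd := relHeight_add hcat (P := π Q0) (Q := π Q1) (R := π Q2) (Ideal.comap_mono h01) (Ideal.comap_mono h12.le)
  rw [b1, b2, b3] at hadd
  rw [relHeight_covBy h12] at a3
  have e0 : k2 = k1 + k3 := by exact_mod_cast hadd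
  have e1 : t0' = t0 := by exact_mod_cast c2.symm.trans c1
  have e2 : t1' = t1 := by exact_mod_cast c3.symm.trans d1
  have e3 : t2' = t2 := by exact_mod_cast d3.symm.trans d2
  have e4 : 1 = x3 := by exact_mod_cast a3
  rw [a1, a2]
  norm_cast
  omega

end Groth.Agent.DimFormulaLib
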