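import Groth.Agent.DimFormulaLib.Main
import Groth.Agent.RatliffLib.StrictHensel
import Groth.Agent.RatliffLib.UnivCat
import Mathlib.RingTheory.Localization.LocalizationLocalization

/-!
Catenary and universally catenary rings: localization criteria.
-/

set_option autoImplicit false

namespace Groth.Agent.DimFormulaLib

universe u

open Order

attribute [local instance] MvPolynomial.algebraMvPolynomial

variable {R : Type u} [CommRing R]

/-- The catenary property is local at maximal ideals. -/
theorem isCatenary_iff_localization_maximal :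
    CAlg.IsCatenary R ↔ ∀ (m : Ideal R) [m.IsMaximal], CAlg.IsCatenary (Localization.AtPrime m) := by
  refine ⟨fun h m _ => CatLib.isCatenary_of_isLocalization m.primeCompl h, fun h => ?_⟩
  have hlift : ∀ q : PrimeSpectrum R, ∃ (m : Ideal R) (_ : m.IsMaximal)
      (Φ : PrimeSpectrum (Localization.AtPrime m) ↪o PrimeSpectrum R),
      (Set.range Φ).OrdConnected ∧ Set.Iic q ⊆ Set.range Φ := by
    intro q
    obtain ⟨m, hm, hqm⟩ := Ideal.exists_le_maximal q.asIdeal q.isPrime.ne_top
    let Φ : PrimeSpectrum (Localization.AtPrime m) ↪o PrimeSpectrum R :=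
      OrderEmbedding.ofMapLEIff (fun p => PrimeSpectrum.comap (algebraMap R (Localization.AtPrime m)) p) fun p p' =>
      ⟨fun hle => by
        show p.asIdeal ≤ p'.asIdeal
        rw [← IsLocalization.map_under m.primeCompl (Localization.AtPrime m) p.asIdeal,
          ← IsLocalization.map_under m.primeCompl (Localization.AtPrime m) p'.asIdeal]
        exact Ideal.map_mono hle, fun hle => Ideal.comap_mono hle⟩
    have hr : Set.range Φ = Set.Iic (⟨m, inferInstance⟩ : PrimeSpectrum R) := by
      refine Set.ext fun p => ⟨?_, fun hp => ?_⟩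
      · rintro ⟨x, rfl⟩
        show x.asIdeal.comap (algebraMap R _) ≤ m
        exact (Ideal.comap_mono (IsLocalRing.le_maximalIdeal x.isPrime.ne_top)).trans_eq
          (IsLocalization.AtPrime.under_maximalIdeal (Localization.AtPrime m) m)
      · have hdisj : Disjoint (m.primeCompl : Set R) p.asIdeal :=
          Set.disjoint_left.2 fun x hx hxp => hx (hp hxp)
        exact ⟨⟨p.asIdeal.map (algebraMap R _), IsLocalization.isPrime_of_isPrime_disjoint _ _ _ p.isPrime hdisj⟩,
          PrimeSpectrum.ext (IsLocalization.under_map_of_isPrime_disjoint m.primeCompl _ p.isPrime hdisj)⟩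
    exact ⟨m, hm, Φ, hr ▸ Set.ordConnected_Iic, hr ▸ fun x hx => le_trans hx hqm⟩
  -- pull series back
  have pull : ∀ (q : PrimeSpectrum R) (m : Ideal R) [m.IsMaximal]
      (Φ : PrimeSpectrum (Localization.AtPrime m) ↪o PrimeSpectrum R), Set.Iic q ⊆ Set.range Φ →
      ∀ u : LTSeries (PrimeSpectrum R), u.last ≤ q →
        ∃ v : LTSeries (PrimeSpectrum (Localization.AtPrime m)), v.length = u.length ∧
          Φ v.head = u.head ∧ Φ v.last = u.last ∧ ((Set.range Φ).OrdConnected →
            (∀ i : Fin u.length, u (Fin.castSucc i) ⋖ u (Fin.succ i)) →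
            ∀ i : Fin v.length, v (Fin.castSucc i) ⋖ v (Fin.succ i)) := by
    intro q m _ Φ hsub u hu
    choose g hg using fun i => hsub ((u.monotone (Fin.le_last i)).trans hu : u i ≤ q)
    refine ⟨⟨u.length, g, fun i => Φ.lt_iff_lt.1 (by rw [hg, hg]; exact u.step i)⟩, rfl, hg _, hg _,
      fun hord hcov i => ?_⟩
    show g (Fin.castSucc i) ⋖ g (Fin.succ i)
    rw [← hord.apply_covBy_apply_iff, hg, hg]
    exact hcov i
  refine ⟨fun p q hpq => ?_, fun s t hh hl hs ht => ?_⟩
  · obtain ⟨m, hm, Φ, -, hsub⟩ := hlift q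
    obtain ⟨p', hp'⟩ := hsub (show p ≤ q from hpq)
    obtain ⟨q', hq'⟩ := hsub (le_refl q)
    obtain ⟨n, hn⟩ := (h m).1 p' q' (Φ.le_iff_le.1 (by rw [hp', hq']; exact hpq))
    refine ⟨n, fun s hsh hsl => ?_⟩
    obtain ⟨v, v1, v2, v3, -⟩ := pull q m Φ hsub s hsl.le
    exact v1 ▸ hn v (Φ.injective (by rw [v2, hsh, hp'])) (Φ.injective (by rw [v3, hsl, hq']))
  · obtain ⟨m, hm, Φ, hord, hsub⟩ := hlift s.last
    obtain ⟨s', a1, a2, a3, a4⟩ := pull _ m Φ hsub s le_rfl
    obtain ⟨t', b1, b2, b3, b4⟩ := pull _ m Φ hsub t hl.ge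
    rw [← a1, ← b1]
    exact (h m).2 s' t' (Φ.injective (by rw [a2, b2, hh])) (Φ.injective (by rw [a3, b3, hl]))
      (a4 hord hs) (b4 hord ht)

/-- Localizations of universally catenary rings are universally catenary. -/
theorem isUniversallyCatenary_of_isLocalization {L : Type u} [CommRing L] [Algebra R L] (M : Submonoid R)
    [IsLocalization M L] (h : CAlg.IsUniversallyCatenary R) : CAlg.IsUniversallyCatenary L := by
  haveI := h.1
  refine ⟨IsLocalization.isNoetherianRing M L inferInstance, fun T _ _ hT => ?_⟩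
  obtain ⟨n, φ, hφ⟩ := Algebra.FiniteType.iff_quotient_mvPolynomial''.1 hT
  exact RatliffLib.isCatenary_of_ringEquiv (RingHom.quotientKerEquivOfSurjective (f := φ.toRingHom) hφ)
    (CatLib.isCatenary_quotient _ (RatliffLib.isCatenary_mvPolynomial_of_isLocalization (R := R) (S := R) M h n))

/-- A Noetherian ring is universally catenary if all its localizations at maximal ideals are. -/
theorem isUniversallyCatenary_of_localization_maximal [IsNoetherianRing R]
    (h : ∀ (m : Ideal R) [m.IsMaximal], CAlg.IsUniversallyCatenary (Localization.AtPrime m)) :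
    CAlg.IsUniversallyCatenary R := by
  refine ⟨inferInstance, fun T _ _ hT => ?_⟩
  obtain ⟨n, φ, hφ⟩ := Algebra.FiniteType.iff_quotient_mvPolynomial''.1 hT
  refine RatliffLib.isCatenary_of_ringEquiv (RingHom.quotientKerEquivOfSurjective (f := φ.toRingHom) hφ)
    (CatLib.isCatenary_quotient _ (RatliffLib.isCatenary_of_forall_atPrime fun q _ => ?_))
  obtain ⟨m, hm, hqm⟩ := Ideal.exists_le_maximal (q.comap (MvPolynomial.C : R →+* MvPolynomial (Fin n) R))
    (Ideal.IsPrime.ne_top inferInstance)
  let Rm := Localization.AtPrime m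
  let M : Submonoid (MvPolynomial (Fin n) R) := m.primeCompl.map (MvPolynomial.C : R →+* MvPolynomial (Fin n) R)
  haveI : IsLocalization M (MvPolynomial (Fin n) Rm) := MvPolynomial.isLocalization m.primeCompl Rm
  have hdisj : Disjoint (M : Set (MvPolynomial (Fin n) R)) q :=
    Set.disjoint_left.2 fun a ⟨b, hb, hab⟩ ha => hb (hqm (show MvPolynomial.C b ∈ q from hab ▸ ha))
  let q' : Ideal (MvPolynomial (Fin n) Rm) := q.map (algebraMap _ _)
  haveI : q'.IsPrime := IsLocalization.isPrime_of_isPrime_disjoint M _ q inferInstance hdisj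
  have hq' : q'.comap (algebraMap (MvPolynomial (Fin n) R) (MvPolynomial (Fin n) Rm)) = q :=
    IsLocalization.under_map_of_isPrime_disjoint M _ inferInstance hdisj
  have hcat : CAlg.IsCatenary (Localization.AtPrime q') :=
    CatLib.isCatenary_of_isLocalization q'.primeCompl ((h m).2 (MvPolynomial (Fin n) Rm) inferInstance)
  haveI := IsLocalization.isLocalization_isLocalization_atPrime_isLocalization M (Localization.AtPrime q') q'
  haveI : IsLocalization.AtPrime (Localization.AtPrime q') q := by
    simpa only [hq'] using this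
  exact RatliffLib.isCatenary_of_ringEquiv
    (IsLocalization.algEquiv q.primeCompl (Localization.AtPrime q') (Localization.AtPrime q)).toRingEquiv hcat

theorem isUniversallyCatenary_iff_localization_maximal [IsNoetherianRing R] :
    CAlg.IsUniversallyCatenary R ↔
      ∀ (m : Ideal R) [m.IsMaximal], CAlg.IsUniversallyCatenary (Localization.AtPrime m) :=
  ⟨fun h m _ => isUniversallyCatenary_of_isLocalization m.primeCompl h,
    fun h => isUniversallyCatenary_of_localization_maximal h⟩

end Groth.Agent.DimFormulaLib
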