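import Groth.Agent.DimFormulaLib.Step
import Groth.Agent.RatliffLib.Formal
import Mathlib.RingTheory.Adjoin.FG
import Mathlib.RingTheory.Localization.LocalizationLocalization
import Mathlib.RingTheory.Localization.BaseChange

/-!
The dimension formula (Matsumura 15.5, 15.6).
-/

set_option autoImplicit false

namespace Groth.Agent.DimFormulaLib

universe u

open Polynomial

theorem isUniversallyCatenary_of_finiteType {R S : Type u} [CommRing R] [CommRing S] [Algebra R S]
    [Algebra.FiniteType R S] (h : CAlg.IsUniversallyCatenary R) : CAlg.IsUniversallyCatenary S := by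
  haveI := h.1
  refine ⟨Algebra.FiniteType.isNoetherianRing R S, fun T _ _ hT => ?_⟩
  letI : Algebra R T := ((algebraMap S T).comp (algebraMap R S)).toAlgebra
  haveI : IsScalarTower R S T := .of_algebraMap_eq' rfl
  exact h.2 T (Algebra.FiniteType.trans ‹_› hT)

theorem isCatenary_polynomial {R : Type u} [CommRing R] (h : CAlg.IsUniversallyCatenary R) :
    CAlg.IsCatenary R[X] :=
  h.2 R[X] inferInstance

/-- All prime localizations of finite type `R`-algebras above `p` are catenary. -/
def CatAbove (R : Type u) [CommRing R] (p : Ideal R) : Prop :=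
  ∀ (T : Type u) [CommRing T] [Algebra R T] [Algebra.FiniteType R T] (Q : Ideal T) [Q.IsPrime],
    Q.comap (algebraMap R T) = p → CAlg.IsCatenary (Localization.AtPrime Q)

theorem catAbove_of_isUniversallyCatenary {R : Type u} [CommRing R] (h : CAlg.IsUniversallyCatenary R)
    (p : Ideal R) : CatAbove R p :=
  fun T _ _ _ Q _ _ => CatLib.isCatenary_of_isLocalization Q.primeCompl (h.2 T inferInstance)

theorem catAbove_of_atPrime {R : Type u} [CommRing R] (p : Ideal R) [p.IsPrime]
    (h : CAlg.IsUniversallyCatenary (Localization.AtPrime p)) : CatAbove R p := by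
  intro T _ _ _ Q _ hQ
  let M := Algebra.algebraMapSubmonoid T p.primeCompl
  let T' := Localization M
  haveI : Algebra.IsPushout R (Localization.AtPrime p) T T' :=
    (Algebra.isPushout_of_isLocalization p.primeCompl (Localization.AtPrime p) T T').symm
  haveI : Algebra.FiniteType (Localization.AtPrime p) T' :=
    Algebra.FiniteType.equiv inferInstance (Algebra.IsPushout.equiv R (Localization.AtPrime p) T T')
  have hdisj : Disjoint (M : Set T) Q := Set.disjoint_left.2 fun x ⟨r, hr, hrx⟩ hx => hr (by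
    show r ∈ p
    rw [← hQ, Ideal.mem_comap, hrx]
    exact hx)
  let Q' : Ideal T' := Q.map (algebraMap T T')
  haveI : Q'.IsPrime := IsLocalization.isPrime_of_isPrime_disjoint M T' Q inferInstance hdisj
  have hQ' : Q'.comap (algebraMap T T') = Q :=
    IsLocalization.under_map_of_isPrime_disjoint M T' inferInstance hdisj
  have hcat : CAlg.IsCatenary (Localization.AtPrime Q') :=
    CatLib.isCatenary_of_isLocalization Q'.primeCompl (h.2 T' inferInstance)
  haveI := IsLocalization.isLocalization_isLocalization_atPrime_isLocalization M (Localization.AtPrime Q') Q'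
  haveI : IsLocalization.AtPrime (Localization.AtPrime Q') Q := by
    simpa only [hQ'] using this
  exact RatliffLib.isCatenary_of_ringEquiv
    (IsLocalization.algEquiv Q.primeCompl (Localization.AtPrime Q') (Localization.AtPrime Q)).toRingEquiv hcat

theorem dim_formula_aux : ∀ (n : ℕ) (R S : Type u) [CommRing R] [IsDomain R] [IsNoetherianRing R]
    [CommRing S] [IsDomain S] [Algebra R S] [FaithfulSMul R S]
    (φ : MvPolynomial (Fin n) R →ₐ[R] S), Function.Surjective φ →
    ∀ (p : Ideal R) [p.IsPrime] (q : Ideal S) [q.IsPrime] [q.LiesOver p],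
    ∃ hq hp t' t : ℕ, q.height = hq ∧ p.height = hp ∧ Algebra.trdeg (R ⧸ p) (S ⧸ q) = t' ∧
      Algebra.trdeg R S = t ∧ hq + t' ≤ hp + t ∧ (CatAbove R p → hq + t' = hp + t) := by
  intro n
  induction n with
  | zero =>
    intro R S _ _ _ _ _ _ _ φ hφ p _ q _ _
    have hsurj : Function.Surjective (algebraMap R S) := fun s => by
      obtain ⟨x, rfl⟩ := hφ s
      exact ⟨MvPolynomial.isEmptyRingEquiv R (Fin 0) x, by
        conv_rhs => rw [← (MvPolynomial.isEmptyRingEquiv R (Fin 0)).symm_apply_apply x]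
        exact (φ.commutes _).symm⟩
    let e : R ≃+* S := RingEquiv.ofBijective _ ⟨FaithfulSMul.algebraMap_injective R S, hsurj⟩
    obtain ⟨hp, hph⟩ := ENat.ne_top_iff_exists.mp (Ideal.height_ne_top (I := p) (inferInstance : p.IsPrime).ne_top)
    haveI : Algebra.IsAlgebraic R S := ⟨fun s => by obtain ⟨r, rfl⟩ := hsurj s; exact isAlgebraic_algebraMap r⟩
    haveI : Algebra.IsAlgebraic (R ⧸ p) (S ⧸ q) := ⟨fun s => by
      obtain ⟨s, rfl⟩ := Ideal.Quotient.mk_surjective s
      obtain ⟨r, rfl⟩ := hsurj s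
      rw [← Ideal.Quotient.algebraMap_mk_of_liesOver q p r]
      exact isAlgebraic_algebraMap _⟩
    have hq : q.height = hp := by
      rw [hph, q.over_def p, ← e.height_map (q.under R)]
      exact congrArg Ideal.height (Ideal.map_comap_of_surjective _ hsurj q).symm
    exact ⟨hp, hp, 0, 0, hq, hph.symm, by rw [trdeg_eq_zero, Nat.cast_zero], by rw [trdeg_eq_zero, Nat.cast_zero],
      le_rfl, fun _ => rfl⟩
  | succ n ih =>
    intro R S _ _ _ _ _ _ _ φ hφ p _ q _ _
    let φ' : MvPolynomial (Fin n) R →ₐ[R] S := φ.comp (MvPolynomial.rename Fin.castSucc)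
    let S' : Subalgebra R S := φ'.range
    haveI : Algebra.FiniteType R S' := Algebra.FiniteType.of_surjective φ'.rangeRestrict φ'.rangeRestrict_surjective
    haveI : IsNoetherianRing S' := Algebra.FiniteType.isNoetherianRing R S'
    haveI : FaithfulSMul R S' := (faithfulSMul_iff_algebraMap_injective _ _).2 fun a b h =>
      FaithfulSMul.algebraMap_injective R S (congrArg Subtype.val h)
    let f : S'[X] →ₐ[S'] S := Polynomial.aeval (φ (MvPolynomial.X (Fin.last n)))
    have hf : Function.Surjective f := fun s => by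
      obtain ⟨x, rfl⟩ := hφ s
      induction x using MvPolynomial.induction_on with
      | C a => exact ⟨Polynomial.C (algebraMap R S' a), (aeval_C _ _).trans (φ.commutes a).symm⟩
      | add x y hx hy =>
        obtain ⟨a, ha⟩ := hx
        obtain ⟨b, hb⟩ := hy
        exact ⟨a + b, by rw [map_add, ha, hb, map_add]⟩
      | mul_X x i hx =>
        obtain ⟨a, ha⟩ := hx
        refine i.lastCases ?_ (fun j => ?_)
        · exact ⟨a * Polynomial.X, by rw [map_mul, ha, map_mul, aeval_X]⟩
        · refine ⟨a * Polynomial.C ⟨φ' (MvPolynomial.X j), ⟨_, rfl⟩⟩, ?_⟩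
          rw [map_mul, ha, map_mul, aeval_C]
          show _ * φ (MvPolynomial.rename Fin.castSucc (MvPolynomial.X j)) = _
          rw [MvPolynomial.rename_X]
    let q' : Ideal S' := q.under S'
    haveI : q.LiesOver q' := ⟨rfl⟩
    haveI : q'.LiesOver p := ⟨by rw [q.over_def p]; exact (Ideal.under_under q).symm⟩
    obtain ⟨hq', hp, t₁', t₁, e1, e2, e3, e4, le1, eq1⟩ := ih R S' φ'.rangeRestrict φ'.rangeRestrict_surjective p q'
    obtain ⟨hq, hq'', t₂', t₂, f1, f2, f3, f4, le2, eq2⟩ := dim_formula_step f hf q' q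
    have hcast : hq'' = hq' := by exact_mod_cast f2.symm.trans e1
    haveI : IsScalarTower (R ⧸ p) (S' ⧸ q') (S ⧸ q) := IsScalarTower.of_algebraMap_eq fun x => by
      obtain ⟨r, rfl⟩ := Ideal.Quotient.mk_surjective x
      rfl
    refine ⟨hq, hp, t₁' + t₂', t₁ + t₂, f1, e2, ?_, ?_, by omega, fun h => ?_⟩
    · rw [Nat.cast_add, ← e3, ← f3, trdeg_add_eq]
    · rw [Nat.cast_add, ← e4, ← f4, trdeg_add_eq]
    · have h1 := eq1 h
      have h2 := eq2 fun Q _ _ => by
        haveI : Q.LiesOver p := Ideal.LiesOver.trans Q q' p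
        haveI : Algebra.FiniteType R S'[X] := Algebra.FiniteType.trans ‹Algebra.FiniteType R S'› inferInstance
        exact h S'[X] Q (Q.over_def p).symm
      omega

variable {R S : Type u} [CommRing R] [IsDomain R] [IsNoetherianRing R] [CommRing S] [IsDomain S] [Algebra R S]
    [FaithfulSMul R S] [Algebra.FiniteType R S]

/-- The dimension formula in natural numbers. -/
theorem dim_formula' (p : Ideal R) [p.IsPrime] (q : Ideal S) [q.IsPrime] [q.LiesOver p] :
    ∃ hq hp t' t : ℕ, q.height = hq ∧ p.height = hp ∧ Algebra.trdeg (R ⧸ p) (S ⧸ q) = t' ∧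
      Algebra.trdeg R S = t ∧ hq + t' ≤ hp + t ∧ (CatAbove R p → hq + t' = hp + t) := by
  obtain ⟨n, φ, hφ⟩ := Algebra.FiniteType.iff_quotient_mvPolynomial''.1 ‹Algebra.FiniteType R S›
  exact dim_formula_aux n R S φ hφ p q

theorem dim_formula (p : Ideal R) [p.IsPrime] (q : Ideal S) [q.IsPrime] [q.LiesOver p] :
    ∃ hq hp t' t : ℕ, q.height = hq ∧ p.height = hp ∧ Algebra.trdeg (R ⧸ p) (S ⧸ q) = t' ∧
      Algebra.trdeg R S = t ∧ hq + t' ≤ hp + t ∧ (CAlg.IsUniversallyCatenary R → hq + t' = hp + t) := by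
  obtain ⟨hq, hp, t', t, e1, e2, e3, e4, le, heq⟩ := dim_formula' p q
  exact ⟨hq, hp, t', t, e1, e2, e3, e4, le, fun h => heq (catAbove_of_isUniversallyCatenary h p)⟩

theorem height_add_trdeg_le (p : Ideal R) [p.IsPrime] (q : Ideal S) [q.IsPrime] [q.LiesOver p] :
    (q.height : Cardinal.{u}) + Algebra.trdeg (R ⧸ p) (S ⧸ q) ≤ (p.height : Cardinal.{u}) + Algebra.trdeg R S := by
  obtain ⟨hq, hp, t', t, e1, e2, e3, e4, le, -⟩ := dim_formula p q
  rw [e1, e2, e3, e4]
  norm_cast

theorem height_add_trdeg_eq (hR : CAlg.IsUniversallyCatenary R) (p : Ideal R) [p.IsPrime] (q : Ideal S) [q.IsPrime]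
    [q.LiesOver p] :
    (q.height : Cardinal.{u}) + Algebra.trdeg (R ⧸ p) (S ⧸ q) = (p.height : Cardinal.{u}) + Algebra.trdeg R S := by
  obtain ⟨hq, hp, t', t, e1, e2, e3, e4, -, heq⟩ := dim_formula p q
  rw [e1, e2, e3, e4]
  exact_mod_cast heq hR

theorem height_add_trdeg_polynomial_eq {A : Type u} [CommRing A] [IsNoetherianRing A] (p : Ideal A) [p.IsPrime]
    (q : Ideal A[X]) [q.IsPrime] [q.LiesOver p] :
    (p.height : Cardinal.{u}) + 1 = (q.height : Cardinal.{u}) + Algebra.trdeg (A ⧸ p) (A[X] ⧸ q) := by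
  obtain ⟨h, t, hh, ht, heq⟩ := height_add_trdeg_polynomial p q (Ideal.Quotient.mkₐ A q)
    (Ideal.Quotient.mkₐ_surjective A q) (Ideal.Quotient.mkₐ_ker A q)
  obtain ⟨hp, hph⟩ := ENat.ne_top_iff_exists.mp (Ideal.height_ne_top (I := p) (inferInstance : p.IsPrime).ne_top)
  rw [← hph] at heq ⊢
  have heq' : hp + 1 = h + t := by exact_mod_cast heq
  rw [hh, ht]
  exact_mod_cast heq'

/-- A finite extension domain of a universally catenary local domain is equicodimensional. -/
theorem ringKrullDim_atMaximal_of_finite [IsLocalRing R] [Module.Finite R S] (hR : CAlg.IsUniversallyCatenary R)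
    (n : Ideal S) [n.IsMaximal] : ringKrullDim (Localization.AtPrime n) = ringKrullDim R := by
  haveI : n.LiesOver (IsLocalRing.maximalIdeal R) :=
    ⟨(IsLocalRing.eq_maximalIdeal (Ideal.isMaximal_comap_of_isIntegral_of_isMaximal (R := R) n)).symm⟩
  obtain ⟨hq, hp, t', t, e1, e2, e3, e4, -, heq⟩ := dim_formula (IsLocalRing.maximalIdeal R) n
  haveI : Module.Finite (R ⧸ IsLocalRing.maximalIdeal R) (S ⧸ n) := Module.Finite.of_restrictScalars_finite R _ _
  rw [trdeg_eq_zero] at e3 e4
  have ht' : t' = 0 := by exact_mod_cast e3.symm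
  have ht : t = 0 := by exact_mod_cast e4.symm
  have := heq hR
  rw [IsLocalization.AtPrime.ringKrullDim_eq_height n, ← IsLocalRing.maximalIdeal_height_eq_ringKrullDim, e1, e2]
  congr 2
  omega

end Groth.Agent.DimFormulaLib
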