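import Groth.Agent.DimFormulaLib.Closed
import Groth.Prelude.Def_EGA4b

/-!
Relative heights in localizations, and in one fibre.
-/

set_option autoImplicit false

namespace Groth.Agent.DimFormulaLib

universe u

open Order

variable {C : Type u} [CommRing C]

theorem length_le_relHeight {P Q : PrimeSpectrum C} (s : LTSeries (PrimeSpectrum C)) (h1 : P ≤ s.head)
    (h2 : s.last ≤ Q) : (s.length : ℕ∞) ≤ relHeight P Q := by
  obtain ⟨Φ, -, hr, hI⟩ := exists_quotEmb P
  have hmem : ∀ i, P ≤ s i := fun i => h1.trans (s.monotone (Fin.zero_le i))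
  choose g hg using fun i => (hr ▸ (hmem i : s i ∈ Set.Ici P) : s i ∈ Set.range Φ)
  obtain ⟨x, hx⟩ : Q ∈ Set.range Φ := hr ▸ ((hmem (Fin.last _)).trans h2 : P ≤ Q)
  rw [relHeight, ← hI x Q hx, PrimeSpectrum.height_eq_orderHeight]
  let t : LTSeries (PrimeSpectrum (C ⧸ P.asIdeal)) :=
    ⟨s.length, g, fun i => Φ.lt_iff_lt.1 (by rw [hg, hg]; exact s.step i)⟩
  exact length_le_height (p := t) (x := x) (Φ.le_iff_le.1 (by
    show Φ (g (Fin.last _)) ≤ Φ x
    rw [hg, hx]
    exact h2))

theorem one_add_relHeight_le [IsNoetherianRing C] {P' P Q : PrimeSpectrum C} (h1 : P' < P) (h2 : P ≤ Q) :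
    relHeight P Q + 1 ≤ relHeight P' Q := by
  obtain ⟨n, s, hn, sh, sl, sn, -⟩ := exists_saturated_between h2
  have h := length_le_relHeight (P := P') (Q := Q) (s.cons P' (show P' < s.head by rw [sh]; exact h1))
    (by rw [RelSeries.head_cons]) (by rw [RelSeries.last_cons, sl])
  rw [RelSeries.cons_length, sn] at h
  rw [hn]
  exact_mod_cast h

section Local

variable [IsNoetherianRing C] (q : PrimeSpectrum C) (L : Type u) [CommRing L] [Algebra C L]
  [IsLocalization.AtPrime L q.asIdeal]

/-- Minimal primes of `C_q` are the minimal primes of `C` inside `q`, with the expected dimensions. -/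
theorem exists_atPrime_emb :
    ∃ Φ : PrimeSpectrum L ↪o PrimeSpectrum C, Set.range Φ = Set.Iic q ∧
      ∀ z, ringKrullDim (L ⧸ z.asIdeal) = (relHeight (Φ z) q : WithBot ℕ∞) := by
  haveI : IsLocalRing L := IsLocalization.AtPrime.isLocalRing L q.asIdeal
  let Φ : PrimeSpectrum L ↪o PrimeSpectrum C :=
    OrderEmbedding.ofMapLEIff (fun p => PrimeSpectrum.comap (algebraMap C L) p) fun p p' => ⟨fun hle => by
      show p.asIdeal ≤ p'.asIdeal
      rw [← IsLocalization.map_under q.asIdeal.primeCompl L p.asIdeal,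
        ← IsLocalization.map_under q.asIdeal.primeCompl L p'.asIdeal]
      exact Ideal.map_mono hle, fun hle => Ideal.comap_mono hle⟩
  have hr : Set.range Φ = Set.Iic q := by
    refine Set.ext fun p => ⟨?_, fun hp => ?_⟩
    · rintro ⟨x, rfl⟩
      show x.asIdeal.comap (algebraMap C L) ≤ q.asIdeal
      exact (Ideal.comap_mono (IsLocalRing.le_maximalIdeal x.isPrime.ne_top)).trans_eq
        (IsLocalization.AtPrime.under_maximalIdeal L q.asIdeal)
    · have hdisj : Disjoint (q.asIdeal.primeCompl : Set C) p.asIdeal :=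
        Set.disjoint_left.2 fun x hx hxp => hx (hp hxp)
      exact ⟨⟨p.asIdeal.map (algebraMap C L), IsLocalization.isPrime_of_isPrime_disjoint _ _ _ p.isPrime hdisj⟩,
        PrimeSpectrum.ext (IsLocalization.under_map_of_isPrime_disjoint q.asIdeal.primeCompl _ p.isPrime hdisj)⟩
  refine ⟨Φ, hr, fun z => ?_⟩
  have hzq : Φ z ≤ q := (hr ▸ Set.mem_range_self z : Φ z ∈ Set.Iic q)
  rw [CatLib.ringKrullDim_quotient_eq_coheight, WithBot.coe_eq_coe]
  refine le_antisymm (coheight_le fun t ht => ?_) ?_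
  · refine length_le_relHeight (t.map Φ Φ.strictMono) ?_ ?_
    · rw [LTSeries.head_map]
      rw [ht]
    · rw [LTSeries.last_map]
      exact (hr ▸ Set.mem_range_self t.last : Φ t.last ∈ Set.Iic q)
  · obtain ⟨n, s, hn, sh, sl, sn, -⟩ := exists_saturated_between (P := Φ z) (Q := q) hzq
    choose g hg using fun i => (hr ▸ (sl ▸ s.monotone (Fin.le_last i) : s i ≤ q) : s i ∈ Set.range Φ)
    rw [hn]
    let t : LTSeries (PrimeSpectrum L) := ⟨s.length, g, fun i => Φ.lt_iff_lt.1 (by rw [hg, hg]; exact s.step i)⟩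
    have hz : z = t.head := Φ.injective ((hg _).trans sh).symm
    rw [hz, ← show t.length = n from sn]
    exact length_le_coheight_head

theorem isEquidim_atPrime_iff :
    EGA4.IsEquidim L ↔ ∀ P : PrimeSpectrum C, IsMin P → P ≤ q → relHeight P q = q.asIdeal.height := by
  obtain ⟨Φ, hr, hd⟩ := exists_atPrime_emb q L
  have hdim : ringKrullDim L = (q.asIdeal.height : WithBot ℕ∞) :=
    IsLocalization.AtPrime.ringKrullDim_eq_height q.asIdeal L
  constructor
  · intro h P hP hle
    obtain ⟨z, hz⟩ : P ∈ Set.range Φ := hr ▸ hle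
    have hzmin : IsMin z := fun w hw => Φ.le_iff_le.1 (by rw [hz]; exact hP (hz ▸ Φ.monotone hw))
    have := h z.asIdeal (PrimeSpectrum.isMin_iff.1 hzmin)
    rw [hd z, hz, hdim] at this
    exact WithBot.coe_injective this
  · intro h p hp
    haveI := hp.1.1
    let z : PrimeSpectrum L := ⟨p, inferInstance⟩
    have hzmin : IsMin z := PrimeSpectrum.isMin_iff.2 hp
    have hPmin : IsMin (Φ z) := fun w hw => by
      obtain ⟨y, rfl⟩ : w ∈ Set.range Φ := hr ▸ (hw.trans (hr ▸ Set.mem_range_self z : Φ z ∈ Set.Iic q) : w ≤ q)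
      exact Φ.monotone (hzmin (Φ.le_iff_le.1 hw))
    show ringKrullDim (L ⧸ z.asIdeal) = _
    rw [hd z, h (Φ z) hPmin (hr ▸ Set.mem_range_self z : Φ z ∈ Set.Iic q), hdim]

end Local

section Fibre

variable {A B : Type u} [CommRing A] [CommRing B] [Algebra A B] [IsNoetherianRing A] [Algebra.FiniteType A B]

/-- Within one fibre the transcendence degree strictly decreases. -/
theorem trdeg_lt_of_lt_in_fibre {P P' : PrimeSpectrum B} (h : P < P')
    (hp : PrimeSpectrum.comap (algebraMap A B) P = PrimeSpectrum.comap (algebraMap A B) P') (t t' : ℕ)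
    (ht : Algebra.trdeg (A ⧸ (PrimeSpectrum.comap (algebraMap A B) P).asIdeal) (B ⧸ P.asIdeal) = t)
    (ht' : Algebra.trdeg (A ⧸ (PrimeSpectrum.comap (algebraMap A B) P').asIdeal) (B ⧸ P'.asIdeal) = t') :
    t' < t := by
  haveI : IsNoetherianRing B := Algebra.FiniteType.isNoetherianRing A B
  obtain ⟨a, b, ha, hb, hle, -⟩ := formula_component h.le t t' ht ht'
  rw [hp, relHeight_self] at hb
  have h1 := one_add_relHeight_le h le_rfl
  rw [relHeight_self, zero_add, ha] at h1
  have e1 : 1 ≤ a := by exact_mod_cast h1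
  have e2 : b = 0 := by exact_mod_cast hb.symm
  omega

/-- A prime minimal in its fibre has fibre dimension its transcendence degree, and height zero there. -/
theorem relHeight_le_of_lt_in_fibre {P : PrimeSpectrum B} (q : PrimeSpectrum B) (hPq : P ≤ q)
    (hp : PrimeSpectrum.comap (algebraMap A B) P = PrimeSpectrum.comap (algebraMap A B) q) (t t' : ℕ)
    (ht : Algebra.trdeg (A ⧸ (PrimeSpectrum.comap (algebraMap A B) P).asIdeal) (B ⧸ P.asIdeal) = t)
    (ht' : Algebra.trdeg (A ⧸ (PrimeSpectrum.comap (algebraMap A B) q).asIdeal) (B ⧸ q.asIdeal) = t') :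
    ∃ a : ℕ, relHeight P q = a ∧ a + t' ≤ t := by
  obtain ⟨a, b, ha, hb, hle, -⟩ := formula_component hPq t t' ht ht'
  rw [hp, relHeight_self] at hb
  have e2 : b = 0 := by exact_mod_cast hb.symm
  exact ⟨a, ha, by omega⟩

end Fibre

end Groth.Agent.DimFormulaLib
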