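import Groth.Prelude
import Groth.Agent.CMCat.Polynomial
import Groth.Agent.CatLib.Basic

/-!
The dimension formula for an extension generated by one element.
-/

set_option autoImplicit false

namespace Groth.Agent.DimFormulaLib

universe u

open Polynomial Order

section Order

variable {α : Type*} [PartialOrder α]

/-- A series of maximal length ending at its last element is saturated and starts at a minimal element. -/
theorem saturated_of_length_eq_height {n : ℕ} {a : α} (ha : height a = n) :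
    ∃ s : LTSeries α, IsMin s.head ∧ s.last = a ∧ s.length = n ∧
      ∀ i : Fin s.length, s (Fin.castSucc i) ⋖ s (Fin.succ i) := by
  obtain ⟨s, hl, hn⟩ := exists_series_of_height_eq_coe a ha
  have hmax : ∀ t : LTSeries α, t.last ≤ a → t.length ≤ n := fun t ht => by
    have h := (length_le_height (x := a) ht).trans_eq ha
    exact_mod_cast h
  refine ⟨s, fun b hb => ?_, hl, hn, fun i => ⟨s.step i, fun c hc₁ hc₂ => ?_⟩⟩
  · by_contra hne
    have h := hmax (s.cons b (lt_of_le_not_ge hb hne)) (by rw [RelSeries.last_cons, hl])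
    simp only [RelSeries.cons_length] at h
    omega
  · have h := hmax (s.insertNth i c hc₁ hc₂) (by
      rw [← hl]
      show Fin.insertNth (α := fun _ => α) (Fin.castSucc i.succ) c s.toFun (Fin.last _) ≤ _
      rw [Fin.insertNth_apply_above (by exact Fin.lt_def.2 (by simp))]
      simp only [RelSeries.last, eq_rec_constant]
      exact le_of_eq (congrArg s.toFun (Fin.ext (by simp))))
    simp only [RelSeries.insertNth_length] at h
    omega

end Order

section Polynomial

variable {A : Type u} [CommRing A]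

theorem liesOver_map_C (p : Ideal A) : (p.map (C : A →+* A[X])).LiesOver p :=
  ⟨le_antisymm Ideal.le_comap_map fun a ha => by
    simpa using Ideal.mem_map_C_iff.1 (Ideal.mem_comap.1 ha) 0⟩

theorem height_map_C_prime [IsNoetherianRing A] (p : Ideal A) [p.IsPrime] :
    (p.map (C : A →+* A[X])).height = p.height := by
  haveI := liesOver_map_C p
  haveI : (p.map (C : A →+* A[X])).IsPrime := Ideal.isPrime_map_C_of_isPrime (P := p)
  rw [Ideal.height_eq_height_add_of_liesOver_of_hasGoingDown p (p.map (C : A →+* A[X]))]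
  haveI : (p.map (algebraMap A A[X])).IsPrime := Ideal.isPrime_map_C_of_isPrime (P := p)
  rw [show (p.map (C : A →+* A[X])).map (Ideal.Quotient.mk (p.map (algebraMap A A[X]))) = ⊥ from by
    rw [Ideal.map_eq_bot_iff_le_ker, Ideal.mk_ker]; rfl, Ideal.height_bot, add_zero]

theorem height_of_eq_map [IsNoetherianRing A] (p : Ideal A) [p.IsPrime] (Q : Ideal A[X]) [Q.IsPrime]
    (hQ : Q = p.map C) : Q.height = p.height := by
  subst hQ
  exact height_map_C_prime p

theorem height_of_ne_map [IsNoetherianRing A] (p : Ideal A) [p.IsPrime] (Q : Ideal A[X]) [Q.IsPrime]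
    [Q.LiesOver p] (hQ : Q ≠ p.map C) : Q.height = p.height + 1 := by
  have hp : Q.comap (C : A →+* A[X]) = p := (Q.over_def p).symm
  refine le_antisymm (hp ▸ CMCat.height_le_height_comap_add_one Q) ?_
  haveI : (p.map (C : A →+* A[X])).IsPrime := Ideal.isPrime_map_C_of_isPrime (P := p)
  have hlt : p.map C < Q := lt_of_le_of_ne (Ideal.map_le_iff_le_comap.2 hp.ge) (Ne.symm hQ)
  rw [← height_map_C_prime p]
  exact Order.add_one_le_of_lt (Ideal.height_strict_mono_of_isPrime hlt)

end Polynomial

section Trdeg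

variable {A B : Type u} [CommRing A] [IsDomain A] [CommRing B] [IsDomain B] [Algebra A B]

theorem trdeg_of_injective (f : A[X] →ₐ[A] B) (hf : Function.Surjective f) (hk : RingHom.ker f = ⊥) :
    Algebra.trdeg A B = 1 := by
  rw [← (AlgEquiv.ofBijective f ⟨(RingHom.injective_iff_ker_eq_bot f).2 hk, hf⟩).trdeg_eq]
  exact Polynomial.trdeg_of_isDomain

theorem trdeg_of_not_injective (f : A[X] →ₐ[A] B) (hf : Function.Surjective f) (hk : RingHom.ker f ≠ ⊥) :
    Algebra.trdeg A B = 0 := by
  obtain ⟨g, hg, hg0⟩ := Submodule.exists_mem_ne_zero_of_ne_bot hk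
  have halg : IsAlgebraic A (f X) := ⟨g, hg0, by rw [Polynomial.aeval_algHom_apply, aeval_X_left_apply]; exact hg⟩
  have hrange : Algebra.adjoin A {f X} = ⊤ := by
    rw [Algebra.adjoin_singleton_eq_range_aeval, eq_top_iff]
    rintro b -
    obtain ⟨p, rfl⟩ := hf b
    exact ⟨p, by simp [Polynomial.aeval_algHom_apply]⟩
  have hsub : (Algebra.adjoin A {f X}).IsAlgebraic :=
    Algebra.isAlgebraic_adjoin_iff.2 fun x hx => Set.mem_singleton_iff.1 hx ▸ halg
  haveI : Algebra.IsAlgebraic A B := ⟨fun b => hsub b (hrange ▸ Algebra.mem_top)⟩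
  exact trdeg_eq_zero

end Trdeg

/-- Transcendence degrees in `A[X]/Q` over `A/p`, together with the height of `Q`. -/
theorem height_add_trdeg_polynomial {A B : Type u} [CommRing A] [IsNoetherianRing A] [CommRing B] [IsDomain B]
    (p : Ideal A) [p.IsPrime] (Q : Ideal A[X]) [Q.IsPrime] [Q.LiesOver p] [Algebra A B] [Algebra (A ⧸ p) B]
    [IsScalarTower A (A ⧸ p) B] (g : A[X] →ₐ[A] B) (hg : Function.Surjective g) (hk : RingHom.ker g = Q) :
    ∃ h t : ℕ, Q.height = h ∧ Algebra.trdeg (A ⧸ p) B = t ∧ p.height + 1 = ((h + t : ℕ) : ℕ∞) := by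
  let g' : (A ⧸ p)[X] →ₐ[A ⧸ p] B := Polynomial.aeval (g X)
  have hc : ∀ f : A[X], g' (f.map (Ideal.Quotient.mk p)) = g f := fun f => by
    rw [show g' (f.map (Ideal.Quotient.mk p)) = Polynomial.aeval (g X) (f.map (algebraMap A (A ⧸ p))) from rfl,
      Polynomial.aeval_map_algebraMap, Polynomial.aeval_algHom_apply, aeval_X_left_apply]
  have hg' : Function.Surjective g' := fun b => by
    obtain ⟨f, rfl⟩ := hg b
    exact ⟨_, hc f⟩
  have hkg : RingHom.ker g' = Q.map (Polynomial.mapRingHom (Ideal.Quotient.mk p)) := by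
    refine le_antisymm (fun x hx => ?_) (Ideal.map_le_iff_le_comap.2 fun f hf => ?_)
    · obtain ⟨f, rfl⟩ := Polynomial.map_surjective (Ideal.Quotient.mk p) Ideal.Quotient.mk_surjective x
      rw [RingHom.mem_ker, hc] at hx
      exact Ideal.mem_map_of_mem (Polynomial.mapRingHom (Ideal.Quotient.mk p))
        (show f ∈ Q from hk ▸ (RingHom.mem_ker.2 hx))
    · rw [Ideal.mem_comap, RingHom.mem_ker, Polynomial.coe_mapRingHom, hc]
      exact RingHom.mem_ker.1 (hk.ge hf)
  obtain ⟨hp, hph⟩ := ENat.ne_top_iff_exists.mp (Ideal.height_ne_top (I := p) (inferInstance : p.IsPrime).ne_top)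
  have hzero : Q.map (Polynomial.mapRingHom (Ideal.Quotient.mk p)) = ⊥ ↔ Q = p.map C := by
    rw [Ideal.map_eq_bot_iff_le_ker, Polynomial.ker_mapRingHom, Ideal.mk_ker]
    exact ⟨fun h => le_antisymm h (Ideal.map_le_iff_le_comap.2 (Q.over_def p).le), fun h => h.le⟩
  by_cases hQ : Q = p.map C
  · refine ⟨hp, 1, by rw [height_of_eq_map p Q hQ, hph], ?_, by rw [← hph]; norm_cast⟩
    rw [trdeg_of_injective g' hg' (hkg.trans (hzero.2 hQ)), Nat.cast_one]
  · refine ⟨hp + 1, 0, by rw [height_of_ne_map p Q hQ, ← hph]; norm_cast, ?_, by rw [← hph]; norm_cast⟩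
    rw [trdeg_of_not_injective g' hg' (fun h => hQ (hzero.1 (hkg ▸ h))), Nat.cast_zero]

/-- Saturated chains below a prime with catenary localization have equal lengths. -/
theorem length_eq_of_catenary_atPrime {T : Type u} [CommRing T] {Q : PrimeSpectrum T}
    (hcat : CAlg.IsCatenary (Localization.AtPrime Q.asIdeal)) (s t : LTSeries (PrimeSpectrum T))
    (hh : s.head = t.head) (hs : s.last = Q) (ht : t.last = Q)
    (ss : ∀ i : Fin s.length, s (Fin.castSucc i) ⋖ s (Fin.succ i))
    (ts : ∀ i : Fin t.length, t (Fin.castSucc i) ⋖ t (Fin.succ i)) : s.length = t.length := by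
  let Φ : PrimeSpectrum (Localization.AtPrime Q.asIdeal) ↪o PrimeSpectrum T :=
    OrderEmbedding.ofMapLEIff (fun p => PrimeSpectrum.comap (algebraMap T (Localization.AtPrime Q.asIdeal)) p)
      fun p p' => ⟨fun hle => by
        show p.asIdeal ≤ p'.asIdeal
        rw [← IsLocalization.map_under Q.asIdeal.primeCompl (Localization.AtPrime Q.asIdeal) p.asIdeal,
          ← IsLocalization.map_under Q.asIdeal.primeCompl (Localization.AtPrime Q.asIdeal) p'.asIdeal]
        exact Ideal.map_mono hle, fun hle => Ideal.comap_mono hle⟩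
  have hr : Set.range Φ = Set.Iic Q := by
    refine Set.ext fun p => ⟨?_, fun hp => ?_⟩
    · rintro ⟨x, rfl⟩
      show x.asIdeal.comap (algebraMap T _) ≤ Q.asIdeal
      exact (Ideal.comap_mono (IsLocalRing.le_maximalIdeal x.isPrime.ne_top)).trans_eq
        (IsLocalization.AtPrime.under_maximalIdeal (Localization.AtPrime Q.asIdeal) Q.asIdeal)
    · have hdisj : Disjoint (Q.asIdeal.primeCompl : Set T) p.asIdeal :=
        Set.disjoint_left.2 fun x hx hxp => hx (hp hxp)
      exact ⟨⟨p.asIdeal.map (algebraMap T _), IsLocalization.isPrime_of_isPrime_disjoint _ _ _ p.isPrime hdisj⟩,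
        PrimeSpectrum.ext (IsLocalization.under_map_of_isPrime_disjoint Q.asIdeal.primeCompl _ p.isPrime hdisj)⟩
  have hord : (Set.range Φ).OrdConnected := hr ▸ Set.ordConnected_Iic
  have pull : ∀ u : LTSeries (PrimeSpectrum T), u.last = Q →
      (∀ i : Fin u.length, u (Fin.castSucc i) ⋖ u (Fin.succ i)) →
      ∃ v : LTSeries (PrimeSpectrum (Localization.AtPrime Q.asIdeal)), v.length = u.length ∧
        Φ v.head = u.head ∧ Φ v.last = u.last ∧ ∀ i : Fin v.length, v (Fin.castSucc i) ⋖ v (Fin.succ i) := by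
    intro u hu hcov
    choose g hg using fun i => (hr ▸ (hu ▸ u.monotone (Fin.le_last i) : u i ≤ Q) : u i ∈ Set.range Φ)
    have hg' : ∀ i : Fin u.length, g (Fin.castSucc i) ⋖ g (Fin.succ i) := fun i => by
      rw [← hord.apply_covBy_apply_iff, hg, hg]
      exact hcov i
    exact ⟨⟨u.length, g, fun i => (hg' i).lt⟩, rfl, hg _, hg _, hg'⟩
  obtain ⟨s', a1, a2, a3, a4⟩ := pull s hs ss
  obtain ⟨t', b1, b2, b3, b4⟩ := pull t ht ts
  rw [← a1, ← b1]
  exact hcat.2 s' t' (Φ.injective (by rw [a2, b2, hh])) (Φ.injective (by rw [a3, b3, hs, ht])) a4 b4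

section OneStep

variable {T : Type u} [CommRing T] [IsDomain T] [IsNoetherianRing T]

/-- For a height one prime `Q0` inside `Q`: the height drops by at least one, exactly one if catenary. -/
theorem height_quotient_height_one (Q0 Q : PrimeSpectrum T) (h0 : Q0.asIdeal.height = 1) (hle : Q0 ≤ Q) :
    ((Q.asIdeal.map (Ideal.Quotient.mk Q0.asIdeal)).height + 1 ≤ Q.asIdeal.height) ∧
      (CAlg.IsCatenary (Localization.AtPrime Q.asIdeal) → (Q.asIdeal.map (Ideal.Quotient.mk Q0.asIdeal)).height + 1 = Q.asIdeal.height) := by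
  haveI : (Q.asIdeal.map (Ideal.Quotient.mk Q0.asIdeal)).IsPrime :=
    Ideal.map_isPrime_of_surjective Ideal.Quotient.mk_surjective (by rw [Ideal.mk_ker]; exact hle)
  let Q' : PrimeSpectrum (T ⧸ Q0.asIdeal) := ⟨Q.asIdeal.map (Ideal.Quotient.mk Q0.asIdeal), inferInstance⟩
  let Φ : PrimeSpectrum (T ⧸ Q0.asIdeal) ↪o PrimeSpectrum T :=
    OrderEmbedding.ofMapLEIff (fun x => PrimeSpectrum.comap (Ideal.Quotient.mk Q0.asIdeal) x) fun x y =>
      Ideal.comap_le_comap_iff_of_surjective _ Ideal.Quotient.mk_surjective _ _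
  have hΦ : (Set.range Φ).OrdConnected := by
    refine ⟨fun a ha b _ c hc => ?_⟩
    obtain ⟨x, rfl⟩ := ha
    have hI : Q0.asIdeal ≤ c.asIdeal := fun t ht => hc.1 (show Ideal.Quotient.mk Q0.asIdeal t ∈ x.asIdeal by
      rw [Ideal.Quotient.eq_zero_iff_mem.2 ht]; exact zero_mem _)
    exact ⟨⟨c.asIdeal.map (Ideal.Quotient.mk Q0.asIdeal), Ideal.map_isPrime_of_surjective
      Ideal.Quotient.mk_surjective (by rw [Ideal.mk_ker]; exact hI)⟩, PrimeSpectrum.ext (by
        show (c.asIdeal.map _).comap _ = _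
        rw [Ideal.comap_map_of_surjective' _ Ideal.Quotient.mk_surjective, Ideal.mk_ker, sup_eq_left.2 hI])⟩
  have hQ' : Φ Q' = Q := PrimeSpectrum.ext (by
    show (Q.asIdeal.map _).comap _ = _
    rw [Ideal.comap_map_of_surjective' _ Ideal.Quotient.mk_surjective, Ideal.mk_ker]
    exact sup_eq_left.2 hle)
  obtain ⟨n, hn⟩ := ENat.ne_top_iff_exists.mp (Ideal.height_ne_top (I := Q'.asIdeal) Q'.isPrime.ne_top)
  obtain ⟨N, hN⟩ := ENat.ne_top_iff_exists.mp (Ideal.height_ne_top (I := Q.asIdeal) Q.isPrime.ne_top)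
  have hn' : height Q' = n := by rw [← PrimeSpectrum.height_eq_orderHeight, hn]
  have hN' : height Q = N := by rw [← PrimeSpectrum.height_eq_orderHeight, hN]
  obtain ⟨t, tmin, tl, tn, ts⟩ := saturated_of_length_eq_height hn'
  have hhead : Φ t.head = Q0 := by
    refine PrimeSpectrum.ext (le_antisymm ?_ ?_)
    · have h1 : t.head ≤ ⟨⊥, Ideal.isPrime_bot⟩ := tmin bot_le
      refine (Ideal.comap_mono h1).trans ?_
      show (⊥ : Ideal (T ⧸ Q0.asIdeal)).comap _ ≤ _
      rw [← RingHom.ker_eq_comap_bot, Ideal.mk_ker]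
    · show Q0.asIdeal ≤ t.head.asIdeal.comap _
      intro x hx
      rw [Ideal.mem_comap, Ideal.Quotient.eq_zero_iff_mem.2 hx]
      exact zero_mem _
  let b : PrimeSpectrum T := ⟨⊥, Ideal.isPrime_bot⟩
  have h0' : height Q0 = 1 := by rw [← PrimeSpectrum.height_eq_orderHeight, h0]
  have hb0 : b < Q0 := lt_of_le_of_ne bot_le fun h => by
    rw [← h, height_eq_zero.2 (show IsMin b from fun _ _ => bot_le)] at h0'
    exact zero_ne_one h0'
  have hcov : b ⋖ Q0 := ⟨hb0, fun c hc1 hc2 => by
    have h1 : height b + 1 ≤ height c := height_add_one_le hc1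
    have h2 : height c + 1 ≤ height Q0 := height_add_one_le hc2
    rw [h0'] at h2
    have h3 := (add_le_add (h1.trans' le_add_self) le_rfl).trans h2
    norm_num at h3⟩
  have tcov : ∀ i : Fin t.length, (t.map Φ Φ.strictMono) (Fin.castSucc i) ⋖ (t.map Φ Φ.strictMono) (Fin.succ i) :=
    fun i => hΦ.apply_covBy_apply_iff (f := Φ) |>.2 (ts i)
  obtain ⟨u, uh, ul, un, us⟩ := CatLib.exists_cons_saturated (t.map Φ Φ.strictMono) (p := b)
    (by rw [LTSeries.head_map, hhead]; exact hcov) tcov
  have ulast : u.last = Q := by rw [ul, LTSeries.last_map, tl, hQ']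
  have ulen : u.length = n + 1 := by rw [un]; exact congrArg (· + 1) tn
  rw [show (Q.asIdeal.map (Ideal.Quotient.mk Q0.asIdeal)).height = n from hn.symm, ← hN]
  refine ⟨?_, fun hcat => ?_⟩
  · have h := (length_le_height (x := Q) ulast.le).trans_eq hN'
    rw [ulen] at h
    exact_mod_cast h
  · obtain ⟨s, smin, sl, sn, ss⟩ := saturated_of_length_eq_height hN'
    have hsh : s.head = b := PrimeSpectrum.ext (le_bot_iff.1 (smin (show b ≤ s.head from bot_le)))
    have h := length_eq_of_catenary_atPrime hcat u s (by rw [uh, hsh]) ulast sl us ss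
    rw [ulen, sn] at h
    exact_mod_cast h

end OneStep

/-- The dimension (in)equality for an extension generated by a single element. -/
theorem dim_formula_step {R S : Type u} [CommRing R] [IsDomain R] [IsNoetherianRing R] [CommRing S] [IsDomain S]
    [Algebra R S] [FaithfulSMul R S] (f : R[X] →ₐ[R] S) (hf : Function.Surjective f)
    (p : Ideal R) [p.IsPrime] (q : Ideal S) [q.IsPrime] [q.LiesOver p] :
    ∃ hq hp t' t : ℕ, q.height = hq ∧ p.height = hp ∧ Algebra.trdeg (R ⧸ p) (S ⧸ q) = t' ∧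
      Algebra.trdeg R S = t ∧ hq + t' ≤ hp + t ∧
        ((∀ (Q : Ideal R[X]) [Q.IsPrime] [Q.LiesOver p], CAlg.IsCatenary (Localization.AtPrime Q)) →
          hq + t' = hp + t) := by
  let Q : Ideal R[X] := q.comap f
  haveI : Q.IsPrime := Ideal.IsPrime.comap _
  haveI : Q.LiesOver p := ⟨by
    show p = (q.comap f.toRingHom).comap (algebraMap R R[X])
    rw [Ideal.comap_comap, q.over_def p, Ideal.under_def]
    exact congrArg (Ideal.comap · q) (RingHom.ext fun x => (f.commutes x).symm)⟩
  obtain ⟨hp, hph⟩ := ENat.ne_top_iff_exists.mp (Ideal.height_ne_top (I := p) (inferInstance : p.IsPrime).ne_top)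
  obtain ⟨h, t', hh, ht', heq⟩ := height_add_trdeg_polynomial (B := S ⧸ q) p Q
    ((Ideal.Quotient.mkₐ R q).comp f) ((Ideal.Quotient.mkₐ_surjective R q).comp hf) (by
      show RingHom.ker ((Ideal.Quotient.mkₐ R q).comp f).toRingHom = _
      rw [show ((Ideal.Quotient.mkₐ R q).comp f).toRingHom = (Ideal.Quotient.mk q).comp f.toRingHom from rfl,
        ← RingHom.comap_ker, Ideal.mk_ker]
      rfl)
  rw [← hph] at heq
  have heq' : hp + 1 = h + t' := by exact_mod_cast heq
  by_cases hk : RingHom.ker f = ⊥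
  · let e : R[X] ≃+* S := (AlgEquiv.ofBijective f ⟨(RingHom.injective_iff_ker_eq_bot f).2 hk, hf⟩).toRingEquiv
    have hq : q.height = h := by
      rw [← hh, ← e.height_map Q]
      exact congrArg Ideal.height (Ideal.map_comap_of_surjective f hf q).symm
    exact ⟨h, hp, t', 1, hq, hph.symm, ht', by rw [trdeg_of_injective f hf hk, Nat.cast_one], by omega,
      fun _ => by omega⟩
  · haveI : (RingHom.ker f).IsPrime := RingHom.ker_isPrime f
    have hle : RingHom.ker f ≤ Q := fun x hx => by
      show f x ∈ q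
      rw [RingHom.mem_ker.1 hx]
      exact zero_mem q
    have h0 : (RingHom.ker f).height = 1 := by
      haveI : (RingHom.ker f).LiesOver (⊥ : Ideal R) := ⟨by
        show ⊥ = (RingHom.ker f.toRingHom).comap (algebraMap R R[X])
        rw [RingHom.ker_eq_comap_bot, Ideal.comap_comap, ← RingHom.ker_eq_comap_bot,
          show f.toRingHom.comp (algebraMap R R[X]) = algebraMap R S from RingHom.ext f.commutes,
          (RingHom.injective_iff_ker_eq_bot _).1 (FaithfulSMul.algebraMap_injective R S)]⟩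
      rw [height_of_ne_map (⊥ : Ideal R) (RingHom.ker f) (by rwa [Ideal.map_bot]), Ideal.height_bot, zero_add]
    let e : (R[X] ⧸ RingHom.ker f) ≃+* S := RingHom.quotientKerEquivOfSurjective (f := f.toRingHom) hf
    have hqe : q.height = (Q.map (Ideal.Quotient.mk (RingHom.ker f))).height := by
      rw [← e.height_map (Q.map (Ideal.Quotient.mk (RingHom.ker f))), ← Ideal.map_coe e, Ideal.map_map]
      exact congrArg Ideal.height (Ideal.map_comap_of_surjective f hf q).symm
    have key := height_quotient_height_one (⟨RingHom.ker f, inferInstance⟩ : PrimeSpectrum R[X]) ⟨Q, inferInstance⟩ h0 hle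
    simp only [hh, ← hqe] at key
    have htop : q.height ≠ ⊤ := fun hinf => by
      have := key.1
      rw [hinf, top_add] at this
      exact ENat.coe_ne_top h (top_le_iff.1 this)
    obtain ⟨hq, hqh⟩ := ENat.ne_top_iff_exists.mp htop
    rw [← hqh] at key
    have k1 : hq + 1 ≤ h := by exact_mod_cast key.1
    refine ⟨hq, hp, t', 0, hqh.symm, hph.symm, ht', by rw [trdeg_of_not_injective f hf hk, Nat.cast_zero], by omega,
      fun hcat => ?_⟩
    have k2 : hq + 1 = h := by exact_mod_cast key.2 (hcat Q)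
    omega

end Groth.Agent.DimFormulaLib
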