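import Groth.Agent.DimFormulaLib.Main

/-!
The dimension formula from catenarity of the finite type subalgebras of `S[X]`.
-/

set_option autoImplicit false

namespace Groth.Agent.DimFormulaLib

universe u

open Polynomial

/-- Localizations over `p` of finite type subalgebras of `S[X]` are catenary. -/
def CatSub (R S : Type u) [CommRing R] [CommRing S] [Algebra R S] (p : Ideal R) : Prop :=
  ∀ A' : Subalgebra R S[X], A'.FG → ∀ (Q : Ideal A') [Q.IsPrime],
    Q.comap (algebraMap R A') = p → CAlg.IsCatenary (Localization.AtPrime Q)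

theorem catenary_of_injective {R S : Type u} [CommRing R] [CommRing S] [Algebra R S] {p : Ideal R}
    (h : CatSub R S p) {T : Type u} [CommRing T] [Algebra R T] (g : T →ₐ[R] S[X]) (hg : Function.Injective g)
    (hT : Algebra.FiniteType R T) (Q : Ideal T) [Q.IsPrime] (hQ : Q.comap (algebraMap R T) = p) :
    CAlg.IsCatenary (Localization.AtPrime Q) := by
  let e : T ≃ₐ[R] g.range := AlgEquiv.ofInjective g hg
  let Q' : Ideal g.range := Q.comap e.symm.toRingEquiv.toRingHom
  haveI : Q'.IsPrime := Ideal.IsPrime.comap _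
  have hQ' : Q'.comap (algebraMap R g.range) = p := by
    rw [← hQ]
    ext r
    show e.symm (algebraMap R g.range r) ∈ Q ↔ algebraMap R T r ∈ Q
    rw [e.symm.commutes]
  have hfg : g.range.FG := (Subalgebra.fg_iff_finiteType _).2 (Algebra.FiniteType.equiv hT e)
  refine RatliffLib.isCatenary_of_ringEquiv ?_ (h g.range hfg Q' hQ')
  refine IsLocalization.ringEquivOfRingEquiv (M := Q'.primeCompl) (T := Q.primeCompl) (Localization.AtPrime Q') (Localization.AtPrime Q)
    (e.symm.toRingEquiv) ?_
  ext t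
  refine ⟨fun ⟨x, hx, hxt⟩ => hxt ▸ hx, fun ht => ⟨e t, ?_, e.symm_apply_apply t⟩⟩
  show e.symm (e t) ∉ Q
  rwa [e.symm_apply_apply]

theorem catenary_atPrime_of_le {T : Type u} [CommRing T] {Q m : Ideal T} [Q.IsPrime] [m.IsPrime] (hQm : Q ≤ m)
    (L : Type u) [CommRing L] [Algebra T L] [IsLocalization.AtPrime L m] (h : CAlg.IsCatenary L) :
    CAlg.IsCatenary (Localization.AtPrime Q) := by
  have hdisj : Disjoint (m.primeCompl : Set T) Q := Set.disjoint_left.2 fun x hx hxQ => hx (hQm hxQ)
  let Q' : Ideal L := Q.map (algebraMap T L)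
  haveI : Q'.IsPrime := IsLocalization.isPrime_of_isPrime_disjoint m.primeCompl L Q inferInstance hdisj
  have hQ' : Q'.comap (algebraMap T L) = Q :=
    IsLocalization.under_map_of_isPrime_disjoint m.primeCompl L inferInstance hdisj
  have hc : CAlg.IsCatenary (Localization.AtPrime Q') := CatLib.isCatenary_of_isLocalization Q'.primeCompl h
  haveI := IsLocalization.isLocalization_isLocalization_atPrime_isLocalization m.primeCompl (Localization.AtPrime Q') Q'
  haveI : IsLocalization.AtPrime (Localization.AtPrime Q') Q := by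
    simpa only [hQ'] using this
  exact RatliffLib.isCatenary_of_ringEquiv
    (IsLocalization.algEquiv Q.primeCompl (Localization.AtPrime Q') (Localization.AtPrime Q)).toRingEquiv hc

theorem dim_formula_sub_aux : ∀ (n : ℕ) (R S : Type u) [CommRing R] [IsDomain R] [IsNoetherianRing R]
    [CommRing S] [IsDomain S] [Algebra R S] [FaithfulSMul R S]
    (φ : MvPolynomial (Fin n) R →ₐ[R] S), Function.Surjective φ →
    ∀ (p : Ideal R) [p.IsPrime] (q : Ideal S) [q.IsPrime] [q.LiesOver p],
    ∃ hq hp t' t : ℕ, q.height = hq ∧ p.height = hp ∧ Algebra.trdeg (R ⧸ p) (S ⧸ q) = t' ∧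
      Algebra.trdeg R S = t ∧ hq + t' ≤ hp + t ∧ (CatSub R S p → hq + t' = hp + t) := by
  intro n
  induction n with
  | zero =>
    intro R S _ _ _ _ _ _ _ φ hφ p _ q _ _
    have hsurj : Function.Surjective (algebraMap R S) := fun s => by
      obtain ⟨x, rfl⟩ := hφ s
      exact ⟨MvPolynomial.isEmptyRingEquiv R (Fin 0) x, by
        conv_rhs => rw [← (MvPolynomial.isEmptyRingEquiv R (Fin 0)).symm_apply_apply x]
        exact (φ.commutes _).symm⟩
    let e : R ≃+* S := RingEquiv.ofBijective _ ⟨FaithfulSMul.algebraMap_injective R S, hsurj⟩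
    obtain ⟨hp, hph⟩ := ENat.ne_top_iff_exists.mp (Ideal.height_ne_top (I := p) (inferInstance : p.IsPrime).ne_top)
    haveI : Algebra.IsAlgebraic R S := ⟨fun s => by obtain ⟨r, rfl⟩ := hsurj s; exact isAlgebraic_algebraMap r⟩
    haveI : Algebra.IsAlgebraic (R ⧸ p) (S ⧸ q) := ⟨fun s => by
      obtain ⟨s, rfl⟩ := Ideal.Quotient.mk_surjective s
      obtain ⟨r, rfl⟩ := hsurj s
      rw [← Ideal.Quotient.algebraMap_mk_of_liesOver q p r]
      exact isAlgebraic_algebraMap _⟩
    have hq : q.height = hp := by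
      rw [hph, q.over_def p, ← e.height_map (q.under R)]
      exact congrArg Ideal.height (Ideal.map_comap_of_surjective _ hsurj q).symm
    exact ⟨hp, hp, 0, 0, hq, hph.symm, by rw [trdeg_eq_zero, Nat.cast_zero], by rw [trdeg_eq_zero, Nat.cast_zero],
      le_rfl, fun _ => rfl⟩
  | succ n ih =>
    intro R S _ _ _ _ _ _ _ φ hφ p _ q _ _
    let φ' : MvPolynomial (Fin n) R →ₐ[R] S := φ.comp (MvPolynomial.rename Fin.castSucc)
    let S' : Subalgebra R S := φ'.range
    haveI : Algebra.FiniteType R S' := Algebra.FiniteType.of_surjective φ'.rangeRestrict φ'.rangeRestrict_surjective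
    haveI : IsNoetherianRing S' := Algebra.FiniteType.isNoetherianRing R S'
    haveI : FaithfulSMul R S' := (faithfulSMul_iff_algebraMap_injective _ _).2 fun a b h =>
      FaithfulSMul.algebraMap_injective R S (congrArg Subtype.val h)
    let f : S'[X] →ₐ[S'] S := Polynomial.aeval (φ (MvPolynomial.X (Fin.last n)))
    have hf : Function.Surjective f := fun s => by
      obtain ⟨x, rfl⟩ := hφ s
      induction x using MvPolynomial.induction_on with
      | C a => exact ⟨Polynomial.C (algebraMap R S' a), (aeval_C _ _).trans (φ.commutes a).symm⟩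
      | add x y hx hy =>
        obtain ⟨a, ha⟩ := hx
        obtain ⟨b, hb⟩ := hy
        exact ⟨a + b, by rw [map_add, ha, hb, map_add]⟩
      | mul_X x i hx =>
        obtain ⟨a, ha⟩ := hx
        refine i.lastCases ?_ (fun j => ?_)
        · exact ⟨a * Polynomial.X, by rw [map_mul, ha, map_mul, aeval_X]⟩
        · refine ⟨a * Polynomial.C ⟨φ' (MvPolynomial.X j), ⟨_, rfl⟩⟩, ?_⟩
          rw [map_mul, ha, map_mul, aeval_C]
          show _ * φ (MvPolynomial.rename Fin.castSucc (MvPolynomial.X j)) = _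
          rw [MvPolynomial.rename_X]
    let q' : Ideal S' := q.under S'
    haveI : q.LiesOver q' := ⟨rfl⟩
    haveI : q'.LiesOver p := ⟨by rw [q.over_def p]; exact (Ideal.under_under q).symm⟩
    obtain ⟨hq', hp, t₁', t₁, e1, e2, e3, e4, le1, eq1⟩ := ih R S' φ'.rangeRestrict φ'.rangeRestrict_surjective p q'
    obtain ⟨hq, hq'', t₂', t₂, f1, f2, f3, f4, le2, eq2⟩ := dim_formula_step f hf q' q
    have hcast : hq'' = hq' := by exact_mod_cast f2.symm.trans e1
    haveI : IsScalarTower (R ⧸ p) (S' ⧸ q') (S ⧸ q) := IsScalarTower.of_algebraMap_eq fun x => by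
      obtain ⟨r, rfl⟩ := Ideal.Quotient.mk_surjective x
      rfl
    refine ⟨hq, hp, t₁' + t₂', t₁ + t₂, f1, e2, ?_, ?_, by omega, fun h => ?_⟩
    · rw [Nat.cast_add, ← e3, ← f3, trdeg_add_eq]
    · rw [Nat.cast_add, ← e4, ← f4, trdeg_add_eq]
    · have hinj : Function.Injective (Polynomial.mapAlgHom S'.val : S'[X] →ₐ[R] S[X]) :=
        Polynomial.map_injective _ Subtype.val_injective
      have h1 := eq1 fun A' hA' Q _ hQ => catenary_of_injective h
        ((Polynomial.mapAlgHom S'.val).comp A'.val) (hinj.comp Subtype.val_injective)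
        ((Subalgebra.fg_iff_finiteType A').1 hA') Q hQ
      have h2 := eq2 fun Q _ _ => by
        haveI : Q.LiesOver p := Ideal.LiesOver.trans Q q' p
        exact catenary_of_injective h _ hinj (Algebra.FiniteType.trans ‹Algebra.FiniteType R S'› inferInstance) Q
          (Q.over_def p).symm
      omega

theorem catSub_of_maximal {R S : Type u} [CommRing R] [IsLocalRing R] [CommRing S] [Algebra R S]
    (hcat : ∀ A' : Subalgebra R S[X], A'.FG → ∀ (m' : Ideal A') [m'.IsMaximal],
      m'.LiesOver (IsLocalRing.maximalIdeal R) → CAlg.IsCatenary (Localization.AtPrime m')) :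
    CatSub R S (IsLocalRing.maximalIdeal R) := by
  intro A' hA' Q _ hQ
  obtain ⟨m', hm', hQm⟩ := Ideal.exists_le_maximal Q (Ideal.IsPrime.ne_top ‹_›)
  have hover : m'.LiesOver (IsLocalRing.maximalIdeal R) :=
    ⟨le_antisymm (hQ ▸ Ideal.comap_mono hQm) (IsLocalRing.le_maximalIdeal (Ideal.comap_ne_top _ hm'.ne_top))⟩
  exact catenary_atPrime_of_le hQm (Localization.AtPrime m') (hcat A' hA' m' hover)

end Groth.Agent.DimFormulaLib
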