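import Groth.Agent.S3404
import Mathlib

/-!
A local homomorphism of Noetherian local rings which is surjective on spectra does not lower the dimension.
-/

set_option autoImplicit false
set_option linter.style.haveILetI false

universe u

open IsLocalRing CategoryTheory AlgebraicGeometry

namespace Groth.Agent.DimFormulaLib

/-- Between two primes with a prime strictly between them there is a cover of the lower one avoiding any
given finite set. -/
theorem exists_cover_notMem {A : Type u} [CommRing A] [IsNoetherianRing A] {p r q : PrimeSpectrum A}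
    (hpr : p < r) (hrq : r < q) (F : Finset (PrimeSpectrum A)) :
    ∃ P : PrimeSpectrum A, p < P ∧ P < q ∧ P ∉ F ∧ ∀ s, p < s → ¬ s < P := by
  classical
  let G : Finset (PrimeSpectrum A) := insert p (F.filter fun f => ¬ q.asIdeal ≤ f.asIdeal)
  have hG : ¬ (q.asIdeal : Set A) ⊆ ⋃ g ∈ (G : Set (PrimeSpectrum A)), (g.asIdeal : Set A) := by
    rw [Ideal.subset_union_prime p p fun g _ _ _ => g.isPrime]
    rintro ⟨g, hg, hle⟩
    rcases Finset.mem_insert.1 hg with rfl | hg
    · exact (hpr.trans hrq).not_ge hle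
    · exact (Finset.mem_filter.1 hg).2 hle
  obtain ⟨x, hxq, hx⟩ := Set.not_subset.1 hG
  have hxG : ∀ g ∈ G, x ∉ g.asIdeal := fun g hg hxg => hx (Set.mem_biUnion hg hxg)
  obtain ⟨P, hP, hPq⟩ := Ideal.exists_minimalPrimes_le
    (sup_le (hpr.trans hrq).le ((Ideal.span_singleton_le_iff_mem _).2 hxq) :
      p.asIdeal ⊔ Ideal.span {x} ≤ q.asIdeal)
  haveI hPp : P.IsPrime := hP.1.1
  have hpP : p.asIdeal ≤ P := le_sup_left.trans hP.1.2
  have hxP : x ∈ P := hP.1.2 (Ideal.mem_sup_right (Ideal.mem_span_singleton_self x))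
  let π := Ideal.Quotient.mk p.asIdeal
  have hker : RingHom.ker π = p.asIdeal := Ideal.mk_ker
  haveI : (P.map π).IsPrime := Ideal.map_isPrime_of_surjective Ideal.Quotient.mk_surjective (hker.le.trans hpP)
  have hc : ∀ I : Ideal A, p.asIdeal ≤ I → (I.map π).comap π = I := fun I hI => by
    rw [Ideal.comap_map_of_surjective _ Ideal.Quotient.mk_surjective, ← RingHom.ker_eq_comap_bot, hker, sup_eq_left.2 hI]
  have hh : (P.map π).height ≤ 1 := by
    refine Ideal.height_le_one_of_isPrincipal_of_mem_minimalPrimes (Ideal.span {π x}) _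
      ⟨⟨inferInstance, (Ideal.span_singleton_le_iff_mem _).2 (Ideal.mem_map_of_mem π hxP)⟩, fun Q hQ hQP => ?_⟩
    haveI := hQ.1
    have h1 : p.asIdeal ⊔ Ideal.span {x} ≤ Q.comap π := sup_le
      (fun a ha => by rw [Ideal.mem_comap, Ideal.Quotient.eq_zero_iff_mem.2 ha]; exact zero_mem Q)
      ((Ideal.span_singleton_le_iff_mem _).2 (hQ.2 (Ideal.mem_span_singleton_self _)))
    exact Ideal.map_le_iff_le_comap.2 (hP.2 ⟨Ideal.IsPrime.comap π, h1⟩ ((Ideal.comap_mono hQP).trans_eq (hc P hpP)))
  have key : ∀ s : PrimeSpectrum A, p < s → ¬ s.asIdeal < P := by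
    intro s hps hsP
    haveI : (s.asIdeal.map π).IsPrime :=
      Ideal.map_isPrime_of_surjective Ideal.Quotient.mk_surjective (hker.le.trans hps.le)
    have h1 : s.asIdeal.map π < P.map π := (Ideal.map_mono hsP.le).lt_of_ne fun h => hsP.ne (by
      rw [← hc s.asIdeal hps.le, h, hc P hpP])
    have h2 : (⊥ : Ideal (A ⧸ p.asIdeal)) < s.asIdeal.map π := bot_lt_iff_ne_bot.2 fun h => hps.not_ge (by
      show s.asIdeal ≤ p.asIdeal
      rw [← hc s.asIdeal hps.le, h, ← RingHom.ker_eq_comap_bot, hker])
    have h4 := Ideal.height_strict_mono_of_isPrime_of_isPrime h1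
    have h5 := lt_of_lt_of_le h4 hh
    have h6 := Ideal.height_strict_mono_of_isPrime_of_isPrime h2
    rw [Order.lt_one_iff.1 h5] at h6
    exact not_lt_bot h6
  have hpP' : p < ⟨P, hPp⟩ := lt_of_le_of_ne hpP fun h => hxG p (Finset.mem_insert_self _ _) (by rw [h]; exact hxP)
  refine ⟨⟨P, hPp⟩, hpP', lt_of_le_of_ne hPq fun h => key r hpr (by rw [← h] at hrq; exact hrq), fun hF => ?_, key⟩
  refine hxG ⟨P, hPp⟩ (Finset.mem_insert_of_mem (Finset.mem_filter.2 ⟨hF, fun hqP => ?_⟩)) hxP
  exact key r hpr (lt_of_lt_of_le hrq hqP)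

/-- A local homomorphism surjective on spectra cannot lower the dimension. -/
theorem ringKrullDim_le_of_surjective_comap {A B : Type u} [CommRing A] [CommRing B] [IsLocalRing A] [IsLocalRing B]
    [IsNoetherianRing A] [IsNoetherianRing B] (φ : A →+* B) [IsLocalHom φ]
    (h : Function.Surjective (PrimeSpectrum.comap φ)) : ringKrullDim A ≤ ringKrullDim B := by
  classical
  have key : ∀ (n : ℕ) (l : LTSeries (PrimeSpectrum A)), l.length = n →
      ∃ L : LTSeries (PrimeSpectrum B), L.length = n ∧ PrimeSpectrum.comap φ L.head = l.head := by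
    intro n
    induction n with
    | zero => intro l _; obtain ⟨Q, hQ⟩ := h l.head; exact ⟨RelSeries.singleton _ Q, rfl, hQ⟩
    | succ n ih =>
      intro l hl
      obtain ⟨Q₀, hQ₀⟩ := h l.head
      rcases n with _ | m
      · refine ⟨(RelSeries.singleton _ (closedPoint B)).cons Q₀ (show Q₀ < closedPoint B from lt_of_le_of_ne ?_ fun hQ => ?_), rfl, ?_⟩
        · exact le_maximalIdeal Q₀.isPrime.ne_top
        · have h1 : l.head < l.last := l.strictMono (show (0 : Fin (l.length + 1)) < Fin.last _ from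
            Fin.lt_def.2 (show 0 < l.length by omega))
          rw [show Q₀ = closedPoint B from hQ] at hQ₀
          rw [← hQ₀] at h1
          refine h1.not_ge (show l.last.asIdeal ≤ (maximalIdeal B).comap φ from ?_)
          rw [IsLocalRing.maximalIdeal_comap]
          exact le_maximalIdeal l.last.isPrime.ne_top
        · rw [RelSeries.head_cons]; exact hQ₀
      · have h01 : l.head < l ⟨1, by omega⟩ := l.strictMono (show (0 : Fin (l.length + 1)) < ⟨1, by omega⟩ from Fin.lt_def.2 (by simp))
        have h12 : l ⟨1, by omega⟩ < l ⟨2, by omega⟩ := l.strictMono (Fin.lt_def.2 (by simp))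
        have hfin : (l.head.asIdeal.map φ).minimalPrimes.Finite := (l.head.asIdeal.map φ).finite_minimalPrimes_of_isNoetherianRing
        let F : Finset (PrimeSpectrum A) := (hfin.toFinset.attach).image fun Q =>
          PrimeSpectrum.comap φ ⟨Q.1, ((hfin.mem_toFinset).1 Q.2).1.1⟩
        obtain ⟨P, hP0, hP2, hPF, hcov⟩ := exists_cover_notMem h01 h12 F
        let d : LTSeries (PrimeSpectrum A) := l.drop ⟨2, by omega⟩
        have hd : P < d.head := by
          show P < (l.drop ⟨2, by omega⟩).head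
          rw [RelSeries.head_drop]
          exact hP2
        obtain ⟨L, hL, hLh⟩ := ih (d.cons P hd) (by
          simp only [d, RelSeries.cons_length, RelSeries.drop_length]; omega)
        rw [RelSeries.head_cons] at hLh
        have hle : l.head.asIdeal.map φ ≤ L.head.asIdeal := Ideal.map_le_iff_le_comap.2 (by
          have : l.head ≤ PrimeSpectrum.comap φ L.head := by rw [hLh]; exact hP0.le
          exact this)
        obtain ⟨Q', hQ', hQL⟩ := Ideal.exists_minimalPrimes_le hle
        let Q'' : PrimeSpectrum B := ⟨Q', hQ'.1.1⟩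
        have hmem : PrimeSpectrum.comap φ Q'' ∈ F :=
          Finset.mem_image.2 ⟨⟨Q', hfin.mem_toFinset.2 hQ'⟩, Finset.mem_attach _ _, rfl⟩
        have hge : l.head ≤ PrimeSpectrum.comap φ Q'' := Ideal.map_le_iff_le_comap.1 hQ'.1.2
        have hlt : PrimeSpectrum.comap φ Q'' < P := lt_of_le_of_ne
          (hLh ▸ (Ideal.comap_mono hQL : (PrimeSpectrum.comap φ Q'').asIdeal ≤ (PrimeSpectrum.comap φ L.head).asIdeal))
          fun e => hPF (e ▸ hmem)
        have heq : PrimeSpectrum.comap φ Q'' = l.head := by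
          rcases hge.lt_or_eq with hh | hh
          · exact absurd hlt (hcov _ hh)
          · exact hh.symm
        refine ⟨L.cons Q'' (lt_of_le_of_ne hQL fun e => hlt.ne ?_), by simp [hL], by rw [RelSeries.head_cons]; exact heq⟩
        rw [← hLh]; exact congrArg (PrimeSpectrum.comap φ) (PrimeSpectrum.ext e)
  refine iSup_le fun l => ?_
  obtain ⟨L, hL, -⟩ := key l.length l rfl
  rw [← hL]
  exact le_iSup (α := WithBot ℕ∞) (fun s : LTSeries (PrimeSpectrum B) => (s.length : WithBot ℕ∞)) L

/-- A morphism lifting generizations at `x` does not lower the local dimension. -/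
theorem ringKrullDim_stalk_le_of_isOpenAt {X Y : Scheme.{u}} [IsLocallyNoetherian X] [IsLocallyNoetherian Y]
    (f : X ⟶ Y) (x : X) (h : EGA43.IsOpenAt f.base x) :
    ringKrullDim (Y.presheaf.stalk (f.base x)) ≤ ringKrullDim (X.presheaf.stalk x) := by
  refine ringKrullDim_le_of_surjective_comap (f.stalkMap x).hom fun p => ?_
  have hp : (Y.fromSpecStalk (f.base x)).base p ⤳ f.base x := by
    have : (Y.fromSpecStalk (f.base x)).base p ∈ Set.range (Y.fromSpecStalk (f.base x)).base := ⟨p, rfl⟩
    rwa [Scheme.range_fromSpecStalk] at this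
  obtain ⟨x', hx', hfx'⟩ := (S3404.result f x).1 h _ hp
  obtain ⟨P, rfl⟩ : x' ∈ Set.range (X.fromSpecStalk x).base := by rw [Scheme.range_fromSpecStalk]; exact hx'
  refine ⟨P, (Y.fromSpecStalk (f.base x)).isEmbedding.injective ?_⟩
  rw [← hfx', ← Scheme.Hom.comp_apply, ← Scheme.SpecMap_stalkMap_fromSpecStalk f, Scheme.Hom.comp_apply]
  rfl

end Groth.Agent.DimFormulaLib

namespace Groth.Agent.DimFormulaLib

/-- `dim O_x ≤ dim O_y + dim (O_x / m_y O_x)`. -/
theorem ringKrullDim_stalk_le {X Y : Scheme.{u}} [IsLocallyNoetherian X] [IsLocallyNoetherian Y] (f : X ⟶ Y) (x : X) :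
    ringKrullDim (X.presheaf.stalk x) ≤ ringKrullDim (Y.presheaf.stalk (f.base x)) +
      ringKrullDim ((X.presheaf.stalk x : Type u) ⧸ (maximalIdeal (Y.presheaf.stalk (f.base x))).map (f.stalkMap x).hom) := by
  let R := Y.presheaf.stalk (f.base x)
  let S := X.presheaf.stalk x
  letI : Algebra R S := (f.stalkMap x).hom.toAlgebra
  haveI : IsLocalHom (algebraMap R S) := inferInstanceAs (IsLocalHom (f.stalkMap x).hom)
  haveI : (IsLocalRing.maximalIdeal S).LiesOver (IsLocalRing.maximalIdeal R) :=
    ⟨(IsLocalRing.maximalIdeal_comap (algebraMap R S)).symm⟩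
  let I := (IsLocalRing.maximalIdeal R).map (algebraMap R S)
  have hI : I ≤ IsLocalRing.maximalIdeal S := Ideal.map_le_iff_le_comap.2
    (IsLocalRing.maximalIdeal_comap (algebraMap R S)).ge
  have h := Ideal.height_le_height_add_of_liesOver (IsLocalRing.maximalIdeal R) (IsLocalRing.maximalIdeal S)
  haveI : Nontrivial (S ⧸ I) := Ideal.Quotient.nontrivial_iff.mpr
    (ne_top_of_le_ne_top (IsLocalRing.maximalIdeal.isMaximal S).ne_top hI)
  haveI : IsLocalRing (S ⧸ I) := .of_surjective' (Ideal.Quotient.mk I) Ideal.Quotient.mk_surjective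
  rw [← IsLocalRing.maximalIdeal_height_eq_ringKrullDim, ← IsLocalRing.maximalIdeal_height_eq_ringKrullDim,
    show ringKrullDim ((X.presheaf.stalk x : Type u) ⧸ (maximalIdeal (Y.presheaf.stalk (f.base x))).map (f.stalkMap x).hom) = ringKrullDim (S ⧸ I) from rfl,
    ← IsLocalRing.maximalIdeal_height_eq_ringKrullDim (R := S ⧸ I),
    ← IsLocalRing.map_maximalIdeal_of_surjective (Ideal.Quotient.mk I) Ideal.Quotient.mk_surjective]
  exact_mod_cast h

end Groth.Agent.DimFormulaLib
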